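import Groth.Agent.StabLib.Morph
import Groth.Agent.HilbPolyLib.Bound
import Mathlib.RingTheory.Jacobson.Ring
import Mathlib.LinearAlgebra.Eigenspace.Triangularizable

/-!
# Eigenvalues of endomorphisms of coherent modules
-/

set_option autoImplicit false
universe u

open CategoryTheory CategoryTheory.Limits AlgebraicGeometry TopologicalSpace Opposite
open DevissLib HilbPolyLib

noncomputable section

namespace StabLib

variable {X : Scheme.{u}}

/-- Multiplication by a global function. -/
def smulHom (M : X.Modules) (r : Coh.Γtop X) : M ⟶ M :=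
  ⟨PresheafOfModules.homMk (Coh.smulAb M r).hom fun U s m => by
    letI : CommRing (X.ringCatSheaf.obj.obj U) := inferInstanceAs (CommRing (X.presheaf.obj U))
    change Coh.resTop X U r • (s • m) = s • (Coh.resTop X U r • m)
    rw [← mul_smul, ← mul_smul, mul_comm]⟩

theorem smulHom_app (M : X.Modules) (r : Coh.Γtop X) (U : X.Opens) (m : Γ(M, U)) :
    (smulHom M r).app U m = (X.presheaf.map (homOfLE (le_top : U ≤ ⊤)).op (show Γ(X, ⊤) from r)) • m := rfl

variable {k : Type u} [Field k] [X.Over (Spec (CommRingCat.of k))]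

/-- An endomorphism of a nonzero coherent module is not injective after subtracting some scalar. -/
theorem exists_not_isIso_sub [IsAlgClosed k] [IsProper (X ↘ Spec (CommRingCat.of k))] {M : X.Modules}
    (hM : Coh.IsCoh M) (h0 : ¬ IsZero M) (φ : M ⟶ M) :
    ∃ c : k, ¬ IsIso (φ - smulHom M (Coh.toGlobal (X ↘ Spec (CommRingCat.of k)) c)) := by
  classical
  haveI : Coh.IsQCoh M := hM.1
  obtain ⟨U, hU, hne⟩ : ∃ U : X.Opens, IsAffineOpen U ∧ Nontrivial Γ(M, U) := by
    by_contra h
    push Not at h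
    haveI : IsIso (0 : M ⟶ M) := QCohLib.isIso_of_bijective_affine _ fun U hU => by
      haveI : Subsingleton Γ(M, U) := h U hU
      exact ⟨fun a b _ => Subsingleton.elim a b, fun b => ⟨b, Subsingleton.elim _ _⟩⟩
    exact h0 ((IsZero.iff_id_eq_zero _).mpr (by rw [← IsIso.hom_inv_id (0 : M ⟶ M), zero_comp]))
  let A := Γ(X, U)
  haveI : Module.Finite A Γ(M, U) := QCohLib.finite_of_isFT hM.2 hU
  obtain ⟨p, hp, hpM⟩ : ∃ p : Ideal A, p.IsMaximal ∧ p • (⊤ : Submodule A Γ(M, U)) ≠ ⊤ := by
    have hann : Module.annihilator A Γ(M, U) ≠ ⊤ := fun h => by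
      obtain ⟨m, hm⟩ := exists_ne (0 : Γ(M, U))
      exact hm (by simpa using Module.mem_annihilator.mp (h.symm ▸ Submodule.mem_top : (1 : A) ∈ _) m)
    obtain ⟨p, hp, hle⟩ := Ideal.exists_le_maximal _ hann
    refine ⟨p, hp, fun he => ?_⟩
    obtain ⟨r, hr, hr'⟩ := Submodule.exists_sub_one_mem_and_smul_eq_zero_of_fg_of_le_smul p ⊤
      Module.Finite.fg_top he.ge
    have : r ∈ p := hle (Module.mem_annihilator.mpr fun m => hr' m trivial)
    exact hp.ne_top ((Ideal.eq_top_iff_one p).mpr (by simpa using p.sub_mem this hr))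
  haveI := hp
  letI : Algebra k A := (kTo k U).toAlgebra
  haveI : Algebra.FiniteType k A := finiteType_kTo hU
  letI : Module k Γ(M, U) := Module.compHom _ (kTo k U)
  haveI : IsScalarTower k A Γ(M, U) := ⟨fun a b m => by
    change (kTo k U a * b) • m = kTo k U a • (b • m)
    rw [mul_smul]⟩
  let V := Γ(M, U) ⧸ (p • (⊤ : Submodule A Γ(M, U)))
  haveI : Nontrivial V := Submodule.Quotient.nontrivial_iff.mpr hpM
  letI : Field (A ⧸ p) := Ideal.Quotient.field p
  haveI : Algebra.FiniteType k (A ⧸ p) :=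
    Algebra.FiniteType.of_surjective (Ideal.Quotient.mkₐ k p) (Ideal.Quotient.mkₐ_surjective k p)
  haveI : Module.Finite k (A ⧸ p) := finite_of_finite_type_of_isJacobsonRing k (A ⧸ p)
  haveI : Module.Finite (A ⧸ p) V := Module.Finite.of_restrictScalars_finite A _ _
  haveI : Module.Finite k V := Module.Finite.trans (A ⧸ p) V
  let lin (ψ : M ⟶ M) : Γ(M, U) →ₗ[A] Γ(M, U) :=
    { toFun := ψ.app U
      map_add' := fun a b => map_add _ a b
      map_smul' := fun r a => Scheme.Modules.Hom.app_smul ψ r a }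
  let T (ψ : M ⟶ M) : V →ₗ[k] V :=
    (Submodule.mapQ _ _ (lin ψ) (by
      rw [← Submodule.map_le_iff_le_comap, Submodule.map_smul'']
      exact Submodule.smul_mono le_rfl le_top)).restrictScalars k
  obtain ⟨c, hc⟩ := Module.End.exists_eigenvalue (T φ)
  obtain ⟨v, hv⟩ := hc.exists_hasEigenvector
  refine ⟨c, fun hi => hv.2 ?_⟩
  let ψ := φ - smulHom M (Coh.toGlobal (X ↘ Spec (CommRingCat.of k)) c)
  haveI : IsIso ψ := hi
  have hid : ∀ x : Γ(M, U), lin (inv ψ) (lin ψ x) = x := fun x => by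
    change ((ψ ≫ inv ψ).app U) x = x
    rw [IsIso.hom_inv_id]
    rfl
  obtain ⟨x, rfl⟩ := Submodule.Quotient.mk_surjective _ v
  have h1 := hv.apply_eq_smul
  have h2 : T ψ (Submodule.Quotient.mk x) = 0 := by
    change Submodule.Quotient.mk (lin ψ x) = 0
    have e : lin ψ x = lin φ x - c • x := rfl
    rw [e, Submodule.Quotient.mk_sub, Submodule.Quotient.mk_smul, sub_eq_zero]
    exact h1
  have h3 : T (inv ψ) (T ψ (Submodule.Quotient.mk x)) = Submodule.Quotient.mk x := by
    change Submodule.Quotient.mk (lin (inv ψ) (lin ψ x)) = _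
    rw [hid]
  rw [← h3, h2, map_zero]

/-- A stable module over an algebraically closed field is simple. -/
theorem eq_smulHom_of_stable [IsAlgClosed k] [IsProper (X ↘ Spec (CommRingCat.of k))] {L : X.Modules}
    (hA : CohB1.IsAmple L) {d : ℕ} {E : X.Modules} (hE : ShStab.IsStable k X L E d) (φ : E ⟶ E) :
    ∃ c : k, φ = smulHom E (Coh.toGlobal (X ↘ Spec (CommRingCat.of k)) c) := by
  obtain ⟨c, hc⟩ := exists_not_isIso_sub (k := k) hE.1 hE.2.1 φ
  refine ⟨c, ?_⟩
  by_contra hne
  exact hc (isIso_of_stable (k := k) hA (stable_semistable (k := k) hE) (stable_semistable (k := k) hE) (Or.inl hE) rfl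
    (sub_ne_zero.mpr hne))

end StabLib

end
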