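import Groth.Agent.QCohLib.Coherent
import Mathlib.RingTheory.Finiteness.Finsupp

/-!
# Extensions of coherent modules are coherent
-/

set_option autoImplicit false
universe u

open CategoryTheory CategoryTheory.Limits AlgebraicGeometry TopologicalSpace Opposite

noncomputable section

namespace StabLib

variable {X : Scheme.{u}}

/-- Sections of a morphism as a linear map. -/
def appLin {M N : X.Modules} (φ : M ⟶ N) (U : X.Opens) : Γ(M, U) →ₗ[Γ(X, U)] Γ(N, U) where
  toFun := φ.app U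
  map_add' a b := map_add _ a b
  map_smul' r a := Scheme.Modules.Hom.app_smul φ r a

theorem isCoh_extension {S : ShortComplex X.Modules} (hS : S.ShortExact) (h₁ : Coh.IsCoh S.X₁)
    (h₃ : Coh.IsCoh S.X₃) : Coh.IsCoh S.X₂ := by
  haveI : Coh.IsQCoh S.X₁ := h₁.1
  haveI : Coh.IsQCoh S.X₃ := h₃.1
  haveI : Coh.IsQCoh S.X₂ := QCohLib.isQCoh_of_shortExact hS
  refine ⟨inferInstance, QCohLib.isFT_of_finite fun p => ?_⟩
  obtain ⟨U, hU, hp⟩ := QCohLib.exists_affine_nhd p
  refine ⟨U, hU, hp, ?_⟩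
  haveI := QCohLib.finite_of_isFT h₁.2 hU
  haveI := QCohLib.finite_of_isFT h₃.2 hU
  refine Module.Finite.of_exact (f := appLin S.f U) (g := appLin S.g U) (fun x => ⟨fun h => ?_, ?_⟩)
    (fun y => QCohLib.app_surjective_of_affine hS hU y)
  · obtain ⟨y, hy⟩ := QCohLib.exists_of_app_eq_zero hS.exact hS.mono_f x h
    exact ⟨y, hy⟩
  · rintro ⟨y, rfl⟩
    exact QCohLib.map_eq_zero_of_zero y

end StabLib

end
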