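import Groth.Agent.StabLib.Morph

/-!
# Harder-Narasimhan and Jordan-Hölder filtrations
-/

set_option autoImplicit false
universe u

open CategoryTheory CategoryTheory.Limits AlgebraicGeometry TopologicalSpace Opposite
open DevissLib HilbPolyLib

noncomputable section

namespace StabLib

variable {X : Scheme.{u}} {k : Type u} [Field k] [X.Over (Spec (CommRingCat.of k))]
  [IsProper (X ↘ Spec (CommRingCat.of k))] {L : X.Modules} (hA : CohB1.IsAmple L) {d : ℕ}
  {E : X.Modules} [IsNoetherian X] (hE : Coh.IsCoh E)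
  (hd : topologicalKrullDim (CohB1.support E) ≤ (d : ℕ))

theorem bot_lt_top (hA : CohB1.IsAmple L) (hd : topologicalKrullDim (CohB1.support E) ≤ (d : ℕ))
    (k : Type u) [Field k] [X.Over (Spec (CommRingCat.of k))] [IsProper (X ↘ Spec (CommRingCat.of k))]
    (h0 : ¬ IsZero E) :
    letI := cLattice hE
    letI := cBounded hE
    (⊥ : CSub E) < ⊤ := by
  letI := cLattice hE
  letI := cBounded hE
  refine lt_of_le_of_ne bot_le fun he => h0 ?_
  have h := q_top (k := k) hA hE hd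
  rw [← he, Val.q_self] at h
  by_contra hz
  exact ps_ne_zero (hPoly_ps hA hE hz) h.symm

include hA hE hd

theorem hnc_iff (t : @LTSeries (CSub E) (@Subtype.preorder _ _ _)) :
    letI := cLattice hE
    letI := cBounded hE
    ShStab.IsHNFiltration k X L E d (toSub t) ↔ (cVal (k := k) hA hE hd).HNc ⊥ t := by
  letI := cLattice hE
  letI := cBounded hE
  have hle : ∀ i : Fin t.length, (t i.castSucc).1 ≤ (t i.succ).1 := fun i => le_of_lt (t.step i)
  constructor
  · rintro ⟨h1, h2, h3, h4⟩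
    refine ⟨Subtype.ext h1, Subtype.ext h2, fun i => (semistable_cFac_iff hA hE hd (hle i)).mp (h3 i),
      fun i j hij => ?_⟩
    have := h4 i j hij _ _ (hPoly_spec hA (isCoh_cFac (hle i))) (hPoly_spec hA (isCoh_cFac (hle j)))
    rw [redLT_iff] at this
    change Ps (dd d (HPoly k L (cFac _ _ (hle j))) (HPoly k L (cFac _ _ (hle i)))) at this
    rw [hPoly_cFac hA hE hd, hPoly_cFac hA hE hd] at this
    exact this
  · rintro ⟨h1, h2, h3, h4⟩
    refine ⟨congrArg Subtype.val h1, congrArg Subtype.val h2,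
      fun i => (semistable_cFac_iff hA hE hd (hle i)).mpr (h3 i), fun i j hij p q hp hq => ?_⟩
    rw [redLT_iff, ← hPoly_eq hA (isCoh_cFac (hle i)) hp, ← hPoly_eq hA (isCoh_cFac (hle j)) hq,
      hPoly_cFac hA hE hd, hPoly_cFac hA hE hd]
    exact h4 i j hij

theorem existsUnique_hn (hp : ShStab.IsPure X E d) :
    ∃! s : LTSeries (Subobject E), ShStab.IsHNFiltration k X L E d s := by
  letI := cLattice hE
  letI := cBounded hE
  haveI := cWf hE
  obtain ⟨t, ht⟩ := (cVal (k := k) hA hE hd).exists_hn ⊥ ((isPure_iff hA hE hd).mp hp)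
  refine ⟨toSub t, (hnc_iff hA hE hd t).mpr ht, fun s hs => ?_⟩
  obtain ⟨t', rfl⟩ := exists_lift hE s hs.2.1 fun i => (hs.2.2.1 i).1
  rw [((hnc_iff hA hE hd t').mp hs).unique ht]

theorem exists_maxDestab (h0 : ¬ IsZero E) (hp : ShStab.IsPure X E d) :
    ∃ (F : X.Modules) (ι : F ⟶ E), ShStab.IsMaxDestab k X L E d F ι := by
  letI := cLattice hE
  letI := cBounded hE
  haveI := cWf hE
  obtain ⟨f, hf⟩ := (cVal (k := k) hA hE hd).exists_maxD ((isPure_iff hA hE hd).mp hp)
    (bot_lt_top hE hA hd k h0)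
  refine ⟨(f.1 : X.Modules), f.1.arrow, inferInstance, f.2, fun hz => ?_, fun G κ hκ hG hG0 pF pG hpF hpG => ?_⟩
  · have := (cVal (k := k) hA hE hd).lt hf.1
    rw [← Val.q, q_bot, hPoly_zero hA hz] at this
    exact ps_ne_zero this rfl
  · let c : CSub E := ⟨Subobject.mk κ, QCohLib.isCoh_of_iso (Subobject.underlyingIso κ).symm hG⟩
    have e : HPoly k L (c.1 : X.Modules) = HPoly k L G := hPoly_congr hA c.2 (Subobject.underlyingIso κ)
    have hc : ⊥ < c := by
      refine lt_of_le_of_ne bot_le fun he => ?_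
      have h1 := q_bot (k := k) hA hE hd c
      rw [← he, Val.q_self, he, e] at h1
      exact ps_ne_zero (hPoly_ps hA hG hG0) h1.symm
    obtain ⟨hnn, heq⟩ := hf.2 c hc
    rw [q_bot, q_bot, e] at hnn heq
    rw [redLE_iff, redEq_iff, ← hPoly_eq hA f.2 hpF, ← hPoly_eq hA hG hpG]
    refine ⟨hnn, fun h => ⟨(Subobject.underlyingIso κ).inv ≫ Subobject.ofLE c.1 f.1 (heq h), ?_⟩⟩
    rw [Category.assoc, Subobject.ofLE_arrow]
    exact Subobject.underlyingIso_arrow κ

theorem exists_jhFilt (hss : ShStab.IsSemistable k X L E d) :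
    ∃ s : LTSeries (Subobject E), ShStab.IsJHFiltration k X L E d s := by
  letI := cLattice hE
  letI := cBounded hE
  haveI := cWf hE
  have hle : ((⊥ : CSub E)).1 ≤ ((⊤ : CSub E)).1 := bot_le (a := (⊤ : Subobject E))
  have hsemi := (semistable_cFac_iff (k := k) hA hE hd hle).mp (isSemistable_congr (cFacBotTop hE).symm hss)
  obtain ⟨t, h1, h2, h3⟩ := (cVal (k := k) hA hE hd).exists_jh hsemi ⊥ (by rw [Val.q_self, dd_zero_left])
  have hle' : ∀ i : Fin t.length, (t i.castSucc).1 ≤ (t i.succ).1 := fun i => le_of_lt (t.step i)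
  refine ⟨toSub t, congrArg Subtype.val h1, congrArg Subtype.val h2, fun i =>
    ⟨(stable_cFac_iff hA hE hd (hle' i)).mpr (h3 i).1, fun p q hp hq => ?_⟩⟩
  rw [redEq_iff, ← hPoly_eq hA (isCoh_cFac (hle' i)) hp, ← hPoly_eq hA hE hq, hPoly_cFac hA hE hd,
    ← q_top (k := k) hA hE hd]
  exact (h3 i).2

theorem hn_first {s : LTSeries (Subobject E)} (hs : ShStab.IsHNFiltration k X L E d s)
    (j : Fin s.length) (hj : j.val = 0) {F : X.Modules} (ι : F ⟶ E) [Mono ι] (hF : Coh.IsCoh F)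
    {p : Polynomial ℚ} (hp : ShStab.IsHilbPoly k X L (StabCat.factor s j) p) :
    Nn (dd d (HPoly k L F) p) ∧ 0 < StabCat.alpha d p := by
  letI := cLattice hE
  letI := cBounded hE
  obtain ⟨t, rfl⟩ := exists_lift hE s hs.2.1 fun i => (hs.2.2.1 i).1
  have ht := (hnc_iff hA hE hd t).mp hs
  let j' : Fin t.length := j
  have hle : (t j'.castSucc).1 ≤ (t j'.succ).1 := le_of_lt (t.step j')
  have hj0 : t j'.castSucc = ⊥ := (congrArg t.toFun (Fin.ext hj : j'.castSucc = 0)).trans ht.1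
  let c : CSub E := ⟨Subobject.mk ι, QCohLib.isCoh_of_iso (Subobject.underlyingIso ι).symm hF⟩
  have h := (ht.first j' c (hj0 ▸ bot_le)).1
  have e : p = (cVal (k := k) hA hE hd).stp t j' := by
    rw [← hPoly_eq hA (isCoh_cFac hle) hp, hPoly_cFac hA hE hd hle]; rfl
  refine ⟨?_, e ▸ ht.alpha_stp j'⟩
  rw [hj0, q_bot, hPoly_congr (k := k) hA c.2 (Subobject.underlyingIso ι)] at h
  rw [e]
  exact h

theorem hn_last {s : LTSeries (Subobject E)} (hs : ShStab.IsHNFiltration k X L E d s)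
    (i : Fin s.length) (hi : i.val + 1 = s.length) {G : X.Modules} (π : E ⟶ G) [Epi π] (hG : Coh.IsCoh G)
    {p : Polynomial ℚ} (hp : ShStab.IsHilbPoly k X L (StabCat.factor s i) p) :
    Nn (dd d p (HPoly k L G)) ∧ 0 < StabCat.alpha d p := by
  letI := cLattice hE
  letI := cBounded hE
  obtain ⟨t, rfl⟩ := exists_lift hE s hs.2.1 fun i => (hs.2.2.1 i).1
  have ht := (hnc_iff hA hE hd t).mp hs
  let i' : Fin t.length := i
  have hle : (t i'.castSucc).1 ≤ (t i'.succ).1 := le_of_lt (t.step i')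
  have hK := QCohLib.isCoh_kernel π hE hG.1
  let c : CSub E := ⟨Subobject.mk (kernel.ι π), QCohLib.isCoh_of_iso (Subobject.underlyingIso _).symm hK⟩
  have h := ht.last_le i' hi (c := c) bot_le
  have e : p = (cVal (k := k) hA hE hd).stp t i' := by
    rw [← hPoly_eq hA (isCoh_cFac hle) hp, hPoly_cFac hA hE hd hle]; rfl
  refine ⟨?_, e ▸ ht.alpha_stp i'⟩
  have eG : (cVal (k := k) hA hE hd).q c ⊤ = HPoly k L G := by
    rw [← (eq_sub_of_add_eq' ((cVal (k := k) hA hE hd).q_add ⊥ c ⊤)).symm, q_top, q_bot,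
      hPoly_congr (k := k) hA c.2 (Subobject.underlyingIso _), hPoly_ker (k := k) hA π hE hG, add_sub_cancel_left]
  rw [eG] at h
  rw [e]
  exact h

/-- Saturation of a submodule. -/
theorem exists_saturation {F : X.Modules} (ι : F ⟶ E) [Mono ι] (hF : Coh.IsCoh F) :
    ∃ (F' : X.Modules) (ι' : F' ⟶ E), Mono ι' ∧ Coh.IsCoh F' ∧
      StabCat.alpha d (HPoly k L F') = StabCat.alpha d (HPoly k L F) ∧
      Nn (HPoly k L F' - HPoly k L F) ∧ (¬ IsZero F → ¬ IsZero F') ∧
      (IsIso ι' ∨ ShStab.IsPure X (cokernel ι') d) := by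
  letI := cLattice hE
  letI := cBounded hE
  haveI := cWf hE
  let V := cVal (k := k) hA hE hd
  let c₀ : CSub E := ⟨Subobject.mk ι, QCohLib.isCoh_of_iso (Subobject.underlyingIso ι).symm hF⟩
  have e₀ : HPoly k L (c₀.1 : X.Modules) = HPoly k L F := hPoly_congr hA c₀.2 (Subobject.underlyingIso ι)
  obtain ⟨c, ⟨hc₀c, hc⟩, hmax⟩ := (wellFounded_gt (α := CSub E)).has_min {c | c₀ ≤ c ∧ V.al c₀ c = 0}
    ⟨c₀, le_rfl, by rw [Val.al, Val.q_self, alpha_zero]⟩
  have hαc : StabCat.alpha d (HPoly k L (c.1 : X.Modules)) = StabCat.alpha d (HPoly k L F) := by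
    rw [Val.al_eq, sub_eq_zero] at hc
    exact hc.trans (congrArg _ e₀)
  have hnn : Nn (HPoly k L (c.1 : X.Modules) - HPoly k L F) := e₀ ▸ V.nn_q hc₀c
  refine ⟨(c.1 : X.Modules), c.1.arrow, inferInstance, c.2, hαc, hnn, fun hF0 hz => ?_, ?_⟩
  · rw [hPoly_zero hA hz, zero_sub, nn_neg_iff] at hnn
    exact hnn (hPoly_ps hA hF hF0)
  by_cases htop : c.1 = ⊤
  · exact Or.inl ((Subobject.isIso_arrow_iff_eq_top _).mpr htop)
  refine Or.inr ?_
  have hle : c.1 ≤ ((⊤ : CSub E)).1 := le_top (a := c.1)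
  haveI : IsIso (⊤ : Subobject E).arrow := inferInstance
  have e : cFac c ⊤ hle ≅ cokernel c.1.arrow :=
    cokernel.mapIso _ _ (Iso.refl _) (asIso (⊤ : Subobject E).arrow)
      (by simp only [Iso.refl_hom, Category.id_comp, asIso_hom]; exact Subobject.ofLE_arrow hle)
  refine isPure_congr e fun G κ hκ hG hG0 => ?_
  obtain ⟨b, hcb, -, eG, hlt, -⟩ := exists_between (k := k) hA hE hd hle κ hG
  refine (hPoly_alpha_pos_iff (k := k) hA hG ((dim_mono (support_mono κ)).trans (dim_cFac hd hle))).mp ?_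
  rw [eG]
  refine lt_of_le_of_ne (V.al_nonneg hcb) fun h => hmax b ⟨hc₀c.trans hcb, ?_⟩ (hlt hG0)
  rw [← V.al_add c₀ c b, hc, zero_add]
  exact h.symm

end StabLib

end
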