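import Groth.Agent.StabLib.Bridge

/-!
# Morphisms of semistable modules
-/

set_option autoImplicit false
universe u

open CategoryTheory CategoryTheory.Limits AlgebraicGeometry TopologicalSpace Opposite
open DevissLib HilbPolyLib

noncomputable section

namespace StabLib

variable {X : Scheme.{u}} {k : Type u} [Field k] [X.Over (Spec (CommRingCat.of k))]
  [IsProper (X ↘ Spec (CommRingCat.of k))] {L : X.Modules} (hA : CohB1.IsAmple L) {d : ℕ}

theorem isZero_of_isIso_π {A B : X.Modules} (f : A ⟶ B) [Mono f] [IsIso (cokernel.π f)] : IsZero A := by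
  rw [IsZero.iff_id_eq_zero, ← cancel_mono f, Category.id_comp, zero_comp,
    ← cancel_mono (cokernel.π f), cokernel.condition, zero_comp]

theorem isIso_of_isZero_coker {A B : X.Modules} (f : A ⟶ B) [Mono f] (h : IsZero (cokernel f)) : IsIso f := by
  haveI : Epi f := Preadditive.epi_of_cancel_zero _ fun g hg => by
    rw [← cokernel.π_desc _ g hg, h.eq_of_src (cokernel.desc _ g hg) 0, comp_zero]
  exact isIso_of_mono_of_epi f

theorem isIso_of_isZero_ker {A B : X.Modules} (f : A ⟶ B) [Epi f] (h : IsZero (kernel f)) : IsIso f := by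
  haveI : Mono f := Preadditive.mono_of_cancel_zero _ fun g hg => by
    rw [← kernel.lift_ι f g hg, h.eq_of_tgt (kernel.lift f g hg) 0, zero_comp]
  exact isIso_of_mono_of_epi f

theorem stable_semistable {E : X.Modules} (h : ShStab.IsStable k X L E d) :
    ShStab.IsSemistable k X L E d := by
  refine ⟨h.1, h.2.1, h.2.2.1, fun F ι hι hF hF0 hiso pF pE hp hq => ?_⟩
  rw [redLE_iff]
  exact ((redLT_iff d).mp (h.2.2.2 F ι hι hF hF0 hiso pF pE hp hq)).nn

theorem isSemistable_congr {E E' : X.Modules} (e : E ≅ E') (h : ShStab.IsSemistable k X L E d) :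
    ShStab.IsSemistable k X L E' d :=
  ⟨QCohLib.isCoh_of_iso e h.1, fun hz => h.2.1 (hz.of_iso e), isPure_congr e h.2.2.1,
    fun F ι hι hF hF0 hiso pF pE hp hq => h.2.2.2 F (ι ≫ e.inv) inferInstance hF hF0
      (fun hi => hiso (by
        have : IsIso ((ι ≫ e.inv) ≫ e.hom) := inferInstance
        simpa using this)) pF pE hp (isHilbPoly_congr e.symm hq)⟩

include hA

theorem alpha_pos_of_pure {E F : X.Modules} (hp : ShStab.IsPure X E d) (ι : F ⟶ E) [Mono ι]
    (hF : Coh.IsCoh F) (h0 : ¬ IsZero F) : 0 < StabCat.alpha d (HPoly k L F) :=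
  HilbPolyLib.alpha_pos hA hF (hPoly_spec hA hF) (hp F ι inferInstance hF h0)

theorem sub_le {E F : X.Modules} (hE : ShStab.IsSemistable k X L E d) (ι : F ⟶ E) [Mono ι]
    (hF : Coh.IsCoh F) : Nn (dd d (HPoly k L F) (HPoly k L E)) := by
  by_cases h0 : IsZero F
  · rw [hPoly_zero hA h0, dd_zero_left]; exact nn_zero
  by_cases hi : IsIso ι
  · rw [hPoly_congr (k := k) hA hF (asIso ι), dd_self]; exact nn_zero
  exact (redLE_hPoly_iff hA hF hE.1).mp (hE.2.2.2 F ι inferInstance hF h0 hi)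

theorem quot_eq {E G : X.Modules} (π : E ⟶ G) [Epi π] (hE : Coh.IsCoh E) (hG : Coh.IsCoh G) :
    dd d (HPoly k L E) (HPoly k L G) = dd d (HPoly k L (kernel π)) (HPoly k L E) := by
  have e := hPoly_ker (k := k) hA π hE hG
  rw [show HPoly k L G = HPoly k L E - HPoly k L (kernel π) from eq_sub_of_add_eq' e.symm,
    dd_sub_right, dd_self, zero_sub, ← dd_swap]

theorem quot_ge {E G : X.Modules} (hE : ShStab.IsSemistable k X L E d) (π : E ⟶ G) [Epi π]
    (hG : Coh.IsCoh G) : Nn (dd d (HPoly k L E) (HPoly k L G)) := by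
  haveI := CurvLib.isNoetherian k (X := X)
  rw [quot_eq hA π hE.1 hG]
  exact sub_le hA hE (kernel.ι π) (QCohLib.isCoh_kernel π hE.1 hG.1)

theorem sub_lt {E F : X.Modules} (hE : ShStab.IsStable k X L E d) (ι : F ⟶ E) [Mono ι]
    (hF : Coh.IsCoh F) (h0 : ¬ IsZero F) (hi : ¬ IsIso ι) :
    Ps (dd d (HPoly k L F) (HPoly k L E)) :=
  (redLT_hPoly_iff hA hF hE.1).mp (hE.2.2.2 F ι inferInstance hF h0 hi)

theorem quot_gt {E G : X.Modules} (hE : ShStab.IsStable k X L E d) (π : E ⟶ G) [Epi π]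
    (hG : Coh.IsCoh G) (h0 : ¬ IsZero G) (hi : ¬ IsIso π) :
    Ps (dd d (HPoly k L E) (HPoly k L G)) := by
  haveI := CurvLib.isNoetherian k (X := X)
  rw [quot_eq hA π hE.1 hG]
  refine sub_lt hA hE (kernel.ι π) (QCohLib.isCoh_kernel π hE.1 hG.1) (fun hz => hi (isIso_of_isZero_ker π hz))
    fun hiso => h0 ?_
  have : π = 0 := by rw [← cancel_epi (kernel.ι π), kernel.condition, comp_zero]
  rw [IsZero.iff_id_eq_zero, ← cancel_epi π, Category.comp_id, comp_zero, this]

theorem image_facts {F G : X.Modules} (hF : Coh.IsCoh F) (hG : Coh.IsCoh G)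
    (hGp : ShStab.IsPure X G d) {φ : F ⟶ G} (hφ : φ ≠ 0) :
    Coh.IsCoh (Abelian.image φ) ∧ 0 < StabCat.alpha d (HPoly k L (Abelian.image φ)) := by
  haveI := CurvLib.isNoetherian k (X := X)
  have hI := isCoh_image φ hF hG
  refine ⟨hI, alpha_pos_of_pure hA hGp (Abelian.image.ι φ) hI fun hz => hφ ?_⟩
  rw [← Abelian.image.fac φ, hz.eq_of_src (Abelian.image.ι φ) 0, comp_zero]

theorem hom_eq_zero {F G : X.Modules} (hF : ShStab.IsSemistable k X L F d)
    (hG : ShStab.IsSemistable k X L G d) (h : Ps (dd d (HPoly k L G) (HPoly k L F))) (φ : F ⟶ G) :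
    φ = 0 := by
  by_contra hφ
  obtain ⟨hI, hα⟩ := image_facts (k := k) hA hF.1 hG.1 hG.2.2.1 hφ
  have := dd_trans d (alpha_pos_of_pure (k := k) hA hF.2.2.1 (𝟙 F) hF.1 hF.2.1).le hα
    (alpha_pos_of_pure (k := k) hA hG.2.2.1 (𝟙 G) hG.1 hG.2.1).le
    (quot_ge hA hF (Abelian.factorThruImage φ) hI) (sub_le hA hG (Abelian.image.ι φ) hI)
  rw [dd_swap, nn_neg_iff] at this
  exact this h

theorem mono_of_stable {F G : X.Modules} (hF : ShStab.IsStable k X L F d)
    (hG : ShStab.IsSemistable k X L G d) (h : dd d (HPoly k L F) (HPoly k L G) = 0) {φ : F ⟶ G}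
    (hφ : φ ≠ 0) : Mono φ := by
  obtain ⟨hI, hα⟩ := image_facts (k := k) hA hF.1 hG.1 hG.2.2.1 hφ
  have : IsIso (Abelian.factorThruImage φ) := by
    by_contra hi
    have := dd_trans_lt_le d (alpha_pos_of_pure (k := k) hA hF.2.2.1 (𝟙 F) hF.1 hF.2.1).le hα
      (alpha_pos_of_pure (k := k) hA hG.2.2.1 (𝟙 G) hG.1 hG.2.1)
      (quot_gt hA hF (Abelian.factorThruImage φ) hI (fun hz => hφ (by
        rw [← Abelian.image.fac φ, hz.eq_of_tgt (Abelian.factorThruImage φ) 0, zero_comp])) hi)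
      (sub_le hA hG (Abelian.image.ι φ) hI)
    rw [h] at this
    exact ps_ne_zero this rfl
  rw [← Abelian.image.fac φ]
  infer_instance

theorem epi_of_stable {F G : X.Modules} (hF : ShStab.IsSemistable k X L F d)
    (hG : ShStab.IsStable k X L G d) (h : dd d (HPoly k L F) (HPoly k L G) = 0) {φ : F ⟶ G}
    (hφ : φ ≠ 0) : Epi φ := by
  obtain ⟨hI, hα⟩ := image_facts (k := k) hA hF.1 hG.1 hG.2.2.1 hφ
  have : IsIso (Abelian.image.ι φ) := by
    by_contra hi
    have := dd_trans_le_lt d (alpha_pos_of_pure (k := k) hA hF.2.2.1 (𝟙 F) hF.1 hF.2.1) hα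
      (alpha_pos_of_pure (k := k) hA hG.2.2.1 (𝟙 G) hG.1 hG.2.1).le
      (quot_ge hA hF (Abelian.factorThruImage φ) hI)
      (sub_lt hA hG (Abelian.image.ι φ) hI (fun hz => hφ (by
        rw [← Abelian.image.fac φ, hz.eq_of_src (Abelian.image.ι φ) 0, comp_zero])) hi)
    rw [h] at this
    exact ps_ne_zero this rfl
  rw [← Abelian.image.fac φ]
  infer_instance

theorem isIso_of_stable {F G : X.Modules} (hF : ShStab.IsSemistable k X L F d)
    (hG : ShStab.IsSemistable k X L G d)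
    (hst : ShStab.IsStable k X L F d ∨ ShStab.IsStable k X L G d)
    (h : HPoly k L F = HPoly k L G) {φ : F ⟶ G} (hφ : φ ≠ 0) : IsIso φ := by
  haveI := CurvLib.isNoetherian k (X := X)
  have h0 : dd d (HPoly k L F) (HPoly k L G) = 0 := by rw [h, dd_self]
  rcases hst with hs | hs
  · haveI := mono_of_stable hA hs hG h0 hφ
    refine isIso_of_isZero_coker φ ?_
    by_contra hz
    have := hPoly_coker (k := k) hA φ hF.1 hG.1
    rw [h, left_eq_add] at this
    exact ps_ne_zero (hPoly_ps hA (QCohLib.isCoh_cokernel φ hF.1.1 hG.1) hz) this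
  · haveI := epi_of_stable hA hF hs h0 hφ
    refine isIso_of_isZero_ker φ ?_
    by_contra hz
    have := hPoly_ker (k := k) hA φ hF.1 hG.1
    rw [← h, right_eq_add] at this
    exact ps_ne_zero (hPoly_ps hA (QCohLib.isCoh_kernel φ hF.1 hG.1.1) hz) this

end StabLib

end
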