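import Groth.Agent.CurvParLib.Stalk
import Groth.Agent.CohCmpLib.FibreStalk
import Groth.Agent.MiscFlat6.FreeStalks
import Groth.Agent.LocSuppLib.LocFree
import Groth.Agent.StabLib.Morph

/-!
# Morphisms of semistable sheaves vanishing at a point
-/

set_option autoImplicit false
set_option linter.style.haveILetI false
set_option backward.isDefEq.respectTransparency false
set_option maxHeartbeats 1600000
universe u

open CategoryTheory CategoryTheory.Limits AlgebraicGeometry TopologicalSpace Opposite Polynomial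
open DevissLib QCohLib HilbPolyLib
open scoped TensorProduct

noncomputable section

namespace StabLib

variable {X : Scheme.{u}}

/-- A map is zero in the fibre at a point. -/
def ZeroAt (x : X) {A B : X.Modules} (f : A ⟶ B) : Prop :=
  LinearMap.range ((St x).map f).hom ≤
    IsLocalRing.maximalIdeal (X.presheaf.stalk x) • (⊤ : Submodule _ ((St x).obj B))

theorem ZeroAt.of_epi {x : X} {A B C : X.Modules} {π : A ⟶ B} [Epi π] {g : B ⟶ C} (h : ZeroAt x (π ≫ g)) :
    ZeroAt x g := by
  rwa [ZeroAt, CurvParLib.range_epi_comp] at h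

theorem ZeroAt.comp_left {x : X} {A B C : X.Modules} (π : A ⟶ B) {g : B ⟶ C} (h : ZeroAt x g) :
    ZeroAt x (π ≫ g) := by
  refine le_trans ?_ h
  rw [CurvParLib.range_comp]
  exact LinearMap.map_le_range

theorem ZeroAt.comp_right {x : X} {A B C : X.Modules} {f : A ⟶ B} (h : ZeroAt x f) (g : B ⟶ C) :
    ZeroAt x (f ≫ g) := by
  rw [ZeroAt, CurvParLib.range_comp]
  refine (Submodule.map_mono h).trans ?_
  rw [Submodule.map_smul'']
  exact Submodule.smul_mono le_rfl le_top

theorem ZeroAt.of_split {x : X} {A B C : X.Modules} {g : A ⟶ B} (ι : B ⟶ C) [Mono ι]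
    [Module.Projective (X.presheaf.stalk x) ((St x).obj (cokernel ι))] (h : ZeroAt x (g ≫ ι)) :
    ZeroAt x g := by
  rw [ZeroAt, CurvParLib.range_comp, Submodule.map_le_iff_le_comap] at h
  refine h.trans (le_of_eq ?_)
  exact CurvParLib.comap_smul_top ((St x).map ι).hom ((St x).map (cokernel.π ι)).hom
    ((ModuleCat.mono_iff_injective _).mp inferInstance) (CurvParLib.stalk_surjective _ x)
    (CurvParLib.range_eq_ker (ShortComplex.exact_cokernel ι) x) _

theorem not_zeroAt_iso {x : X} [IsLocallyNoetherian X] {A B : X.Modules} (φ : A ⟶ B) [IsIso φ]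
    (hB : Coh.IsCoh B) (hx : x ∈ CohB1.support B) : ¬ ZeroAt x φ := fun h => by
  haveI := DevissLib.isNoetherian_stalk hB x
  have hfg : (⊤ : Submodule (X.presheaf.stalk x) ((St x).obj B)).FG := Module.Finite.fg_top
  have ht : (⊤ : Submodule (X.presheaf.stalk x) ((St x).obj B)) ≤
      IsLocalRing.maximalIdeal (X.presheaf.stalk x) • ⊤ :=
    le_trans (le_of_eq (LinearMap.range_eq_top.mpr (CurvParLib.stalk_surjective φ x)).symm) h
  have hbot := Submodule.eq_bot_of_le_smul_of_le_jacobson_bot _ _ hfg ht
    (IsLocalRing.maximalIdeal_le_jacobson _)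
  exact hx (show Subsingleton ((St x).obj B) from
    ⟨fun a b => ((Submodule.eq_bot_iff _).mp hbot a trivial).trans ((Submodule.eq_bot_iff _).mp hbot b trivial).symm⟩)

/-- A map with zero pullback along a closed immersion is zero in the fibres at the image. -/
theorem zeroAt_of_pullback {Y : Scheme.{u}} (ξ : Y ⟶ X) [IsPreimmersion ξ] {A B : X.Modules} (f : A ⟶ B)
    (hf : (Scheme.Modules.pullback ξ).map f = 0) (p : Y) : ZeroAt (ξ p) f := by
  rintro _ ⟨e, rfl⟩
  let R := X.presheaf.stalk (ξ p)
  let R' := Y.presheaf.stalk p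
  letI : Algebra R R' := (ξ.stalkMap p).hom.toAlgebra
  have nat := (KFlatLib.stalkPullIso ξ p).hom.naturality f
  change (DerSch.stalkFunctor Y p).map ((Scheme.Modules.pullback ξ).map f) ≫ _ = _ at nat
  rw [hf, Functor.map_zero, Limits.zero_comp] at nat
  have hz : (ModuleCat.extendScalars (ξ.stalkMap p).hom).map ((DerSch.stalkFunctor X (ξ p)).map f) = 0 :=
    zero_of_epi_comp _ nat.symm
  have h1 : (1 : R') ⊗ₜ[R] (((St (ξ p)).map f).hom e) = 0 :=
    congr($(hz).hom ((1 : R') ⊗ₜ[R] e))
  have hs : Function.Surjective (algebraMap R R') := ξ.stalkMap_surjective p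
  exact Submodule.smul_mono (IsLocalRing.le_maximalIdeal (RingHom.ker_ne_top _)) le_rfl
    ((CohCmpLib.one_tmul_eq_zero_iff hs _).mp h1)

theorem projective_stalk_of_restrict {M : X.Modules} (V : X.Opens) (h : FlatMod.IsFinLocFree (M.restrict V.ι))
    {x : X} (hx : x ∈ V) : Module.Projective (X.presheaf.stalk x) ((St x).obj M) := by
  obtain ⟨p, rfl⟩ : ∃ p : (V : Scheme.{u}), V.ι p = x := ⟨⟨x, hx⟩, rfl⟩
  let R := X.presheaf.stalk (V.ι p)
  let R' := (V : Scheme.{u}).presheaf.stalk p
  letI : Algebra R R' := (V.ι.stalkMap p).hom.toAlgebra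
  let φ : R ≃ₗ[R] R' := LinearEquiv.ofBijective (Algebra.linearMap R R')
    (ConcreteCategory.bijective_of_isIso (V.ι.stalkMap p))
  let N := (St (V.ι p)).obj M
  obtain ⟨n, ⟨e'⟩⟩ := LocSuppLib.nonempty_stalk_pi h p
  let e1 := ((DerSch.stalkFunctor (V : Scheme.{u}) p).mapIso
      ((Scheme.Modules.restrictFunctorIsoPullback V.ι).app M).symm).toLinearEquiv.trans e'
  let e2 : (R' ⊗[R] N) ≃ₗ[R'] (Fin n → R') :=
    (((KFlatLib.stalkPullIso V.ι p).app M).toLinearEquiv.symm).trans e1
  exact Module.Projective.of_equiv ((TensorProduct.lid R N).symm ≪≫ₗ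
    TensorProduct.congr φ (LinearEquiv.refl R N) ≪≫ₗ e2.restrictScalars R ≪≫ₗ
    LinearEquiv.piCongrRight fun _ => φ.symm).symm

theorem projective_stalk_factor {E : X.Modules} (s : LTSeries (Subobject E)) {x : X}
    [Module.Projective (X.presheaf.stalk x) ((St x).obj (StabCat.grObj s))] (i : Fin s.length) :
    Module.Projective (X.presheaf.stalk x) ((St x).obj (StabCat.factor s i)) := by
  classical
  let r : StabCat.grObj s ⟶ StabCat.factor s i :=
    Sigma.desc fun j => if h : j = i then eqToHom (by rw [h]) else 0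
  have hr : Sigma.ι (fun j => StabCat.factor s j) i ≫ r = 𝟙 (StabCat.factor s i) := by
    refine (Sigma.ι_desc _ i).trans ?_
    simp
  haveI hP : Module.Projective (X.presheaf.stalk x) ((St x).obj (∐ fun j => StabCat.factor s j)) :=
    (inferInstance : Module.Projective (X.presheaf.stalk x) ((St x).obj (StabCat.grObj s)))
  refine Module.Projective.of_split ((St x).map (Sigma.ι (fun j => StabCat.factor s j) i)).hom
    ((St x).map r).hom ?_
  have h := congrArg (fun t : StabCat.factor s i ⟶ StabCat.factor s i => ((St x).map t).hom) hr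
  dsimp only at h
  rw [Functor.map_comp, ModuleCat.hom_comp, CategoryTheory.Functor.map_id, ModuleCat.hom_id] at h
  exact h

theorem arrow_of_eq_bot {F : X.Modules} {a : Subobject F} (h : a = ⊥) : a.arrow = 0 := by
  subst h; exact Subobject.bot_arrow

theorem eq_univ_of_dim_eq {α : Type u} [TopologicalSpace α] [IrreducibleSpace α] {d : ℕ}
    (hd : topologicalKrullDim α = (d : WithBot ℕ∞)) {T : Set α} (hT : IsClosed T)
    (hTd : topologicalKrullDim T = (d : WithBot ℕ∞)) : T = Set.univ := by
  by_contra hne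
  obtain ⟨p, hp⟩ := Order.le_krullDim_iff.mp hTd.ge
  let c : IrreducibleCloseds T → IrreducibleCloseds α := fun Z =>
    ⟨Subtype.val '' (Z : Set T), Z.isIrreducible.image _ continuous_subtype_val.continuousOn,
      hT.isClosedEmbedding_subtypeVal.isClosedMap _ Z.isClosed⟩
  have hc : StrictMono c := fun a b hab => by
    refine lt_of_le_not_ge (Set.image_mono hab.le) fun h' => hab.not_ge ?_
    exact fun x hx => by
      obtain ⟨y, hy, e⟩ := h' ⟨x, hx, rfl⟩
      rwa [← Subtype.ext e]
  let univ' : IrreducibleCloseds α :=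
    ⟨Set.univ, IrreducibleSpace.isIrreducible_univ α, isClosed_univ⟩
  have hlast : (p.map c hc).last < univ' := by
    refine lt_of_le_not_ge (Set.subset_univ _) fun h' => hne (Set.eq_univ_of_univ_subset ?_)
    intro x hx
    obtain ⟨y, -, rfl⟩ := h' hx
    exact y.2
  let q := (p.map c hc).snoc univ' hlast
  have hq := (Order.LTSeries.length_le_krullDim q).trans hd.le
  rw [show q.length = p.length + 1 from rfl, hp] at hq
  have h2 : d + 1 ≤ d := by exact_mod_cast hq
  omega

variable {k : Type u} [Field k] [X.Over (Spec (CommRingCat.of k))]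
  [IsProper (X ↘ Spec (CommRingCat.of k))] {L : X.Modules} (hA : CohB1.IsAmple L) {d : ℕ}

include hA in
/-- Between JH-filtered semistable sheaves with the same reduced polynomial, a map zero in the fibre is zero. -/
theorem eq_zero_of_zeroAt {x : X} {E F : X.Modules} (hE : ShStab.IsSemistable k X L E d)
    (hF : ShStab.IsSemistable k X L F d) (hred : dd d (HPoly k L E) (HPoly k L F) = 0)
    (hfull : ∀ H : X.Modules, ShStab.IsStable k X L H d → x ∈ CohB1.support H)
    (sE : LTSeries (Subobject E)) (hsE : ShStab.IsJHFiltration k X L E d sE)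
    (sF : LTSeries (Subobject F)) (hsF : ShStab.IsJHFiltration k X L F d sF)
    [Module.Projective (X.presheaf.stalk x) ((St x).obj (StabCat.grObj sF))]
    (f : E ⟶ F) (hf : ZeroAt x f) : f = 0 := by
  haveI := CurvLib.isNoetherian k (X := X)
  have hαE : 0 < StabCat.alpha d (HPoly k L E) := alpha_pos_of_pure hA hE.2.2.1 (𝟙 E) hE.1 hE.2.1
  have hαF : 0 < StabCat.alpha d (HPoly k L F) := alpha_pos_of_pure hA hF.2.2.1 (𝟙 F) hF.1 hF.2.1
  have htr : ∀ {P Q R : ℚ[X]}, 0 < StabCat.alpha d Q → dd d P Q = 0 → dd d Q R = 0 → dd d P R = 0 := by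
    intro P Q R hQ h1 h2
    have := smul_dd_trans d P Q R
    rw [h1, h2, smul_zero, smul_zero, add_zero] at this
    exact (smul_eq_zero.mp this).resolve_left hQ.ne'
  have hgr : ∀ {M : X.Modules} {s : LTSeries (Subobject M)}, Coh.IsCoh M →
      ShStab.IsJHFiltration k X L M d s → ∀ i, dd d (HPoly k L (StabCat.factor s i)) (HPoly k L M) = 0 :=
    fun {M s} hM hs i => (redEq_iff d).mp
      ((hs.2.2 i).2 _ _ (hPoly_spec hA (hs.2.2 i).1.1) (hPoly_spec hA hM))
  -- maps out of a stable factor of `E`
  have key : ∀ (G : X.Modules), ShStab.IsStable k X L G d → dd d (HPoly k L G) (HPoly k L E) = 0 →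
      ∀ g : G ⟶ F, ZeroAt x g → g = 0 := by
    intro G hG hGE g hg
    have hGF := htr hαE hGE hred
    suffices h : ∀ j : Fin (sF.length + 1), ∀ g' : G ⟶ ((sF j : Subobject F) : X.Modules), ZeroAt x g' → g' = 0 by
      haveI : IsIso (sF (Fin.last sF.length)).arrow :=
        (Subobject.isIso_arrow_iff_eq_top _).mpr hsF.2.1
      have hz : ZeroAt x (g ≫ inv (sF (Fin.last sF.length)).arrow) := hg.comp_right _
      exact zero_of_comp_mono _ (h _ _ hz)
    intro j
    induction j using Fin.induction with
    | zero =>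
      intro g' _
      refine zero_of_comp_mono (sF 0).arrow ?_
      rw [arrow_of_eq_bot (show sF 0 = ⊥ from hsF.1), Limits.comp_zero]
    | succ i ih =>
      intro g' hg'
      let w := Subobject.ofLE (sF i.castSucc) (sF i.succ) (le_of_lt (sF.step i))
      have hH := (hsF.2.2 i).1
      have h0 : g' ≫ cokernel.π w = 0 := by
        by_contra hne
        have hHF := hgr hF.1 hsF i
        have hGH : dd d (HPoly k L G) (HPoly k L (StabCat.factor sF i)) = 0 :=
          htr hαF hGF (by rw [dd_swap, hHF, neg_zero])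
        haveI := mono_of_stable hA hG (stable_semistable hH) hGH hne
        haveI := epi_of_stable hA (stable_semistable hG) hH hGH hne
        haveI : IsIso (g' ≫ cokernel.π w) := isIso_of_mono_of_epi _
        exact not_zeroAt_iso _ hH.1 (hfull _ hH) (hg'.comp_right (cokernel.π w))
      obtain ⟨g'', hg''⟩ := KernelFork.IsLimit.lift'
        (ShortComplex.exact_cokernel w).fIsKernel g' h0
      subst hg''
      haveI : Module.Projective (X.presheaf.stalk x) ((St x).obj (cokernel w)) := projective_stalk_factor sF i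
      rw [ih g'' (ZeroAt.of_split w hg'), Limits.zero_comp]
  have hmain : ∀ i : Fin (sE.length + 1), (sE i).arrow ≫ f = 0 := by
    intro i
    induction i using Fin.induction with
    | zero => rw [arrow_of_eq_bot (show sE 0 = ⊥ from hsE.1), Limits.zero_comp]
    | succ i ih =>
      let w := Subobject.ofLE (sE i.castSucc) (sE i.succ) (le_of_lt (sE.step i))
      have h0 : w ≫ (sE i.succ).arrow ≫ f = 0 := by rw [Subobject.ofLE_arrow_assoc, ih]
      have hz : ZeroAt x (cokernel.π w ≫ cokernel.desc w _ h0) := by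
        rw [cokernel.π_desc]; exact hf.comp_left _
      rw [← cokernel.π_desc w _ h0,
        key (cokernel w) (hsE.2.2 i).1 (hgr hE.1 hsE i) (cokernel.desc w _ h0) hz.of_epi, Limits.comp_zero]
  haveI : IsIso (sE (Fin.last sE.length)).arrow := (Subobject.isIso_arrow_iff_eq_top _).mpr hsE.2.1
  exact zero_of_epi_comp _ (hmain (Fin.last _))

end StabLib
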