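import Groth.Agent.StabLib.Ell

/-!
# Slope semistable modules
-/

set_option autoImplicit false
universe u

open CategoryTheory CategoryTheory.Limits AlgebraicGeometry TopologicalSpace Opposite
open DevissLib HilbPolyLib

noncomputable section

namespace StabLib

theorem alpha_pred_nonneg {d : ℕ} {R : Polynomial ℚ} (hR : R.natDegree ≤ d) (h : Nn R)
    (h0 : StabCat.alpha d R = 0) : 0 ≤ StabCat.alpha (d - 1) R := by
  refine alpha_nonneg (d - 1) (Polynomial.natDegree_le_iff_coeff_eq_zero.mpr fun i hi => ?_) h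
  rcases Nat.lt_or_ge d i with hdi | hdi
  · exact Polynomial.coeff_eq_zero_of_natDegree_lt (hR.trans_lt hdi)
  · obtain rfl : i = d := by omega
    exact (mul_eq_zero.mp h0).resolve_left (by exact_mod_cast Nat.factorial_ne_zero _)

variable {X : Scheme.{u}} {k : Type u} [Field k] [X.Over (Spec (CommRingCat.of k))]
  [IsProper (X ↘ Spec (CommRingCat.of k))] {L : X.Modules} (hA : CohB1.IsAmple L) {d : ℕ}

variable (k) in
/-- The two top normalised coefficients of the Hilbert polynomial. -/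
def rkA (L : X.Modules) (d : ℕ) (F : X.Modules) : ℚ := StabCat.alpha d (HPoly k L F)

variable (k) in
/-- The coefficient below the top one. -/
def degA (L : X.Modules) (d : ℕ) (F : X.Modules) : ℚ := StabCat.alpha (d - 1) (HPoly k L F)

include hA

theorem rkA_nonneg {F : X.Modules} (hF : Coh.IsCoh F)
    (hd : topologicalKrullDim (CohB1.support F) ≤ (d : ℕ)) : 0 ≤ rkA k L d F :=
  alpha_nonneg d (hPoly_deg hA hF hd) (hPoly_nn hA hF)

/-- Cross-multiplied slope inequality for submodules. -/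
theorem mu_sub {E F : X.Modules} (hE : ShStab.IsMuSemistable k X L E d) (ι : F ⟶ E) [Mono ι]
    (hF : Coh.IsCoh F) (h : 0 < rkA k L d F) :
    degA k L d F * rkA k L d E ≤ degA k L d E * rkA k L d F := by
  haveI := CurvLib.isNoetherian k (X := X)
  have hC := QCohLib.isCoh_cokernel ι hF.1 hE.1
  have hdC : topologicalKrullDim (CohB1.support (cokernel ι)) ≤ (d : ℕ) :=
    (dim_mono (support_epi (cokernel.π ι))).trans hE.2.2.1.le
  have e := hPoly_coker (k := k) hA ι hF hE.1
  have h0 : 0 ≤ rkA k L d (cokernel ι) := rkA_nonneg hA hC hdC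
  have e1 : rkA k L d E = rkA k L d F + rkA k L d (cokernel ι) := by simp only [rkA, e, alpha_add]
  have e2 : degA k L d E = degA k L d F + degA k L d (cokernel ι) := by simp only [degA, e, alpha_add]
  rcases eq_or_lt_of_le h0 with hz | hp
  · have h1 : (0 : ℚ) ≤ degA k L d (cokernel ι) :=
      alpha_pred_nonneg (hPoly_deg hA hC hdC) (hPoly_nn hA hC) hz.symm
    rw [e1, e2, ← hz, add_zero]
    nlinarith
  · have := hE.2.2.2.2 F ι inferInstance hF _ _ (hPoly_spec hA hF) (hPoly_spec hA hE.1) h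
      (show rkA k L d F < rkA k L d E by linarith)
    rw [StabCat.hatSlope, StabCat.hatSlope, div_le_div_iff₀ (show 0 < StabCat.alpha d (HPoly k L F) from h)
      (show 0 < StabCat.alpha d (HPoly k L E) from (show 0 < rkA k L d E by linarith))] at this
    exact this

/-- Cross-multiplied slope inequality for quotients. -/
theorem mu_quot {E G : X.Modules} (hE : ShStab.IsMuSemistable k X L E d) (hp : ShStab.IsPure X E d)
    (π : E ⟶ G) [Epi π] (hG : Coh.IsCoh G) :
    degA k L d E * rkA k L d G ≤ degA k L d G * rkA k L d E := by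
  haveI := CurvLib.isNoetherian k (X := X)
  have hK := QCohLib.isCoh_kernel π hE.1 hG.1
  have e := hPoly_ker (k := k) hA π hE.1 hG
  have e1 : rkA k L d E = rkA k L d (kernel π) + rkA k L d G := by simp only [rkA, e, alpha_add]
  have e2 : degA k L d E = degA k L d (kernel π) + degA k L d G := by simp only [degA, e, alpha_add]
  by_cases hz : IsZero (kernel π)
  · have h1 : rkA k L d (kernel π) = 0 := by simp [rkA, hPoly_zero hA hz, alpha_zero]
    have h2 : degA k L d (kernel π) = 0 := by simp [degA, hPoly_zero hA hz, alpha_zero]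
    rw [e1, e2, h1, h2, zero_add, zero_add]
  · have := mu_sub hA hE (kernel.ι π) hK (alpha_pos_of_pure hA hp (kernel.ι π) hK hz)
    rw [e1, e2] at this ⊢
    linarith

theorem mu_hom_eq_zero {F G : X.Modules} (hF : ShStab.IsMuSemistable k X L F d)
    (hFp : ShStab.IsPure X F d) (hG : ShStab.IsMuSemistable k X L G d) (hGp : ShStab.IsPure X G d)
    {pF pG : Polynomial ℚ} (hpF : ShStab.IsHilbPoly k X L F pF) (hpG : ShStab.IsHilbPoly k X L G pG)
    (h : StabCat.hatSlope d pG < StabCat.hatSlope d pF) (φ : F ⟶ G) : φ = 0 := by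
  by_contra hφ
  obtain ⟨hI, hα⟩ := image_facts (k := k) hA hF.1 hG.1 hGp hφ
  have hrF : 0 < rkA k L d F := alpha_pos_of_pure hA hFp (𝟙 F) hF.1 hF.2.1
  have hrG : 0 < rkA k L d G := alpha_pos_of_pure hA hGp (𝟙 G) hG.1 hG.2.1
  have h1 := mu_quot hA hF hFp (Abelian.factorThruImage φ) hI
  have h2 := mu_sub hA hG (Abelian.image.ι φ) hI hα
  rw [← hPoly_eq hA hF.1 hpF, ← hPoly_eq hA hG.1 hpG, StabCat.hatSlope, StabCat.hatSlope,
    div_lt_div_iff₀ (show 0 < StabCat.alpha d (HPoly k L G) from hrG)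
      (show 0 < StabCat.alpha d (HPoly k L F) from hrF)] at h
  change degA k L d G * rkA k L d F < degA k L d F * rkA k L d G at h
  have hα' : 0 < rkA k L d (Abelian.image φ) := hα
  nlinarith [mul_le_mul_of_nonneg_right h1 hrG.le, mul_le_mul_of_nonneg_right h2 hrF.le,
    mul_lt_mul_of_pos_right h hα']

theorem isPure_of_shortExact {T : ShortComplex X.Modules} (hT : T.ShortExact) (h1 : ShStab.IsPure X T.X₁ d)
    (h3 : ShStab.IsPure X T.X₃ d) (h₁ : Coh.IsCoh T.X₁) (h₂ : Coh.IsCoh T.X₂) (h₃ : Coh.IsCoh T.X₃)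
    (hd : topologicalKrullDim (CohB1.support T.X₂) ≤ (d : ℕ))
    (k : Type u) [Field k] [X.Over (Spec (CommRingCat.of k))] [IsProper (X ↘ Spec (CommRingCat.of k))] :
    ShStab.IsPure X T.X₂ d := by
  intro M ι hι hM hM0
  haveI := CurvLib.isNoetherian k (X := X)
  haveI := hT.mono_f
  refine le_antisymm ((dim_mono (support_mono ι)).trans hd) ?_
  by_cases hz : IsZero (kernel (ι ≫ T.g))
  · haveI : Mono (ι ≫ T.g) := Preadditive.mono_of_cancel_zero _ fun g hg => by
      rw [← kernel.lift_ι (ι ≫ T.g) g hg, hz.eq_of_tgt (kernel.lift _ g hg) 0, zero_comp]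
    exact (h3 M (ι ≫ T.g) inferInstance hM hM0).ge
  · let l := hT.fIsKernel.lift (KernelFork.ofι (kernel.ι (ι ≫ T.g) ≫ ι) (by rw [Category.assoc, kernel.condition]))
    have hl : l ≫ T.f = kernel.ι (ι ≫ T.g) ≫ ι :=
      hT.fIsKernel.fac _ WalkingParallelPair.zero
    haveI : Mono (l ≫ T.f) := by rw [hl]; infer_instance
    haveI : Mono l := mono_of_mono l T.f
    exact (h1 _ l inferInstance (QCohLib.isCoh_kernel _ hM h₃.1) hz).ge.trans
      (dim_mono (support_mono (kernel.ι (ι ≫ T.g))))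

theorem mu_extension (hd1 : 1 ≤ d) {T : ShortComplex X.Modules} (hT : T.ShortExact)
    (h2 : Coh.IsCoh T.X₂) (hd : topologicalKrullDim (CohB1.support T.X₂) ≤ (d : ℕ))
    (hFp : ShStab.IsPure X T.X₁ d) (hGp : ShStab.IsPure X T.X₃ d)
    (hF : ShStab.IsMuSemistable k X L T.X₁ d) (hG : ShStab.IsMuSemistable k X L T.X₃ d)
    {pF pG : Polynomial ℚ} (hpF : ShStab.IsHilbPoly k X L T.X₁ pF) (hpG : ShStab.IsHilbPoly k X L T.X₃ pG)
    (hμ : StabCat.hatSlope d pF = StabCat.hatSlope d pG) :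
    ShStab.IsMuSemistable k X L T.X₂ d ∧
      ∀ pH : Polynomial ℚ, ShStab.IsHilbPoly k X L T.X₂ pH →
        StabCat.hatSlope d pH = StabCat.hatSlope d pF := by
  haveI := CurvLib.isNoetherian k (X := X)
  haveI := hT.mono_f
  have hHp := isPure_of_shortExact hA hT hFp hGp hF.1 h2 hG.1 hd k
  have h0 : ¬ IsZero T.X₂ := fun hz => hF.2.1 (by
    rw [IsZero.iff_id_eq_zero, ← cancel_mono T.f, Category.id_comp, zero_comp, hz.eq_of_tgt T.f 0])
  have hrF : 0 < rkA k L d T.X₁ := alpha_pos_of_pure hA hFp (𝟙 _) hF.1 hF.2.1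
  have hrG : 0 < rkA k L d T.X₃ := alpha_pos_of_pure hA hGp (𝟙 _) hG.1 hG.2.1
  have eH := hPoly_add (k := k) hA hT hF.1 h2 hG.1
  have e1 : rkA k L d T.X₂ = rkA k L d T.X₁ + rkA k L d T.X₃ := by simp only [rkA, eH, alpha_add]
  have e2 : degA k L d T.X₂ = degA k L d T.X₁ + degA k L d T.X₃ := by simp only [degA, eH, alpha_add]
  rw [← hPoly_eq hA hF.1 hpF, ← hPoly_eq hA hG.1 hpG, StabCat.hatSlope, StabCat.hatSlope,
    div_eq_div_iff (ne_of_gt (show 0 < StabCat.alpha d (HPoly k L T.X₁) from hrF))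
      (ne_of_gt (show 0 < StabCat.alpha d (HPoly k L T.X₃) from hrG))] at hμ
  change degA k L d T.X₁ * rkA k L d T.X₃ = degA k L d T.X₃ * rkA k L d T.X₁ at hμ
  refine ⟨⟨h2, h0, hHp T.X₂ (𝟙 _) inferInstance h2 h0, fun M ι hι hM => ?_,
    fun M ι hι hM pM pH hpM hpH hr1 hr2 => ?_⟩, fun pH hpH => ?_⟩
  · by_cases hz : IsZero M
    · rw [DevissLib.support_of_isZero hz]
      haveI : IsEmpty (TopologicalSpace.IrreducibleCloseds (∅ : Set X)) :=
        ⟨fun Z => Z.isIrreducible.1.choose.2⟩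
      rw [show topologicalKrullDim (∅ : Set X) = ⊥ from Order.krullDim_eq_bot, WithBot.bot_add]
      exact WithBot.bot_ne_natCast d
    · rw [hHp M ι hι hM hz]
      intro he
      have : d + 1 = d := by exact_mod_cast he
      omega
  · rw [← hPoly_eq hA hM hpM] at hr1 hr2 ⊢
    rw [← hPoly_eq hA h2 hpH] at hr2 ⊢
    rw [StabCat.hatSlope, StabCat.hatSlope, div_le_div_iff₀ hr1 (hr1.trans hr2)]
    change degA k L d M * rkA k L d T.X₂ ≤ degA k L d T.X₂ * rkA k L d M
    let ψ := ι ≫ T.g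
    have hK := QCohLib.isCoh_kernel ψ hM hG.1.1
    have hI := isCoh_image ψ hM hG.1
    have eM := hPoly_add (k := k) (S := kerImSeq ψ) hA (kerImSeq_shortExact ψ) hK hM hI
    have m1 : rkA k L d M = rkA k L d (kernel ψ) + rkA k L d (Abelian.image ψ) := by
      rw [rkA, show HPoly k L M = _ from eM, alpha_add]; rfl
    have m2 : degA k L d M = degA k L d (kernel ψ) + degA k L d (Abelian.image ψ) := by
      rw [degA, show HPoly k L M = _ from eM, alpha_add]; rfl
    let l := hT.fIsKernel.lift (KernelFork.ofι (kernel.ι ψ ≫ ι) (by rw [Category.assoc, kernel.condition]))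
    have hl : l ≫ T.f = kernel.ι ψ ≫ ι := hT.fIsKernel.fac _ WalkingParallelPair.zero
    haveI : Mono (l ≫ T.f) := by rw [hl]; infer_instance
    haveI : Mono l := mono_of_mono l T.f
    have k1 : degA k L d (kernel ψ) * rkA k L d T.X₁ ≤ degA k L d T.X₁ * rkA k L d (kernel ψ) := by
      by_cases hz : IsZero (kernel ψ)
      · simp [degA, rkA, hPoly_zero hA hz, alpha_zero]
      · exact mu_sub hA hF l hK (alpha_pos_of_pure hA hFp l hK hz)
    have k2 : degA k L d (Abelian.image ψ) * rkA k L d T.X₃ ≤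
        degA k L d T.X₃ * rkA k L d (Abelian.image ψ) := by
      by_cases hz : IsZero (Abelian.image ψ)
      · simp [degA, rkA, hPoly_zero hA hz, alpha_zero]
      · exact mu_sub hA hG (Abelian.image.ι ψ) hI (alpha_pos_of_pure hA hGp (Abelian.image.ι ψ) hI hz)
    have k1' : degA k L d (kernel ψ) * rkA k L d T.X₃ ≤ degA k L d T.X₃ * rkA k L d (kernel ψ) := by
      refine le_of_mul_le_mul_right ?_ hrF
      nlinarith [mul_le_mul_of_nonneg_right k1 hrG.le, congrArg (· * rkA k L d (kernel ψ)) hμ]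
    have k2' : degA k L d (Abelian.image ψ) * rkA k L d T.X₁ ≤
        degA k L d T.X₁ * rkA k L d (Abelian.image ψ) := by
      refine le_of_mul_le_mul_right ?_ hrG
      nlinarith [mul_le_mul_of_nonneg_right k2 hrF.le, congrArg (· * rkA k L d (Abelian.image ψ)) hμ]
    rw [m1, m2, e1, e2]
    linarith
  · rw [← hPoly_eq hA h2 hpH, ← hPoly_eq hA hF.1 hpF, StabCat.hatSlope, StabCat.hatSlope]
    change degA k L d T.X₂ / rkA k L d T.X₂ = degA k L d T.X₁ / rkA k L d T.X₁
    rw [div_eq_div_iff (by linarith) hrF.ne', e1, e2]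
    linarith

end StabLib

end
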