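import Groth.Agent.StabLib.Morph

/-!
# Truncated comparisons
-/

set_option autoImplicit false
universe u

open CategoryTheory CategoryTheory.Limits AlgebraicGeometry
open Polynomial HilbPolyLib

noncomputable section

namespace StabLib

theorem coeff_topPart (ℓ d : ℕ) (P : ℚ[X]) (i : ℕ) :
    (StabCat.topPart ℓ d P).coeff i = if i ∈ Finset.Icc (d - ℓ) d then P.coeff i else 0 := by
  simp [StabCat.topPart, finsetSum_coeff, coeff_monomial]

theorem topPart_eq_self {d : ℕ} {P : ℚ[X]} (hP : P.natDegree ≤ d) : StabCat.topPart d d P = P := by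
  ext i
  rw [coeff_topPart]
  split_ifs with h
  · rfl
  · rw [coeff_eq_zero_of_natDegree_lt]
    simp at h
    omega

theorem alpha_topPart (ℓ d : ℕ) (P : ℚ[X]) :
    StabCat.alpha d (StabCat.topPart ℓ d P) = StabCat.alpha d P := by
  simp [StabCat.alpha, coeff_topPart]

theorem dd_topPart (ℓ d : ℕ) (P Q : ℚ[X]) :
    dd d (StabCat.topPart ℓ d P) (StabCat.topPart ℓ d Q) = StabCat.topPart ℓ d (dd d P Q) := by
  ext i
  simp only [dd, alpha_topPart, coeff_sub, coeff_smul, coeff_topPart]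
  split_ifs <;> simp

theorem natDegree_dd_le {d : ℕ} {P Q : ℚ[X]} (hP : P.natDegree ≤ d) (hQ : Q.natDegree ≤ d) :
    (dd d P Q).natDegree ≤ d - 1 := by
  rw [natDegree_le_iff_coeff_eq_zero]
  intro i hi
  rcases Nat.lt_or_ge d i with h | h
  · simp [dd, coeff_eq_zero_of_natDegree_lt (hP.trans_lt h), coeff_eq_zero_of_natDegree_lt (hQ.trans_lt h)]
  · obtain rfl : i = d := by omega
    simp only [dd, StabCat.alpha, coeff_sub, coeff_smul, smul_eq_mul]
    ring

theorem Nn.topPart {ℓ d : ℕ} {R : ℚ[X]} (hR : R.natDegree ≤ d) (h : Nn R) : Nn (StabCat.topPart ℓ d R) := by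
  rcases h.ps_or_eq_zero with h' | h'
  swap
  · have : StabCat.topPart ℓ d R = 0 := by ext i; simp [coeff_topPart, h']
    rw [this]; exact nn_zero
  by_cases hlow : R.natDegree < d - ℓ
  · have : StabCat.topPart ℓ d R = 0 := by
      ext i
      rw [coeff_topPart, coeff_zero]
      split_ifs with hi
      · exact coeff_eq_zero_of_natDegree_lt (by simp at hi; omega)
      · rfl
    rw [this]; exact nn_zero
  have hmem : R.natDegree ∈ Finset.Icc (d - ℓ) d := by simp; omega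
  have hdeg : (StabCat.topPart ℓ d R).natDegree = R.natDegree := by
    refine le_antisymm (natDegree_le_iff_coeff_eq_zero.mpr fun i hi => ?_) (le_natDegree_of_ne_zero ?_)
    · rw [coeff_topPart]
      split_ifs
      · exact coeff_eq_zero_of_natDegree_lt hi
      · rfl
    · rw [coeff_topPart, if_pos hmem]
      exact leadingCoeff_ne_zero.mpr (ps_ne_zero h')
  rw [Nn, leadingCoeff, hdeg, coeff_topPart, if_pos hmem]
  exact h

variable {X : Scheme.{u}} {k : Type u} [Field k] [X.Over (Spec (CommRingCat.of k))]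
  [IsProper (X ↘ Spec (CommRingCat.of k))] {L : X.Modules} (hA : CohB1.IsAmple L) {d : ℕ}
  {E : X.Modules}

include hA

theorem deg_le_of_pure (hE : Coh.IsCoh E) (hp : ShStab.IsPure X E d) {F : X.Modules} (ι : F ⟶ E) [Mono ι]
    (hF : Coh.IsCoh F) {p : ℚ[X]} (hpF : ShStab.IsHilbPoly k X L F p) : p.natDegree ≤ d := by
  by_cases h0 : IsZero F
  · rw [← hPoly_eq hA hF hpF, hPoly_zero hA h0, natDegree_zero]; exact Nat.zero_le _
  · exact natDegree_le hA hF hpF (hp F ι inferInstance hF h0).le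

omit [IsProper (X ↘ Spec (CommRingCat.of k))] in
theorem ne_of_alpha_lt [IsProper (X ↘ Spec (CommRingCat.of k))] (hE : Coh.IsCoh E) {F : X.Modules}
    (ι : F ⟶ E) [Mono ι] (hF : Coh.IsCoh F) {pF pE : ℚ[X]} (hpF : ShStab.IsHilbPoly k X L F pF)
    (hpE : ShStab.IsHilbPoly k X L E pE) (h1 : 0 < StabCat.alpha d pF)
    (h2 : StabCat.alpha d pF < StabCat.alpha d pE) : ¬ IsZero F ∧ ¬ IsIso ι := by
  refine ⟨fun hz => ?_, fun hi => ?_⟩
  · rw [← hPoly_eq hA hF hpF, hPoly_zero hA hz, alpha_zero] at h1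
    exact lt_irrefl _ h1
  · rw [← hPoly_eq hA hF hpF, ← hPoly_eq hA hE hpE, hPoly_congr (k := k) hA hF (asIso ι)] at h2
    exact lt_irrefl _ h2

theorem ellSemistable_of_semistable (ℓ : ℕ) (h : ShStab.IsSemistable k X L E d) :
    ShStab.IsEllSemistable k X L E d ℓ := by
  refine ⟨h.1, h.2.1, h.2.2.1, fun F ι hι hF pF pE hpF hpE h1 h2 => ?_⟩
  obtain ⟨hF0, hi⟩ := ne_of_alpha_lt hA h.1 ι hF hpF hpE h1 h2
  rw [redLE_iff, dd_topPart]
  exact ((redLE_iff d).mp (h.2.2.2 F ι hι hF hF0 hi pF pE hpF hpE)).topPart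
    ((natDegree_dd_le (deg_le_of_pure hA h.1 h.2.2.1 ι hF hpF)
      (deg_le_of_pure hA h.1 h.2.2.1 (𝟙 E) h.1 hpE)).trans (Nat.sub_le _ _))

theorem semistable_of_ell (h : ShStab.IsEllSemistable k X L E d d) : ShStab.IsSemistable k X L E d := by
  haveI := CurvLib.isNoetherian k (X := X)
  refine ⟨h.1, h.2.1, h.2.2.1, fun F ι hι hF hF0 hi pF pE hpF hpE => ?_⟩
  have hC := QCohLib.isCoh_cokernel ι hF.1 h.1
  have hdF := deg_le_of_pure hA h.1 h.2.2.1 ι hF hpF
  have hdE := deg_le_of_pure hA h.1 h.2.2.1 (𝟙 E) h.1 hpE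
  have h1 : 0 < StabCat.alpha d pF := alpha_pos hA hF hpF (h.2.2.1 F ι hι hF hF0)
  have e : pE - pF = HPoly k L (cokernel ι) := by
    rw [← hPoly_eq hA hF hpF, ← hPoly_eq hA h.1 hpE, hPoly_coker (k := k) hA ι hF h.1, add_sub_cancel_left]
  have hnn : Nn (pE - pF) := e ▸ hPoly_nn hA hC
  have h2 : 0 ≤ StabCat.alpha d (pE - pF) := alpha_nonneg d ((natDegree_sub_le _ _).trans (max_le hdE hdF)) hnn
  rw [alpha_sub, sub_nonneg] at h2
  rcases eq_or_lt_of_le h2 with h2' | h2'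
  · rw [redLE_iff, dd, ← h2', ← smul_sub]
    exact hnn.smul h1.le
  · have h3 := (redLE_iff d).mp (h.2.2.2 F ι hι hF pF pE hpF hpE h1 h2')
    rw [topPart_eq_self hdF, topPart_eq_self hdE] at h3
    exact (redLE_iff d).mpr h3

theorem ellStable_of_stable (h : ShStab.IsStable k X L E d) : ShStab.IsEllStable k X L E d d := by
  refine ⟨h.1, h.2.1, h.2.2.1, fun F ι hι hF pF pE hpF hpE h1 h2 => ?_⟩
  obtain ⟨hF0, hi⟩ := ne_of_alpha_lt hA h.1 ι hF hpF hpE h1 h2
  rw [topPart_eq_self (deg_le_of_pure hA h.1 h.2.2.1 ι hF hpF),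
    topPart_eq_self (deg_le_of_pure hA h.1 h.2.2.1 (𝟙 E) h.1 hpE)]
  exact h.2.2.2 F ι hι hF hF0 hi pF pE hpF hpE

theorem stable_of_ell (h : ShStab.IsEllStable k X L E d d) : ShStab.IsStable k X L E d := by
  haveI := CurvLib.isNoetherian k (X := X)
  refine ⟨h.1, h.2.1, h.2.2.1, fun F ι hι hF hF0 hi pF pE hpF hpE => ?_⟩
  have hC := QCohLib.isCoh_cokernel ι hF.1 h.1
  have hdF := deg_le_of_pure hA h.1 h.2.2.1 ι hF hpF
  have hdE := deg_le_of_pure hA h.1 h.2.2.1 (𝟙 E) h.1 hpE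
  have h1 : 0 < StabCat.alpha d pF := alpha_pos hA hF hpF (h.2.2.1 F ι hι hF hF0)
  have e : pE - pF = HPoly k L (cokernel ι) := by
    rw [← hPoly_eq hA hF hpF, ← hPoly_eq hA h.1 hpE, hPoly_coker (k := k) hA ι hF h.1, add_sub_cancel_left]
  have hps : Ps (pE - pF) := e ▸ hPoly_ps hA hC fun hz => hi (isIso_of_isZero_coker ι hz)
  have h2 : 0 ≤ StabCat.alpha d (pE - pF) :=
    alpha_nonneg d ((natDegree_sub_le _ _).trans (max_le hdE hdF)) hps.nn
  rw [alpha_sub, sub_nonneg] at h2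
  rcases eq_or_lt_of_le h2 with h2' | h2'
  · rw [redLT_iff, dd, ← h2', ← smul_sub]
    exact hps.smul h1
  · have h3 := (redLT_iff d).mp (h.2.2.2 F ι hι hF pF pE hpF hpE h1 h2')
    rw [topPart_eq_self hdF, topPart_eq_self hdE] at h3
    exact (redLT_iff d).mpr h3

theorem muSemistable_of_semistable (hd : 1 ≤ d) (h : ShStab.IsSemistable k X L E d) :
    ShStab.IsMuSemistable k X L E d := by
  refine ⟨h.1, h.2.1, h.2.2.1 E (𝟙 E) inferInstance h.1 h.2.1, fun F ι hι hF => ?_,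
    fun F ι hι hF pF pE hpF hpE h1 h2 => ?_⟩
  · by_cases hz : IsZero F
    · rw [DevissLib.support_of_isZero hz]
      haveI : IsEmpty (TopologicalSpace.IrreducibleCloseds (∅ : Set X)) :=
        ⟨fun Z => Z.isIrreducible.1.choose.2⟩
      rw [show topologicalKrullDim (∅ : Set X) = ⊥ from Order.krullDim_eq_bot, WithBot.bot_add]
      exact WithBot.bot_ne_natCast d
    · rw [h.2.2.1 F ι hι hF hz]
      intro he
      have : d + 1 = d := by exact_mod_cast he
      omega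
  · obtain ⟨hF0, hi⟩ := ne_of_alpha_lt hA h.1 ι hF hpF hpE h1 h2
    have hnn := (redLE_iff d).mp (h.2.2.2 F ι hι hF hF0 hi pF pE hpF hpE)
    have hc := coeff_nonneg (natDegree_dd_le (deg_le_of_pure hA h.1 h.2.2.1 ι hF hpF)
      (deg_le_of_pure hA h.1 h.2.2.1 (𝟙 E) h.1 hpE)) hnn
    simp only [dd, coeff_sub, coeff_smul, smul_eq_mul] at hc
    rw [StabCat.hatSlope, StabCat.hatSlope, div_le_div_iff₀ h1 (h1.trans h2)]
    simp only [StabCat.alpha] at hc ⊢
    nlinarith [mul_nonneg (Nat.cast_nonneg' (α := ℚ) (d - 1).factorial) hc]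

end StabLib

end
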