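import Groth.Agent.StabLib.InfZero
import Groth.Agent.RichLib.ModFlatGlobal
import Groth.Agent.ConsLib.ModLoci

/-!
# Morphisms vanishing over a closed point of the base
-/

set_option autoImplicit false
set_option linter.style.haveILetI false
set_option backward.isDefEq.respectTransparency false
set_option backward.isDefEq.respectTransparency.types false
set_option maxHeartbeats 1600000
universe u

open CategoryTheory CategoryTheory.Limits AlgebraicGeometry TopologicalSpace Opposite
open DevissLib QCohLib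
open scoped TensorProduct

noncomputable section

namespace StabLib

variable {X S : Scheme.{u}} {K : Type u} [Field K]

theorem ker_stalkMap_fst (f : X ⟶ S) (t : Spec (CommRingCat.of K) ⟶ S) [IsPreimmersion t] (z : ↥(pullback f t))
    (q : pullback f t ⟶ X) (hq : q = pullback.fst f t) :
    RingHom.ker (q.stalkMap z).hom = (IsLocalRing.maximalIdeal (S.presheaf.stalk (f (q z)))).map
        (f.stalkMap (q z)).hom := by
  let s := t (IsLocalRing.closedPoint K)
  let g := S.descResidueField (Scheme.stalkClosedPointTo t)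
  have hg : Spec.map g ≫ S.fromSpecResidueField s = t :=
    Scheme.descResidueField_stalkClosedPointTo_fromSpecResidueField K S t
  have hsurj : Function.Surjective (Scheme.stalkClosedPointTo t).hom :=
    (ConcreteCategory.bijective_of_isIso (stalkClosedPointIso (CommRingCat.of K)).hom).2.comp
      (t.stalkMap_surjective _)
  haveI : IsIso g := by
    refine (ConcreteCategory.isIso_iff_bijective g).mpr ⟨g.hom.injective, fun a => ?_⟩
    obtain ⟨b, rfl⟩ := hsurj a
    exact ⟨S.residue s b, congr($(S.residue_descResidueField (Scheme.stalkClosedPointTo t)).hom b)⟩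
  let ψ : pullback f t ⟶ f.fiber s := pullback.map f t f (S.fromSpecResidueField s) (𝟙 X) (Spec.map g) (𝟙 S)
    (by simp) (by rw [Category.comp_id, hg])
  have hψ : ψ ≫ f.fiberι s = pullback.fst f t := by
    simp [ψ, Scheme.Hom.fiberι, pullback.map]
  haveI : IsIso ψ := inferInstanceAs (IsIso (pullback.map _ _ _ _ _ _ _ _ _))
  obtain ⟨-, hker⟩ := Groth.Agent.S9501.result f s (ψ z)
  rw [← hψ] at hq
  subst hq
  rw [Scheme.Hom.stalkMap_comp, CommRingCat.hom_comp,
    RingHom.ker_comp_of_injective _ (ConcreteCategory.bijective_of_isIso (ψ.stalkMap z)).1]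
  exact hker

theorem gα_appLE {W : Scheme.{u}} (f : W ⟶ S) (U : S.Opens) (hle : ⊤ ≤ f ⁻¹ᵁ U) (w : W) :
    gα (f.appLE U ⊤ hle).hom w = (f.stalkMap w).hom.comp (S.presheaf.germ U (f w) (hle trivial)).hom := by
  have h : f.appLE U ⊤ hle ≫ W.presheaf.germ ⊤ w trivial = S.presheaf.germ U (f w) (hle trivial) ≫ f.stalkMap w := by
    rw [Scheme.Hom.germ_stalkMap, Scheme.Hom.appLE, Category.assoc, TopCat.Presheaf.germ_res]
  exact congrArg CommRingCat.Hom.hom h

theorem free_stalk_pullback_open {W : Scheme.{u}} (j : W ⟶ X) [IsOpenImmersion j] (F : X.Modules) (w : W)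
    [Module.Free (X.presheaf.stalk (j w)) ((St (j w)).obj F)] :
    Module.Free (W.presheaf.stalk w) ((St w).obj ((Scheme.Modules.pullback j).obj F)) := by
  letI : Algebra (X.presheaf.stalk (j w)) (W.presheaf.stalk w) := (j.stalkMap w).hom.toAlgebra
  haveI : Module.Free (W.presheaf.stalk w) (W.presheaf.stalk w ⊗[X.presheaf.stalk (j w)] (St (j w)).obj F) :=
    inferInstance
  exact Module.Free.of_equiv (R := W.presheaf.stalk w)
    (M := W.presheaf.stalk w ⊗[X.presheaf.stalk (j w)] (St (j w)).obj F)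
    ((KFlatLib.stalkPullIso j w).app F).toLinearEquiv.symm

/-- Over a closed point of the base, a map between flat sheaves which vanishes along a section vanishes,
if maps between the restrictions to the fibre vanish as soon as they vanish at the point of the section. -/
theorem stalk_eq_zero_over_point [IsLocallyNoetherian S] [IsLocallyNoetherian X] (f : X ⟶ S) [IsSeparated f]
    (ξ : S ⟶ X) (hξ : ξ ≫ f = 𝟙 S) {E F : X.Modules} (hF : Coh.IsCoh F) (hfl : FlatMod.IsFlatOver f F)
    (t : Spec (CommRingCat.of K) ⟶ S) [IsClosedImmersion t]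
    (z₀ : ↥(pullback f t)) (hz₀ : pullback.fst f t z₀ = ξ (t (IsLocalRing.closedPoint K)))
    [Module.Projective ((pullback f t).presheaf.stalk z₀)
      ((St z₀).obj ((Scheme.Modules.pullback (pullback.fst f t)).obj F))]
    (hfib : ∀ ψ : (Scheme.Modules.pullback (pullback.fst f t)).obj E ⟶
      (Scheme.Modules.pullback (pullback.fst f t)).obj F, ZeroAt z₀ ψ → ψ = 0)
    (φ : E ⟶ F) (hφ : (Scheme.Modules.pullback ξ).map φ = 0)
    (x : X) (hx : f x = t (IsLocalRing.closedPoint K)) (e : (St x).obj E) :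
    ((St x).map φ).hom e = 0 := by
  let s := t (IsLocalRing.closedPoint K)
  have hs : IsClosed ({s} : Set S) := by
    have hr : Set.range t = {s} := by
      ext y
      constructor
      · rintro ⟨p, rfl⟩
        exact congrArg t (Subsingleton.elim p _)
      · rintro rfl; exact ⟨_, rfl⟩
    exact hr ▸ t.isClosedEmbedding.isClosed_range
  obtain ⟨U, hU, hsU, -⟩ := exists_isAffineOpen_mem_and_subset (x := s) (U := ⊤) trivial
  let W : X.Opens := f ⁻¹ᵁ U
  let j := W.ι
  let f' : (W : Scheme.{u}) ⟶ S := j ≫ f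
  have hle : ⊤ ≤ f' ⁻¹ᵁ U := fun w _ => w.2
  haveI : IsNoetherianRing Γ(S, U) := IsLocallyNoetherian.component_noetherian ⟨U, hU⟩
  let α := (f'.appLE U ⊤ hle).hom
  let m := (hU.primeIdealOf ⟨s, hsU⟩).asIdeal
  haveI : m.IsMaximal := hU.primeIdealOf_isMaximal_of_isClosed ⟨s, hsU⟩ hs
  have hfst : ∀ z, f (pullback.fst f t z) = s := fun z => by
    have := congrArg (fun q => q z) (pullback.condition (f := f) (g := t))
    simp only [Scheme.Hom.comp_apply] at this
    rw [this]
    exact congrArg t (Subsingleton.elim _ _)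
  have hrange : Set.range (pullback.fst f t) ⊆ Set.range j := by
    rintro _ ⟨z, rfl⟩
    rw [Scheme.Opens.range_ι]
    show f _ ∈ U
    rw [hfst]; exact hsU
  let h := IsOpenImmersion.lift j (pullback.fst f t) hrange
  have hh : h ≫ j = pullback.fst f t := IsOpenImmersion.lift_fac _ _ _
  have hjh : ∀ z, j (h z) = pullback.fst f t z := fun z => congrArg (fun q => q z) hh
  haveI : IsClosedImmersion (h ≫ j) := by rw [hh]; infer_instance
  haveI : IsClosedImmersion h := IsClosedImmersion.of_comp h j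
  have hf'h : ∀ z, f' (h z) = s := fun z => (congrArg f (hjh z)).trans (hfst z)
  -- the maximal ideal at the point
  have hmax : ∀ (y : S) (hy : y ∈ U), y = s →
      m.map (S.presheaf.germ U y hy).hom = IsLocalRing.maximalIdeal (S.presheaf.stalk y) := by
    rintro y hy rfl
    letI := TopCat.Presheaf.algebra_section_stalk S.presheaf ⟨s, hy⟩
    haveI := hU.isLocalization_stalk ⟨s, hy⟩
    exact IsLocalization.AtPrime.map_eq_maximalIdeal m (S.presheaf.stalk s)
  have hker : ∀ z, RingHom.ker (h.stalkMap z).hom = m.map (gα α (h z)) := by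
    intro z
    have hk := ker_stalkMap_fst f t z (h ≫ j) hh
    rw [Scheme.Hom.stalkMap_comp, CommRingCat.hom_comp, ← RingHom.comap_ker] at hk
    have hb := (ConcreteCategory.bijective_of_isIso (j.stalkMap (h z))).2
    rw [← Ideal.map_comap_of_surjective _ hb (RingHom.ker (h.stalkMap z).hom)]
    erw [hk]
    rw [gα_appLE, ← Ideal.map_map, hmax _ _ (hf'h z)]
    change _ = Ideal.map ((j ≫ f).stalkMap (h z)).hom _
    rw [Scheme.Hom.stalkMap_comp, CommRingCat.hom_comp, ← Ideal.map_map]
    rfl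
  have hoff : ∀ w, w ∉ Set.range h → m.map (gα α w) = ⊤ := by
    intro w hw
    have hne : f' w ≠ s := by
      intro he
      have : j w ∈ Set.range (pullback.fst f t) := by
        rw [Scheme.Pullback.range_fst]
        exact ⟨IsLocalRing.closedPoint K, he.symm⟩
      obtain ⟨z, hz⟩ := this
      exact hw ⟨z, j.isEmbedding.injective ((hjh z).trans hz)⟩
    have hy : f' w ∈ U := hle trivial
    let p := (hU.primeIdealOf ⟨f' w, hy⟩).asIdeal
    have hnle : ¬ m ≤ p := fun hmp => hne (by
      have he : hU.primeIdealOf ⟨f' w, hy⟩ = hU.primeIdealOf ⟨s, hsU⟩ :=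
        PrimeSpectrum.ext (Ideal.IsMaximal.eq_of_le inferInstance (hU.primeIdealOf ⟨f' w, hy⟩).isPrime.ne_top hmp).symm
      have := congrArg (fun q => hU.fromSpec q) he
      simpa only [hU.fromSpec_primeIdealOf] using this)
    obtain ⟨a, ha, hap⟩ := SetLike.not_le_iff_exists.mp hnle
    letI := TopCat.Presheaf.algebra_section_stalk S.presheaf ⟨f' w, hy⟩
    haveI := hU.isLocalization_stalk ⟨f' w, hy⟩
    have hu : IsUnit ((S.presheaf.germ U (f' w) hy).hom a) :=
      IsLocalization.map_units (S.presheaf.stalk (f' w)) (⟨a, hap⟩ : p.primeCompl)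
    refine Ideal.eq_top_of_isUnit_mem _ (Ideal.mem_map_of_mem _ ha) ?_
    rw [gα_appLE]
    exact hu.map (f'.stalkMap w).hom
  let F' := (Scheme.Modules.pullback j).obj F
  let E' := (Scheme.Modules.pullback j).obj E
  have hfl' : ∀ w ∈ Set.range h, letI := Module.compHom ((St w).obj F') (gα α w);
      Module.Flat Γ(S, U) ((St w).obj F') := by
    intro w _
    have hy : f' w ∈ U := hle trivial
    letI := TopCat.Presheaf.algebra_section_stalk S.presheaf ⟨f' w, hy⟩
    haveI := hU.isLocalization_stalk ⟨f' w, hy⟩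
    letI : Module (S.presheaf.stalk (f' w)) ((St w).obj F') := FlatMod.moduleStalkOver f' F' w
    haveI : Module.Flat (S.presheaf.stalk (f' w)) ((St w).obj F') :=
      (RichLib.ModFlat.isFlatOverAt_comp_source j f F w).mpr (hfl (j w))
    letI : Module Γ(S, U) ((St w).obj F') := Module.compHom ((St w).obj F') (gα α w)
    haveI : IsScalarTower Γ(S, U) (S.presheaf.stalk (f' w)) ((St w).obj F') :=
      IsScalarTower.of_algebraMap_smul fun r v => by
        show (f'.stalkMap w).hom ((S.presheaf.germ U (f' w) hy).hom r) • v = gα α w r • v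
        rw [gα_appLE]; rfl
    haveI : Module.Flat Γ(S, U) (S.presheaf.stalk (f' w)) :=
      IsLocalization.flat _ (hU.primeIdealOf ⟨f' w, hy⟩).asIdeal.primeCompl
    exact Module.Flat.trans Γ(S, U) (S.presheaf.stalk (f' w)) _
  -- the section over `U`
  have hξr : Set.range (U.ι ≫ ξ) ⊆ Set.range j := by
    rintro _ ⟨p, rfl⟩
    rw [Scheme.Opens.range_ι]
    show f ((U.ι ≫ ξ) p) ∈ U
    have : f ((U.ι ≫ ξ) p) = U.ι p := congrArg (fun q => q (U.ι p)) hξ
    rw [this]; exact p.2
  let ξ' := IsOpenImmersion.lift j (U.ι ≫ ξ) hξr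
  have hξ' : ξ' ≫ j = U.ι ≫ ξ := IsOpenImmersion.lift_fac _ _ _
  haveI : IsClosedImmersion ξ := by
    haveI : IsClosedImmersion (ξ ≫ f) := by rw [hξ]; infer_instance
    exact IsClosedImmersion.of_comp ξ f
  haveI : IsPreimmersion (ξ' ≫ j) := by rw [hξ']; infer_instance
  haveI : IsPreimmersion ξ' := IsPreimmersion.of_comp ξ' j
  let p₀ : ↥(U : Scheme.{u}) := ⟨s, hsU⟩
  have hw₀ : h z₀ = ξ' p₀ := j.isEmbedding.injective (((hjh z₀).trans hz₀).trans
    (congrArg (fun q => q p₀) hξ').symm)
  let φ' := (Scheme.Modules.pullback j).map φ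
  have hφ' : (Scheme.Modules.pullback ξ').map φ' = 0 := by
    have nat := (Scheme.Modules.pullbackComp ξ' j).hom.naturality φ
    have h0 : (Scheme.Modules.pullback (ξ' ≫ j)).map φ = 0 := by
      rw [hξ']
      have nat2 := (Scheme.Modules.pullbackComp U.ι ξ).hom.naturality φ
      simp only [Functor.comp_map] at nat2
      rw [hφ, Functor.map_zero, Limits.zero_comp] at nat2
      exact zero_of_epi_comp _ nat2.symm
    simp only [Functor.comp_map] at nat
    rw [h0, Limits.comp_zero] at nat
    exact zero_of_comp_mono _ nat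
  have hfree : Module.Free ((W : Scheme.{u}).presheaf.stalk (ξ' p₀)) ((St (ξ' p₀)).obj F') := by
    rw [← hw₀]
    have h1 := free_stalk_of_fibre f t hF hfl z₀
    rw [← hjh z₀] at h1
    exact free_stalk_pullback_open j F (h z₀)
  have hcomp : ξ' ≫ f' = U.ι := by
    show ξ' ≫ j ≫ f = _
    rw [← Category.assoc, hξ', Category.assoc, hξ, Category.comp_id]
  have hτ : ∀ (J : Ideal Γ(S, U)) ε, (ξ'.stalkMap p₀).hom (gα α (ξ' p₀) ε) ∈
      J.map ((ξ'.stalkMap p₀).hom.comp (gα α (ξ' p₀))) → ∃ r ∉ m, r * ε ∈ J := by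
    intro J ε hε
    have key : ∀ (q : (U : Scheme.{u}) ⟶ S) (_ : q = U.ι) (hq : q p₀ ∈ U),
        (q.stalkMap p₀).hom ((S.presheaf.germ U (q p₀) hq).hom ε) ∈
          J.map ((q.stalkMap p₀).hom.comp (S.presheaf.germ U (q p₀) hq).hom) → ∃ r ∉ m, r * ε ∈ J := by
      rintro q rfl hq he
      rw [← Ideal.map_map] at he
      have hb := ConcreteCategory.bijective_of_isIso (U.ι.stalkMap p₀)
      obtain ⟨y, hy, hye⟩ := (Ideal.mem_map_iff_of_surjective _ hb.2).mp he
      rw [hb.1 hye] at hy
      letI := TopCat.Presheaf.algebra_section_stalk S.presheaf ⟨s, hsU⟩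
      haveI := hU.isLocalization_stalk ⟨s, hsU⟩
      obtain ⟨r, hr, hrJ⟩ := (IsLocalization.algebraMap_mem_map_algebraMap_iff m.primeCompl (S.presheaf.stalk s) J ε).mp hy
      exact ⟨r, hr, hrJ⟩
    refine key _ hcomp (hle trivial) ?_
    rw [Scheme.Hom.stalkMap_comp]
    rw [gα_appLE] at hε
    exact hε
  have hσ : LinearMap.range ((St (ξ' p₀)).map φ').hom ≤
      RingHom.ker (ξ'.stalkMap p₀).hom • (⊤ : Submodule ((W : Scheme.{u}).presheaf.stalk (ξ' p₀)) ((St (ξ' p₀)).obj F')) := by
    rintro _ ⟨v, rfl⟩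
    exact stalk_of_pullback_eq_zero ξ' p₀ (ξ'.stalkMap_surjective p₀) φ' hφ' v
  let eE := (Scheme.Modules.pullbackComp h j).app E ≪≫ (Scheme.Modules.pullbackCongr hh).app E
  let eF := (Scheme.Modules.pullbackComp h j).app F ≪≫ (Scheme.Modules.pullbackCongr hh).app F
  have hfib' : ∀ ψ : (Scheme.Modules.pullback h).obj E' ⟶ (Scheme.Modules.pullback h).obj F',
      ZeroAt z₀ ψ → ψ = 0 := by
    intro ψ hψ
    have h0 := hfib (eE.inv ≫ ψ ≫ eF.hom) ((hψ.comp_right _).comp_left _)
    exact zero_of_comp_mono eF.hom (zero_of_epi_comp eE.inv h0)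
  -- conclude
  obtain ⟨w, hw⟩ : ∃ w : ↥(W : Scheme.{u}), j w = x := ⟨⟨x, show f x ∈ U from hx ▸ hsU⟩, rfl⟩
  subst hw
  obtain ⟨z, hz⟩ : j w ∈ Set.range (pullback.fst f t) := by
    rw [Scheme.Pullback.range_fst]; exact ⟨IsLocalRing.closedPoint K, hx.symm⟩
  have hwz : h z = w := j.isEmbedding.injective ((hjh z).trans hz)
  subst hwz
  haveI : IsLocallyNoetherian (W : Scheme.{u}) := inferInstance
  have hpow := range_le_pow α h hker hoff hfl' z₀ hw₀ (ξ'.stalkMap p₀).hom hτ φ' hσ hfib'
  have hz' : ∀ v, ((St (h z)).map φ').hom v = 0 :=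
    stalk_eq_zero_of_pow α (ConsLib.isCoh_pullback j hF) (h z) (hker z ▸ RingHom.ker_ne_top _) φ' fun k => hpow k (h z)
  let R := X.presheaf.stalk (j (h z))
  let R' := (W : Scheme.{u}).presheaf.stalk (h z)
  letI : Algebra R R' := (j.stalkMap (h z)).hom.toAlgebra
  have nat := (KFlatLib.stalkPullIso j (h z)).hom.naturality φ
  change (DerSch.stalkFunctor _ (h z)).map φ' ≫ _ = _ at nat
  have hz0 : (DerSch.stalkFunctor _ (h z)).map φ' = 0 := ModuleCat.hom_ext (LinearMap.ext hz')
  rw [hz0, Limits.zero_comp] at nat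
  have hext : (ModuleCat.extendScalars (j.stalkMap (h z)).hom).map ((DerSch.stalkFunctor X (j (h z))).map φ) = 0 :=
    zero_of_epi_comp _ nat.symm
  have h1 : (1 : R') ⊗ₜ[R] (((St (j (h z))).map φ).hom e) = 0 := congr($(hext).hom ((1 : R') ⊗ₜ[R] e))
  have hb := ConcreteCategory.bijective_of_isIso (j.stalkMap (h z))
  have h2 := (CohCmpLib.one_tmul_eq_zero_iff hb.2 _).mp h1
  rw [show RingHom.ker (algebraMap R R') = ⊥ from (RingHom.injective_iff_ker_eq_bot _).mp hb.1,
    Submodule.bot_smul, Submodule.mem_bot] at h2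
  exact h2

end StabLib
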