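import Groth.Agent.StabLib.FibreZero
import Groth.Agent.CohCmpLib.FibreStalk
import Groth.Agent.S9501
import Groth.Agent.S4652

/-!
# Local freeness along a point from the fibre
-/

set_option autoImplicit false
set_option linter.style.haveILetI false
set_option backward.isDefEq.respectTransparency false
set_option maxHeartbeats 1600000
universe u

open CategoryTheory CategoryTheory.Limits AlgebraicGeometry TopologicalSpace Opposite
open DevissLib QCohLib
open scoped TensorProduct

noncomputable section

namespace StabLib

variable {X : Scheme.{u}}

/-- An extension of projective stalks is projective. -/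
theorem projective_stalk_of_mono {A B : X.Modules} (w : A ⟶ B) [Mono w] (x : X)
    [Module.Projective (X.presheaf.stalk x) ((St x).obj A)]
    [Module.Projective (X.presheaf.stalk x) ((St x).obj (cokernel w))] :
    Module.Projective (X.presheaf.stalk x) ((St x).obj B) := by
  have hi : Function.Injective ((St x).map w).hom := (ModuleCat.mono_iff_injective _).mp inferInstance
  have hp : Function.Surjective ((St x).map (cokernel.π w)).hom := CurvParLib.stalk_surjective _ x
  obtain ⟨s, hs⟩ := Module.projective_lifting_property ((St x).map (cokernel.π w)).hom LinearMap.id hp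
  have hex : Function.Exact ((St x).map w).hom ((St x).map (cokernel.π w)).hom :=
    LinearMap.exact_iff.mpr (CurvParLib.range_eq_ker (ShortComplex.exact_cokernel w) x).symm
  exact Module.Projective.of_equiv (hex.splitSurjectiveEquiv hi ⟨s, hs⟩).1.symm

/-- A sheaf with a filtration with projective factor stalks has a projective stalk. -/
theorem projective_stalk_of_series {E : X.Modules} (s : LTSeries (Subobject E)) (h0 : s.head = ⊥)
    (h1 : s.last = ⊤) (x : X)
    (h : ∀ i, Module.Projective (X.presheaf.stalk x) ((St x).obj (StabCat.factor s i))) :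
    Module.Projective (X.presheaf.stalk x) ((St x).obj E) := by
  have hall : ∀ j : Fin (s.length + 1),
      Module.Projective (X.presheaf.stalk x) ((St x).obj ((s j : Subobject E) : X.Modules)) := by
    intro j
    induction j using Fin.induction with
    | zero =>
      have hz : IsZero ((s 0 : Subobject E) : X.Modules) := by
        rw [show s 0 = ⊥ from h0]
        exact (Limits.isZero_zero _).of_iso Subobject.botCoeIsoZero
      haveI : Subsingleton ((St x).obj ((s 0 : Subobject E) : X.Modules)) :=
        ModuleCat.subsingleton_of_isZero (Functor.map_isZero (St x) hz)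
      infer_instance
    | succ i ih =>
      haveI := ih
      haveI : Module.Projective (X.presheaf.stalk x)
          ((St x).obj (cokernel (Subobject.ofLE (s i.castSucc) (s i.succ) (s.step i).le))) := h i
      exact projective_stalk_of_mono (Subobject.ofLE (s i.castSucc) (s i.succ) (s.step i).le) x
  haveI : IsIso (s (Fin.last s.length)).arrow := (Subobject.isIso_arrow_iff_eq_top _).mpr h1
  haveI := hall (Fin.last s.length)
  exact Module.Projective.of_equiv ((St x).mapIso (asIso (s (Fin.last s.length)).arrow)).toLinearEquiv

/-- Freeness from a quotient with free base change. -/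
theorem free_of_quotient {R O S' M : Type u} [CommRing R] [IsLocalRing R] [CommRing O] [IsLocalRing O]
    [IsNoetherianRing O] [Algebra R O] [IsLocalHom (algebraMap R O)] [CommRing S'] [IsLocalRing S'] [Algebra O S']
    (hs : Function.Surjective (algebraMap O S'))
    (hker : RingHom.ker (algebraMap O S') = (IsLocalRing.maximalIdeal R).map (algebraMap R O))
    [AddCommGroup M] [Module O M] [Module.Finite O M] [Module R M] [IsScalarTower R O M] [Module.Flat R M]
    [Module.Projective S' (S' ⊗[O] M)] : Module.Free O M := by
  haveI : Module.Free S' (S' ⊗[O] M) := Module.free_of_flat_of_isLocalRing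
  let b := Module.Free.chooseBasis S' (S' ⊗[O] M)
  choose m hm using fun i => TensorProduct.mk_surjective O M S' hs (b i)
  let c := Pi.basisFun O (Module.Free.ChooseBasisIndex S' (S' ⊗[O] M))
  let u := c.constr ℕ m
  have hu : u.baseChange S' =
      ((Algebra.TensorProduct.basis S' c).equiv b (Equiv.refl _)).toLinearMap := by
    refine (Algebra.TensorProduct.basis S' c).ext fun i => ?_
    rw [LinearEquiv.coe_coe, Module.Basis.equiv_apply, Algebra.TensorProduct.basis_apply,
      LinearMap.baseChange_tmul, Module.Basis.constr_basis]
    exact hm i
  have hb : Function.Bijective (u.baseChange S') := by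
    rw [hu]; exact LinearEquiv.bijective _
  exact Module.Free.of_equiv (LinearEquiv.ofBijective u
    ⟨CohCmpLib.injective_of_quotient (R := R) hs hker u hb.1, CohCmpLib.surjective_of_quotient hs u hb.2⟩)

variable {S : Scheme.{u}} {K : Type u} [Field K]

/-- At a rational point of the base, freeness of the fibre stalk gives freeness of the stalk. -/
theorem free_stalk_of_fibre [IsLocallyNoetherian X] (f : X ⟶ S) (t : Spec (CommRingCat.of K) ⟶ S)
    [IsPreimmersion t] {F : X.Modules} (hF : Coh.IsCoh F) (hfl : FlatMod.IsFlatOver f F)
    (z : ↥(pullback f t))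
    [hP : Module.Projective ((pullback f t).presheaf.stalk z)
      ((St z).obj ((Scheme.Modules.pullback (pullback.fst f t)).obj F))] :
    Module.Free (X.presheaf.stalk (pullback.fst f t z)) ((St (pullback.fst f t z)).obj F) := by
  let s := t (IsLocalRing.closedPoint K)
  let g := S.descResidueField (Scheme.stalkClosedPointTo t)
  have hg : Spec.map g ≫ S.fromSpecResidueField s = t :=
    Scheme.descResidueField_stalkClosedPointTo_fromSpecResidueField K S t
  have hsurj : Function.Surjective (Scheme.stalkClosedPointTo t).hom :=
    (ConcreteCategory.bijective_of_isIso (stalkClosedPointIso (CommRingCat.of K)).hom).2.comp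
      (t.stalkMap_surjective _)
  haveI : IsIso g := by
    refine (ConcreteCategory.isIso_iff_bijective g).mpr ⟨g.hom.injective, fun a => ?_⟩
    obtain ⟨b, rfl⟩ := hsurj a
    exact ⟨S.residue s b, congr($(S.residue_descResidueField (Scheme.stalkClosedPointTo t)).hom b)⟩
  let ψ : pullback f t ⟶ f.fiber s := pullback.map f t f (S.fromSpecResidueField s) (𝟙 X) (Spec.map g) (𝟙 S)
    (by simp) (by rw [Category.comp_id, hg])
  have hψ : ψ ≫ f.fiberι s = pullback.fst f t := by
    simp [ψ, Scheme.Hom.fiberι, pullback.map]
  haveI : IsIso ψ := inferInstanceAs (IsIso (pullback.map _ _ _ _ _ _ _ _ _))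
  obtain ⟨-, hker⟩ := Groth.Agent.S9501.result f s (ψ z)
  let x := pullback.fst f t z
  let O := X.presheaf.stalk x
  let S' := (pullback f t).presheaf.stalk z
  letI : Algebra O S' := ((pullback.fst f t).stalkMap z).hom.toAlgebra
  letI : Algebra (S.presheaf.stalk (f x)) O := (f.stalkMap x).hom.toAlgebra
  haveI : IsLocalHom (algebraMap (S.presheaf.stalk (f x)) O) := inferInstanceAs (IsLocalHom (f.stalkMap x).hom)
  letI : Module (S.presheaf.stalk (f x)) ((St x).obj F) := FlatMod.moduleStalkOver f F x
  haveI : IsScalarTower (S.presheaf.stalk (f x)) O ((St x).obj F) :=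
    IsScalarTower.of_algebraMap_smul fun _ _ => rfl
  haveI : Module.Flat (S.presheaf.stalk (f x)) ((St x).obj F) := hfl x
  haveI := DevissLib.isNoetherian_stalk hF x
  haveI : Module.Projective S' ((Scheme.Modules.pullback (pullback.fst f t) ⋙
      DerSch.stalkFunctor (pullback f t) z).obj F) := hP
  haveI : Module.Projective S' (S' ⊗[O] (St x).obj F) :=
    Module.Projective.of_equiv ((KFlatLib.stalkPullIso (pullback.fst f t) z).app F).toLinearEquiv
  have hs : Function.Surjective (algebraMap O S') := (pullback.fst f t).stalkMap_surjective z
  have hk : ∀ (h : pullback f t ⟶ X), h = ψ ≫ f.fiberι s →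
      RingHom.ker (h.stalkMap z).hom = (IsLocalRing.maximalIdeal (S.presheaf.stalk (f (h z)))).map
        (f.stalkMap (h z)).hom := by
    rintro h rfl
    rw [Scheme.Hom.stalkMap_comp, CommRingCat.hom_comp,
      RingHom.ker_comp_of_injective _ (ConcreteCategory.bijective_of_isIso (ψ.stalkMap z)).1]
    exact hker
  exact free_of_quotient (R := S.presheaf.stalk (f x)) (S' := S') hs (hk _ hψ.symm)

end StabLib
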