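import Groth.Agent.StabLib.Lattice
import Groth.Agent.StabLib.Mu

/-!
# Slope filtrations for a polynomial valuation on a lattice
-/

set_option autoImplicit false

open Polynomial

noncomputable section

namespace StabLib

universe v

variable {Λ : Type v} [Lattice Λ] [BoundedOrder Λ]

theorem alpha_pred_dd {d : ℕ} (P Q : ℚ[X]) :
    StabCat.alpha (d - 1) (dd d P Q) =
      StabCat.alpha d P * StabCat.alpha (d - 1) Q - StabCat.alpha d Q * StabCat.alpha (d - 1) P := by
  simp only [dd, StabCat.alpha, coeff_sub, coeff_smul, smul_eq_mul]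
  ring

theorem alpha_pred_dd_nonneg {d : ℕ} {P Q : ℚ[X]} (hP : P.natDegree ≤ d) (hQ : Q.natDegree ≤ d)
    (h : Nn (dd d P Q)) : 0 ≤ StabCat.alpha (d - 1) (dd d P Q) :=
  alpha_nonneg (d - 1) (natDegree_dd_le hP hQ) h

namespace Val

variable {d : ℕ} (V : Val Λ d)

/-- The coefficient below the multiplicity, of an interval. -/
def ad (a b : Λ) : ℚ := StabCat.alpha (d - 1) (V.q a b)

theorem ad_add (a b c : Λ) : V.ad a b + V.ad b c = V.ad a c := by
  rw [ad, ad, ad, ← alpha_add, q_add]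

theorem ad_inf_sup (a b : Λ) : V.ad (a ⊓ b) a = V.ad b (a ⊔ b) := congrArg _ (V.q_inf_sup a b)

theorem al_inf_sup (a b : Λ) : V.al (a ⊓ b) a = V.al b (a ⊔ b) := congrArg _ (V.q_inf_sup a b)

theorem deg_q (a b : Λ) : (V.q a b).natDegree ≤ d :=
  (natDegree_sub_le _ _).trans (max_le (V.deg b) (V.deg a))

theorem ad_nonneg {a b : Λ} (h : a ≤ b) (h0 : V.al a b = 0) : 0 ≤ V.ad a b :=
  alpha_pred_nonneg (V.deg_q a b) (V.nn_q h) h0

/-- The interval is pure and slope semistable. -/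
def MuSemi (a b : Λ) : Prop :=
  a < b ∧ (∀ c, a < c → c ≤ b → 0 < V.al a c) ∧
    ∀ c, a < c → c ≤ b → V.ad a c * V.al a b ≤ V.ad a b * V.al a c

theorem MuSemi.al_pos {a b : Λ} (h : V.MuSemi a b) : 0 < V.al a b := h.2.1 b h.1 le_rfl

theorem MuSemi.le {a b : Λ} (h : V.MuSemi a b) {c : Λ} (h1 : a ≤ c) (h2 : c ≤ b) :
    V.ad a c * V.al a b ≤ V.ad a b * V.al a c := by
  rcases eq_or_lt_of_le h1 with rfl | h1'
  · simp [ad, al, q_self, alpha_zero]
  · exact h.2.2 c h1' h2

/-- `g` is the maximal slope destabilising element over `a`. -/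
def MuMax (a g : Λ) : Prop :=
  a < g ∧ ∀ c, a < c → V.ad a c * V.al a g ≤ V.ad a g * V.al a c ∧
    (V.ad a c * V.al a g = V.ad a g * V.al a c → c ≤ g)

theorem exists_muMax [WellFoundedGT Λ] {a : Λ} (ha : V.Pure a) (hlt : a < ⊤) : ∃ g, V.MuMax a g := by
  obtain ⟨f, hf⟩ := V.exists_maxD ha hlt
  have hf' : ∀ c, a ≤ c → V.ad a c * V.al a f ≤ V.ad a f * V.al a c := by
    intro c hc
    rcases eq_or_lt_of_le hc with rfl | hc'
    · simp [ad, al, q_self, alpha_zero]
    have := alpha_pred_dd_nonneg (V.deg_q a c) (V.deg_q a f) (hf.2 c hc').1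
    rw [alpha_pred_dd] at this
    simp only [ad, al] at this ⊢
    linarith
  let S : Set Λ := {c | a < c ∧ V.ad a c * V.al a f = V.ad a f * V.al a c}
  obtain ⟨g, ⟨hag, hg⟩, hmax⟩ := (wellFounded_gt (α := Λ)).has_min S ⟨f, hf.1, rfl⟩
  have haf := ha f hf.1
  refine ⟨g, hag, fun c hc => ⟨le_of_mul_le_mul_right ?_ haf, fun he => ?_⟩⟩
  · nlinarith [mul_le_mul_of_nonneg_right (hf' c hc.le) (ha g hag).le, congrArg (· * V.al a c) hg]
  · have hce : V.ad a c * V.al a f = V.ad a f * V.al a c := by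
      refine mul_right_cancel₀ (ha g hag).ne' ?_
      linear_combination V.al a f * he + V.al a c * hg
    have h1 := hf' (c ⊔ g) (hc.le.trans le_sup_left)
    have h2 := hf' (c ⊓ g) (le_inf hc.le hag.le)
    have e1 : V.ad a (c ⊓ g) + V.ad a (c ⊔ g) = V.ad a c + V.ad a g := by
      rw [← V.ad_add a (c ⊓ g) c, ← V.ad_add a g (c ⊔ g), V.ad_inf_sup]; ring
    have e2 : V.al a (c ⊓ g) + V.al a (c ⊔ g) = V.al a c + V.al a g := by
      rw [← V.al_add a (c ⊓ g) c, ← V.al_add a g (c ⊔ g), V.al_inf_sup]; ring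
    have hS : c ⊔ g ∈ S := by
      refine ⟨hc.trans_le le_sup_left, le_antisymm h1 ?_⟩
      have := congrArg (· * V.al a f) e1
      have := congrArg (V.ad a f * ·) e2
      linarith
    exact le_sup_left.trans (le_of_eq (eq_of_le_of_not_lt le_sup_right (hmax _ hS)).symm)

variable {V}

theorem MuMax.semi {a g : Λ} (ha : V.Pure a) (h : V.MuMax a g) : V.MuSemi a g :=
  ⟨h.1, fun c hc _ => ha c hc, fun c hc _ => (h.2 c hc).1⟩

theorem MuMax.lt {a g : Λ} (h : V.MuMax a g) {c : Λ} (hc : g < c) :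
    V.ad g c * V.al a g < V.ad a g * V.al g c := by
  obtain ⟨h1, h2⟩ := h.2 c (h.1.trans hc)
  have h3 : V.ad a c * V.al a g < V.ad a g * V.al a c :=
    lt_of_le_of_ne h1 fun he => absurd (h2 he) hc.not_ge
  rw [← V.ad_add a g c, ← V.al_add a g c] at h3
  linarith

theorem MuMax.pure {a g : Λ} (ha : V.Pure a) (h : V.MuMax a g) : V.Pure g := by
  intro b hb
  refine lt_of_le_of_ne (V.al_nonneg hb.le) fun h0 => ?_
  have := h.lt hb
  rw [← h0, mul_zero] at this
  nlinarith [ha g h.1, V.ad_nonneg hb.le h0.symm]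

theorem MuMax.unique {a f g : Λ} (hf : V.MuMax a f) (hg : V.MuMax a g) : f = g := by
  have h1 := (hf.2 g hg.1).1
  have h2 := (hg.2 f hf.1).1
  exact le_antisymm ((hg.2 f hf.1).2 (by linarith)) ((hf.2 g hg.1).2 (by linarith))

variable (V)

/-- A slope Harder-Narasimhan chain from `a` to `⊤`. -/
def MuHNc (a : Λ) (s : LTSeries Λ) : Prop :=
  s.head = a ∧ s.last = ⊤ ∧ (∀ i : Fin s.length, V.MuSemi (s i.castSucc) (s i.succ)) ∧
    ∀ i j : Fin s.length, i.val + 1 = j.val →
      V.ad (s j.castSucc) (s j.succ) * V.al (s i.castSucc) (s i.succ) <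
        V.ad (s i.castSucc) (s i.succ) * V.al (s j.castSucc) (s j.succ)

theorem exists_muHN [WellFoundedGT Λ] : ∀ a : Λ, V.Pure a → ∃ s, V.MuHNc a s := by
  intro a
  induction a using WellFoundedGT.induction with
  | _ a IH =>
  intro ha
  rcases eq_or_lt_of_le (le_top (a := a)) with htop | hlt
  · exact ⟨RelSeries.singleton _ a, rfl, htop, fun i => Fin.elim0 i, fun i => Fin.elim0 i⟩
  obtain ⟨g, hg⟩ := V.exists_muMax ha hlt
  obtain ⟨t, ht1, ht2, ht3, ht4⟩ := IH g hg.1 (hg.pure ha)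
  have hag : a < t.head := ht1 ▸ hg.1
  refine ⟨consS t a hag, consS_head _ _ _, (consS_last _ _ _).trans ht2,
    consS_forall t a hag (R := fun x y => V.MuSemi x y) (ht1.symm ▸ hg.semi ha) ht3, fun i j hij =>
    consS_forall₂ t a hag (R := fun x y x' y' => V.ad x' y' * V.al x y < V.ad x y * V.al x' y')
      (fun j hj => ?_) ht4 i j hij⟩
  have e1 : t j.castSucc = g := (congrArg t.toFun (Fin.ext hj)).trans ht1
  rw [e1, ht1]
  exact hg.lt (e1 ▸ t.step j)

variable {V}

theorem MuHNc.lt_of_lt {a : Λ} {s : LTSeries Λ} (h : V.MuHNc a s) (i : Fin s.length) :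
    ∀ (k : ℕ) (hk : k < s.length), i.val < k →
      V.ad (s (Fin.castSucc ⟨k, hk⟩)) (s (Fin.succ ⟨k, hk⟩)) * V.al (s i.castSucc) (s i.succ) <
        V.ad (s i.castSucc) (s i.succ) * V.al (s (Fin.castSucc ⟨k, hk⟩)) (s (Fin.succ ⟨k, hk⟩)) := by
  intro k
  induction k with
  | zero => intro _ hi; omega
  | succ k IH =>
    intro hk hi
    have h1 := h.2.2.2 ⟨k, by omega⟩ ⟨k + 1, hk⟩ rfl
    rcases Nat.lt_or_ge i.val k with hik | hik
    · have h2 := IH (by omega) hik
      refine lt_of_mul_lt_mul_right ?_ (MuSemi.al_pos V (h.2.2.1 ⟨k, by omega⟩)).le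
      nlinarith [mul_lt_mul_of_pos_right h1 (MuSemi.al_pos V (h.2.2.1 i)),
        mul_lt_mul_of_pos_right h2 (MuSemi.al_pos V (h.2.2.1 ⟨k + 1, hk⟩))]
    · rw [show i = ⟨k, by omega⟩ from Fin.ext (show i.val = k by omega)]
      exact h1

theorem MuHNc.first {a : Λ} {s : LTSeries Λ} (h : V.MuHNc a s) (i : Fin s.length) (c : Λ)
    (hc : s i.castSucc ≤ c) :
    V.ad (s i.castSucc) c * V.al (s i.castSucc) (s i.succ) ≤
        V.ad (s i.castSucc) (s i.succ) * V.al (s i.castSucc) c ∧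
      (V.ad (s i.castSucc) c * V.al (s i.castSucc) (s i.succ) =
        V.ad (s i.castSucc) (s i.succ) * V.al (s i.castSucc) c → c ≤ s i.succ) := by
  suffices key : ∀ (k : ℕ) (hk : k < s.length + 1), i.val < k → ∀ c : Λ, s i.castSucc ≤ c → c ≤ s ⟨k, hk⟩ →
      V.ad (s i.castSucc) c * V.al (s i.castSucc) (s i.succ) ≤
          V.ad (s i.castSucc) (s i.succ) * V.al (s i.castSucc) c ∧
        (V.ad (s i.castSucc) c * V.al (s i.castSucc) (s i.succ) =
          V.ad (s i.castSucc) (s i.succ) * V.al (s i.castSucc) c → c ≤ s i.succ) from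
    key s.length (Nat.lt_succ_self _) i.isLt c hc (le_top.trans h.2.1.ge)
  intro k
  induction k with
  | zero => intro _ hi; omega
  | succ k IH =>
    intro hk hi c hc hck
    rcases Nat.lt_or_ge i.val k with hik | hik
    swap
    · have hik' : (⟨k + 1, hk⟩ : Fin (s.length + 1)) = i.succ := Fin.ext (show k + 1 = i.val + 1 by omega)
      rw [hik'] at hck
      exact ⟨MuSemi.le V (h.2.2.1 _) hc hck, fun _ => hck⟩
    let k' : Fin s.length := ⟨k, by omega⟩
    by_cases hle : c ≤ s k'.castSucc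
    · exact IH (by omega) hik c hc hle
    have hik' : s i.castSucc ≤ s k'.castSucc := s.monotone (show i.val ≤ k by omega)
    have hlt : s k'.castSucc < c ⊔ s k'.castSucc := lt_of_le_of_ne le_sup_right fun e => hle (e ▸ le_sup_left)
    have hub : c ⊔ s k'.castSucc ≤ s k'.succ := sup_le hck (s.monotone k'.castSucc_le_succ)
    obtain ⟨hn, -⟩ := IH (by omega) hik (c ⊓ s k'.castSucc) (le_inf hc hik') inf_le_right
    have hps : V.ad (s k'.castSucc) (c ⊔ s k'.castSucc) * V.al (s i.castSucc) (s i.succ) <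
        V.ad (s i.castSucc) (s i.succ) * V.al (s k'.castSucc) (c ⊔ s k'.castSucc) := by
      have h1 := (h.2.2.1 k').2.2 _ hlt hub
      have h2 := h.lt_of_lt i k (show k < s.length by omega) hik
      refine lt_of_mul_lt_mul_right ?_ (MuSemi.al_pos V (h.2.2.1 k')).le
      nlinarith [mul_le_mul_of_nonneg_right h1 (MuSemi.al_pos V (h.2.2.1 i)).le,
        mul_lt_mul_of_pos_right h2 ((h.2.2.1 k').2.1 _ hlt hub)]
    have htot : V.ad (s i.castSucc) c * V.al (s i.castSucc) (s i.succ) <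
        V.ad (s i.castSucc) (s i.succ) * V.al (s i.castSucc) c := by
      rw [← V.ad_add _ (c ⊓ s k'.castSucc) c, ← V.al_add _ (c ⊓ s k'.castSucc) c, V.ad_inf_sup, V.al_inf_sup]
      linarith
    exact ⟨htot.le, fun h0 => absurd h0 htot.ne⟩

theorem MuHNc.muMax {a : Λ} {s : LTSeries Λ} (h : V.MuHNc a s) (i : Fin s.length) :
    V.MuMax (s i.castSucc) (s i.succ) :=
  ⟨(h.2.2.1 i).1, fun c hc => h.first i c hc.le⟩

theorem MuHNc.unique {a : Λ} {s t : LTSeries Λ} (hs : V.MuHNc a s) (ht : V.MuHNc a t) : s = t := by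
  have key : ∀ (u v : LTSeries Λ), V.MuHNc a u → V.MuHNc a v → ∀ (k : ℕ) (hk : k < u.length + 1),
      ∃ hk' : k < v.length + 1, u ⟨k, hk⟩ = v ⟨k, hk'⟩ := by
    intro u v hu hv k
    induction k with
    | zero => exact fun _ => ⟨Nat.succ_pos _, hu.1.trans hv.1.symm⟩
    | succ k IH =>
      intro hk
      obtain ⟨hk', he⟩ := IH (by omega)
      have hkv : k < v.length := by
        by_contra hcon
        have h1 : u ⟨k, by omega⟩ < u ⟨k + 1, hk⟩ := u.step ⟨k, by omega⟩
        rw [he, show (⟨k, hk'⟩ : Fin (v.length + 1)) = Fin.last _ from Fin.ext (by simp; omega)] at h1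
        rw [show v (Fin.last _) = ⊤ from hv.2.1] at h1
        exact absurd h1 not_top_lt
      refine ⟨by omega, ?_⟩
      have h1 := hu.muMax ⟨k, by omega⟩
      have h2 := hv.muMax ⟨k, hkv⟩
      exact MuMax.unique h1 (show V.MuMax (u ⟨k, by omega⟩) _ from he ▸ h2)
  have hlen : s.length = t.length := by
    obtain ⟨h1, -⟩ := key s t hs ht s.length (Nat.lt_succ_self _)
    obtain ⟨h2, -⟩ := key t s ht hs t.length (Nat.lt_succ_self _)
    omega
  refine RelSeries.ext hlen (funext fun i => ?_)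
  obtain ⟨_, h⟩ := key s t hs ht i.val i.isLt
  exact h

end Val

end StabLib

end
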