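import Groth.Agent.StabLib.Filt
import Groth.Agent.StabLib.Ell
import Groth.Agent.StabLib.MuLattice

/-!
# The minimal `ℓ`-destabilising quotient
-/

set_option autoImplicit false
set_option linter.style.haveILetI false
universe u v

open CategoryTheory CategoryTheory.Limits AlgebraicGeometry TopologicalSpace Opposite Polynomial
open DevissLib HilbPolyLib

noncomputable section

namespace StabLib

section Lat

variable {Λ : Type v} [Lattice Λ] [BoundedOrder Λ] {d : ℕ} (V : Val Λ d) (ℓ : ℕ)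

/-- The truncated defect. -/
def tdd (P Q : ℚ[X]) : ℚ[X] := StabCat.topPart ℓ d (dd d P Q)

theorem tdd_eq (P Q : ℚ[X]) :
    tdd (d := d) ℓ P Q = dd d (StabCat.topPart ℓ d P) (StabCat.topPart ℓ d Q) := (dd_topPart ℓ d P Q).symm

theorem topPart_add (P Q : ℚ[X]) :
    StabCat.topPart ℓ d (P + Q) = StabCat.topPart ℓ d P + StabCat.topPart ℓ d Q := by
  ext i
  simp only [coeff_topPart, coeff_add]
  split_ifs <;> simp

theorem tdd_add (P Q Q' : ℚ[X]) : tdd (d := d) ℓ P (Q + Q') = tdd (d := d) ℓ P Q + tdd (d := d) ℓ P Q' := by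
  rw [tdd, dd_add_right, topPart_add]; rfl

theorem tdd_self (P : ℚ[X]) : tdd (d := d) ℓ P P = 0 := by rw [tdd_eq, dd_self]

theorem tdd_zero (P : ℚ[X]) : tdd (d := d) ℓ P 0 = 0 := by
  rw [tdd, dd_zero_right]; ext i; simp [coeff_topPart]

/-- The truncated semistability of a step of a chain, in quotient form. -/
def EllStep (a b : Λ) : Prop :=
  ∀ x, a ≤ x → x ≤ b → Nn (tdd (d := d) ℓ (V.q a b) (V.q x b))

theorem nn_tdd_alpha_zero {P Q : ℚ[X]} (hQ : Q.natDegree ≤ d) (hP : 0 ≤ StabCat.alpha d P) (h : Nn Q)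
    (h0 : StabCat.alpha d Q = 0) : Nn (tdd (d := d) ℓ P Q) := by
  rw [tdd, dd, h0, zero_smul, sub_zero]
  refine (h.smul hP).topPart ((natDegree_smul_le _ _).trans hQ)

/-- Above a decreasing chain of semistable steps the last step is the least quotient, strictly. -/
theorem last_least {a : Λ} {s : LTSeries Λ} (h0 : s.head = a) (hstep : ∀ i : Fin s.length, EllStep V ℓ (s i.castSucc) (s i.succ))
    (hal : ∀ i : Fin s.length, 0 < V.al (s i.castSucc) (s i.succ))
    (hdec : ∀ i j : Fin s.length, i.val + 1 = j.val →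
      Ps (tdd (d := d) ℓ (V.q (s j.castSucc) (s j.succ)) (V.q (s i.castSucc) (s i.succ))))
    (m : Fin s.length) {c : Λ} (hc : a ≤ c) :
    ∀ (k : ℕ) (hk : k < s.length + 1), k ≤ m.val →
      Nn (tdd (d := d) ℓ (V.q (s m.castSucc) (s m.succ)) (V.q c (c ⊔ s ⟨k, hk⟩))) ∧
        (0 < V.al c (c ⊔ s ⟨k, hk⟩) →
          Ps (tdd (d := d) ℓ (V.q (s m.castSucc) (s m.succ)) (V.q c (c ⊔ s ⟨k, hk⟩)))) := by
  have hlt : ∀ (j : ℕ) (hj : j < s.length) (i : Fin s.length), i.val < j →
      Ps (tdd (d := d) ℓ (V.q (s (Fin.castSucc ⟨j, hj⟩)) (s (Fin.succ ⟨j, hj⟩))) (V.q (s i.castSucc) (s i.succ))) := by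
    intro j
    induction j with
    | zero => intro _ i hi; omega
    | succ j IH =>
      intro hj i hi
      have h1 := hdec ⟨j, by omega⟩ ⟨j + 1, hj⟩ rfl
      rcases Nat.lt_or_ge i.val j with hij | hij
      · have h2 := IH (by omega) i hij
        rw [tdd_eq] at h1 h2 ⊢
        exact dd_trans_lt_le d (by rw [alpha_topPart]; exact (hal _).le) (by rw [alpha_topPart]; exact hal _)
          (by rw [alpha_topPart]; exact hal _) h1 h2.nn
      · rw [show i = ⟨j, by omega⟩ from Fin.ext (show i.val = j by omega)]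
        exact h1
  intro k
  induction k with
  | zero =>
    intro hk _
    have hz : s ⟨0, hk⟩ = a := h0
    rw [hz, sup_eq_left.mpr hc, V.q_self, tdd_zero]
    exact ⟨nn_zero, fun h => absurd h (by simp [Val.al, V.q_self, alpha_zero])⟩
  | succ k IH =>
    intro hk hkm
    let k' : Fin s.length := ⟨k, by omega⟩
    obtain ⟨hN, hP⟩ := IH (by omega) (by omega)
    let x := s k'.succ ⊓ (c ⊔ s k'.castSucc)
    have e : V.q (c ⊔ s k'.castSucc) (c ⊔ s k'.succ) = V.q x (s k'.succ) := by
      rw [V.q_inf_sup, ← sup_assoc, sup_comm (s k'.succ) c, sup_assoc,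
        sup_eq_left.mpr (s.monotone k'.castSucc_le_succ)]
    have hx1 : s k'.castSucc ≤ x := le_inf (s.monotone k'.castSucc_le_succ) le_sup_right
    have hm : 0 < StabCat.alpha d (V.q (s m.castSucc) (s m.succ)) := hal m
    have hQ0 : 0 ≤ StabCat.alpha d (V.q x (s k'.succ)) := V.al_nonneg inf_le_left
    have key : Nn (tdd (d := d) ℓ (V.q (s m.castSucc) (s m.succ)) (V.q x (s k'.succ))) ∧
        (0 < StabCat.alpha d (V.q x (s k'.succ)) →
          Ps (tdd (d := d) ℓ (V.q (s m.castSucc) (s m.succ)) (V.q x (s k'.succ)))) := by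
      have hps : 0 < StabCat.alpha d (V.q x (s k'.succ)) →
          Ps (tdd (d := d) ℓ (V.q (s m.castSucc) (s m.succ)) (V.q x (s k'.succ))) := fun hpos => by
        have h1 := hlt m.val m.isLt k' (show k < m.val by omega)
        have h2 := hstep k' x hx1 inf_le_left
        rw [tdd_eq] at h1 h2 ⊢
        exact dd_trans_lt_le d (by rw [alpha_topPart]; exact hm.le) (by rw [alpha_topPart]; exact hal k')
          (by rw [alpha_topPart]; exact hpos) h1 h2
      refine ⟨?_, hps⟩
      rcases eq_or_lt_of_le hQ0 with h | h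
      · exact nn_tdd_alpha_zero ℓ (V.deg_q _ _) hm.le (V.nn_q inf_le_left) h.symm
      · exact (hps h).nn
    rw [show s ⟨k + 1, hk⟩ = s k'.succ from rfl]
    have hsum : V.q c (c ⊔ s k'.succ) = V.q c (c ⊔ s k'.castSucc) + V.q x (s k'.succ) := by
      rw [← e, V.q_add]
    rw [Val.al, hsum, tdd_add]
    refine ⟨hN.add key.1, fun h => ?_⟩
    rw [alpha_add] at h
    by_cases hx : 0 < StabCat.alpha d (V.q x (s k'.succ))
    · exact hN.add_ps (key.2 hx)
    · exact (hP (show 0 < StabCat.alpha d (V.q c (c ⊔ s k'.castSucc)) by linarith)).add_nn key.1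

/-- A quotient with the truncated reduced polynomial and rank of the last step is the last step. -/
theorem eq_penultimate {a : Λ} {s : LTSeries Λ} (h0 : s.head = a) (h1 : s.last = ⊤)
    (hstep : ∀ i : Fin s.length, EllStep V ℓ (s i.castSucc) (s i.succ))
    (hal : ∀ i : Fin s.length, 0 < V.al (s i.castSucc) (s i.succ))
    (hdec : ∀ i j : Fin s.length, i.val + 1 = j.val →
      Ps (tdd (d := d) ℓ (V.q (s j.castSucc) (s j.succ)) (V.q (s i.castSucc) (s i.succ))))
    (m : Fin s.length) (hm : m.val + 1 = s.length) {c : Λ} (hc : a ≤ c)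
    (hpc : V.Pure c) (hpm : V.Pure (s m.castSucc))
    (hα : V.al (s m.castSucc) ⊤ = V.al c ⊤)
    (hred : tdd (d := d) ℓ (V.q (s m.castSucc) ⊤) (V.q c ⊤) = 0) : c = s m.castSucc := by
  have hms : s m.succ = ⊤ := (congrArg s.toFun (Fin.ext (by simp; omega) : m.succ = Fin.last _)).trans h1
  obtain ⟨hN, hP⟩ := last_least V ℓ h0 hstep hal hdec m hc m.val (by omega) le_rfl
  rw [show s ⟨m.val, by omega⟩ = s m.castSucc from rfl] at hN hP
  rw [hms] at hN hP
  let x := s m.succ ⊓ (c ⊔ s m.castSucc)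
  have hx1 : s m.castSucc ≤ x := le_inf (s.monotone m.castSucc_le_succ) le_sup_right
  have h2 := hstep m x hx1 inf_le_left
  have hx : x = c ⊔ s m.castSucc := by simp only [x, hms, top_inf_eq]
  rw [hx, hms] at h2
  have hle : s m.castSucc ≤ c := by
    by_contra hnle
    have hlt : c < c ⊔ s m.castSucc := lt_of_le_of_ne le_sup_left fun e => hnle (e ▸ le_sup_right)
    have hps := (hP (hpc _ hlt)).add_nn h2
    rw [← tdd_add, V.q_add, hred] at hps
    exact ps_ne_zero hps rfl
  by_contra hne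
  have hpos := hpm c (lt_of_le_of_ne hle (Ne.symm hne))
  have := V.al_add (s m.castSucc) c ⊤
  rw [hα] at this
  linarith

end Lat

variable {X : Scheme.{u}} {k : Type u} [Field k] [X.Over (Spec (CommRingCat.of k))]
  [IsProper (X ↘ Spec (CommRingCat.of k))] {L : X.Modules} (hA : CohB1.IsAmple L)
  {E : X.Modules} [IsNoetherian X] (hE : Coh.IsCoh E) {d : ℕ} (hd : topologicalKrullDim (CohB1.support E) ≤ (d : ℕ))

include hA hE hd

theorem ellStep_of_semistable {ℓ : ℕ} {a b : CSub E} (h : a.1 ≤ b.1)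
    (hss : ShStab.IsEllSemistable k X L (cFac a b h) d ℓ) :
    letI := cLattice hE
    letI := cBounded hE
    EllStep (cVal (k := k) hA hE hd) ℓ a b ∧ 0 < (cVal (k := k) hA hE hd).al a b := by
  letI := cLattice hE
  letI := cBounded hE
  set V := cVal (k := k) hA hE hd
  have hQ := isCoh_cFac (a := a) (b := b) h
  have hab : 0 < StabCat.alpha d (V.q a b) := by
    rw [← hPoly_cFac hA hE hd h]
    exact (hPoly_alpha_pos_iff (k := k) hA hQ (dim_cFac hd h)).mpr (hss.2.2.1 _ (𝟙 _) inferInstance hQ hss.2.1)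
  refine ⟨fun x hax hxb => ?_, hab⟩
  have hax' : a.1 ≤ x.1 := hax
  have hxb' : x.1 ≤ b.1 := hxb
  have hQx : 0 ≤ StabCat.alpha d (V.q x b) := V.al_nonneg hxb
  have hadd := V.al_add a x b
  simp only [Val.al] at hadd
  rcases eq_or_lt_of_le hQx with h0 | h0
  · exact nn_tdd_alpha_zero ℓ (V.deg_q _ _) hab.le (V.nn_q hxb) h0.symm
  rcases eq_or_lt_of_le hax with rfl | hlt
  · rw [tdd_self]; exact nn_zero
  have hxpos : 0 < StabCat.alpha d (V.q a x) := by
    have := hss.2.2.1 _ (cFacMap hax' hxb') (mono_cFacMap hax' hxb') (isCoh_cFac hax')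
      ((le_iff_lt_of_ps (k := k) hA hE hd hax').mp hlt)
    rw [← hPoly_alpha_pos_iff (k := k) hA (isCoh_cFac hax') (dim_cFac hd hax'), hPoly_cFac hA hE hd hax'] at this
    exact this
  have h3 := hss.2.2.2 _ (cFacMap hax' hxb') (mono_cFacMap hax' hxb') (isCoh_cFac hax') _ _
    (hPoly_spec hA (isCoh_cFac hax')) (hPoly_spec hA hQ)
  change 0 < StabCat.alpha d (HPoly k L (cFac a x hax')) → StabCat.alpha d (HPoly k L (cFac a x hax')) <
      StabCat.alpha d (HPoly k L (cFac a b h)) → StabCat.RedLE d (StabCat.topPart ℓ d (HPoly k L (cFac a x hax')))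
      (StabCat.topPart ℓ d (HPoly k L (cFac a b h))) at h3
  rw [hPoly_cFac hA hE hd hax', hPoly_cFac hA hE hd h, redLE_iff, dd_topPart] at h3
  have h4 := h3 hxpos (by linarith)
  have e : dd d (V.q a b) (V.q x b) = dd d (V.q a x) (V.q a b) := by
    rw [show V.q x b = V.q a b - V.q a x from eq_sub_of_add_eq' (V.q_add a x b), dd_sub_right, dd_self, zero_sub,
      ← dd_swap]
  rw [tdd, e]
  exact h4

theorem pure_of_cFac_top {a : CSub E}
    (hp : letI := cLattice hE; letI := cBounded hE; ShStab.IsPure X (cFac a (⊤ : CSub E) le_top) d) :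
    letI := cLattice hE
    letI := cBounded hE
    (cVal (k := k) hA hE hd).Pure a := by
  letI := cLattice hE
  letI := cBounded hE
  intro c hac
  have hac' : a.1 ≤ c.1 := hac.le
  have hct : c.1 ≤ (⊤ : CSub E).1 := le_top
  have := hp _ (cFacMap hac' hct) (mono_cFacMap hac' hct) (isCoh_cFac hac')
    ((le_iff_lt_of_ps (k := k) hA hE hd hac').mp hac)
  rw [← hPoly_alpha_pos_iff (k := k) hA (isCoh_cFac hac') (dim_cFac hd hac'), hPoly_cFac hA hE hd hac'] at this
  exact this

/-- The quotient by an element, as the factor to the top. -/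
theorem nonempty_cokernel_arrow (a : CSub E) :
    letI := cLattice hE
    letI := cBounded hE
    Nonempty (cokernel a.1.arrow ≅ cFac a (⊤ : CSub E) le_top) := by
  letI := cLattice hE
  letI := cBounded hE
  refine ⟨(cokernel.mapIso (Subobject.ofLE a.1 (⊤ : CSub E).1 le_top) a.1.arrow (Iso.refl _)
    (asIso (⊤ : Subobject E).arrow) ?_).symm⟩
  exact (Subobject.ofLE_arrow _).trans (Category.id_comp _).symm

/-- The minimal `ℓ`-destabilising quotient is unique. -/
theorem ell_last_unique {ℓ : ℕ} (h0 : ¬ IsZero E) {s : LTSeries (Subobject E)}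
    (hs : StabCat.IsHNWith (fun G => ShStab.IsEllSemistable k X L G d ℓ)
      (fun G P => ∃ Q : Polynomial ℚ, ShStab.IsHilbPoly k X L G Q ∧ P = StabCat.topPart ℓ d Q) d E s)
    {G : X.Modules} (q : E ⟶ G) [Epi q] (hG : Coh.IsCoh G) (hGp : ShStab.IsPure X G d)
    {pF pG : ℚ[X]} (hpF : ShStab.IsHilbPoly k X L (cokernel s.eraseLast.last.arrow) pF)
    (hpG : ShStab.IsHilbPoly k X L G pG) (hα : StabCat.alpha d pF = StabCat.alpha d pG)
    (hred : StabCat.RedEq d (StabCat.topPart ℓ d pF) (StabCat.topPart ℓ d pG)) :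
    ∃ φ : (cokernel s.eraseLast.last.arrow) ≅ G, cokernel.π s.eraseLast.last.arrow ≫ φ.hom = q := by
  letI := cLattice hE
  letI := cBounded hE
  obtain ⟨t, rfl⟩ := exists_lift hE s hs.2.1 fun i => (hs.2.2.1 i).1
  obtain ⟨h1, h2, h3, h4⟩ := hs
  set V := cVal (k := k) hA hE hd
  have ht1 : t.head = ⊥ := Subtype.ext h1
  have ht2 : t.last = ⊤ := Subtype.ext h2
  have hlen : 0 < t.length := by
    by_contra hlen
    have hl : t.head = t.last := congrArg t.toFun (Fin.ext (by simp; omega))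
    rw [ht1, ht2] at hl
    exact (bot_lt_top hE hA hd k h0).ne hl
  let m : Fin t.length := ⟨t.length - 1, by omega⟩
  have hle : ∀ i : Fin t.length, (t i.castSucc).1 ≤ (t i.succ).1 := fun i => le_of_lt (t.step i)
  have hst := fun i => ellStep_of_semistable hA hE hd (hle i) (h3 i)
  have hdec : ∀ i j : Fin t.length, i.val + 1 = j.val →
      Ps (tdd (d := d) ℓ (V.q (t j.castSucc) (t j.succ)) (V.q (t i.castSucc) (t i.succ))) := fun i j hij => by
    have := h4 i j hij _ _ ⟨_, hPoly_spec hA (isCoh_cFac (hle i)), rfl⟩ ⟨_, hPoly_spec hA (isCoh_cFac (hle j)), rfl⟩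
    rw [redLT_iff] at this
    change Ps (dd d (StabCat.topPart ℓ d (HPoly k L (cFac _ _ (hle j))))
      (StabCat.topPart ℓ d (HPoly k L (cFac _ _ (hle i))))) at this
    rw [hPoly_cFac hA hE hd, hPoly_cFac hA hE hd, ← tdd_eq] at this
    exact this
  have hlast : (toSub t).eraseLast.last = (t m.castSucc).1 := rfl
  let c : CSub E := ⟨Subobject.mk (kernel.ι q),
    QCohLib.isCoh_of_iso (Subobject.underlyingIso _).symm (QCohLib.isCoh_kernel q hE hG.1)⟩
  have eG : V.q c ⊤ = pG := by
    rw [← (eq_sub_of_add_eq' (V.q_add ⊥ c ⊤)).symm, q_top, q_bot,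
      hPoly_congr (k := k) hA c.2 (Subobject.underlyingIso _), hPoly_ker (k := k) hA q hE hG, add_sub_cancel_left,
      hPoly_eq hA hG hpG]
  have eF : V.q (t m.castSucc) ⊤ = pF := by
    obtain ⟨i⟩ := nonempty_cokernel_arrow hA hE hd (t m.castSucc)
    rw [← hPoly_cFac hA hE hd (le_top : (t m.castSucc).1 ≤ (⊤ : CSub E).1),
      hPoly_congr (k := k) hA (isCoh_cFac _) i.symm]
    refine hPoly_eq hA (QCohLib.isCoh_cokernel _ (t m.castSucc).2.1 hE) ?_
    exact hpF
  have hpm : V.Pure (t m.castSucc) := by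
    have hm : t m.succ = ⊤ := (congrArg t.toFun (Fin.ext (by simp [m]; omega) : m.succ = Fin.last _)).trans ht2
    refine pure_of_cFac_top hA hE hd ?_
    have h := (h3 m).2.2.1
    change ShStab.IsPure X (cFac (t m.castSucc) (t m.succ) (hle m)) d at h
    have key : ∀ (b : CSub E) (hab : (t m.castSucc).1 ≤ b.1), b = ⊤ →
        ShStab.IsPure X (cFac (t m.castSucc) b hab) d →
        ShStab.IsPure X (cFac (t m.castSucc) (⊤ : CSub E) le_top) d := by
      rintro b hab rfl h'
      exact h'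
    exact key _ (hle m) hm h
  have hkc : cokernel c.1.arrow ≅ G :=
    cokernelIsoOfEq (Subobject.underlyingIso_hom_comp_eq_mk (kernel.ι q)).symm ≪≫ cokernelEpiComp _ _ ≪≫
      IsColimit.coconePointUniqueUpToIso (cokernelIsCokernel _)
        (Abelian.epiIsCokernelOfKernel _ (kernelIsKernel q))
  have hpc : V.Pure c := by
    obtain ⟨i⟩ := nonempty_cokernel_arrow hA hE hd c
    exact pure_of_cFac_top hA hE hd (isPure_congr (hkc.symm ≪≫ i) hGp)
  have hc : c = t m.castSucc := by
    refine eq_penultimate V ℓ ht1 ht2 (fun i => (hst i).1) (fun i => (hst i).2) hdec m (by simp [m]; omega)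
      bot_le hpc hpm ?_ ?_
    · simp only [Val.al, eF, eG, hα]
    · rw [tdd_eq, eF, eG]; exact (redEq_iff d).mp hred
  have hK : (toSub t).eraseLast.last = Subobject.mk (kernel.ι q) := by rw [hlast, ← hc]
  have hzero : (toSub t).eraseLast.last.arrow ≫ q = 0 := by
    rw [hK, ← Subobject.underlyingIso_hom_comp_eq_mk, Category.assoc, kernel.condition, Limits.comp_zero]
  refine ⟨⟨cokernel.desc _ q hzero, Abelian.epiDesc q (cokernel.π _) ?_, ?_, ?_⟩, cokernel.π_desc _ _ _⟩
  · have := cokernel.condition (toSub t).eraseLast.last.arrow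
    have e : kernel.ι q = (Subobject.underlyingIso (kernel.ι q)).inv ≫ (Subobject.mk (kernel.ι q)).arrow :=
      (Subobject.underlyingIso_arrow _).symm
    rw [e, Category.assoc]
    have h' : (Subobject.mk (kernel.ι q)).arrow ≫ cokernel.π (toSub t).eraseLast.last.arrow = 0 := by
      rw [← Subobject.factorThru_arrow (toSub t).eraseLast.last (Subobject.mk (kernel.ι q)).arrow
        (Subobject.factors_of_le _ hK.ge (Subobject.factors_self _)), Category.assoc, this, Limits.comp_zero]
    rw [h', Limits.comp_zero]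
  · exact coequalizer.hom_ext (by rw [cokernel.π_desc_assoc, Abelian.comp_epiDesc, Category.comp_id])
  · rw [← cancel_epi q, Abelian.comp_epiDesc_assoc, cokernel.π_desc, Category.comp_id]

end StabLib
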