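import Groth.Agent.StabLib.JHSub
import Groth.Agent.StabLib.EllLast

/-!
# Semistability of subobjects and quotients with the reduced polynomial of the whole
-/

set_option autoImplicit false
set_option linter.style.haveILetI false
universe u v

open CategoryTheory CategoryTheory.Limits AlgebraicGeometry TopologicalSpace Opposite Polynomial
open DevissLib QCohLib HilbPolyLib

noncomputable section

namespace StabLib

namespace Val

variable {Λ : Type v} [Lattice Λ] [BoundedOrder Λ] {d : ℕ} {V : Val Λ d}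

theorem Semi.of_red_left (hE : V.Semi ⊥ ⊤) {c : Λ} (hc : dd d (V.q ⊥ c) (V.q ⊥ ⊤) = 0) (hc0 : ⊥ < c) :
    V.Semi ⊥ c := by
  refine ⟨hc0, fun x hx _ => hE.2.1 x hx le_top, fun x hx hxc => ?_⟩
  refine dd_trans d (hE.2.1 x hx le_top).le (Semi.al_pos V hE) (hE.2.1 c hc0 le_top).le
    (Semi.nn_dd V hE bot_le le_top) ?_
  rw [dd_swap, hc, neg_zero]
  exact nn_zero

theorem Semi.of_red_right (hE : V.Semi ⊥ ⊤) {c : Λ} (hc : dd d (V.q ⊥ c) (V.q ⊥ ⊤) = 0) (hc1 : c < ⊤) :
    V.Semi c ⊤ := by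
  have hTop := Semi.al_pos V hE
  have hn : ∀ x, Nn (dd d (V.q c x) (V.q ⊥ ⊤)) := fun x => by
    have := Semi.nn_dd V hE (c := x) bot_le le_top
    rwa [← V.q_add ⊥ c x, dd_add_left, hc, zero_add] at this
  have hp : ∀ x, c < x → 0 < V.al c x := fun x hx => by
    refine lt_of_le_of_ne (V.al_nonneg hx.le) fun h0 => ?_
    have := hn x
    rw [dd_of_alpha_zero d h0.symm, nn_neg_iff] at this
    exact this ((V.lt hx).smul hTop)
  refine ⟨hc1, fun x hx _ => hp x hx, fun x hx hxt => ?_⟩
  refine dd_trans d (hp x hx).le hTop (hp ⊤ hc1).le (hn x) ?_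
  rw [dd_swap, V.red_q hc (dd_self _ _), neg_zero]
  exact nn_zero

end Val

variable {X : Scheme.{u}} {k : Type u} [Field k] [X.Over (Spec (CommRingCat.of k))]
  [IsProper (X ↘ Spec (CommRingCat.of k))] {L : X.Modules} (hA : CohB1.IsAmple L) {d : ℕ}

include hA in
theorem semistable_sub_quot [IsNoetherian X] {E : X.Modules} (hss : ShStab.IsSemistable k X L E d)
    {G : X.Modules} (ι : G ⟶ E) [Mono ι] (hG : Coh.IsCoh G)
    (hred : dd d (HPoly k L G) (HPoly k L E) = 0) :
    (¬ IsZero G → ShStab.IsSemistable k X L G d) ∧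
      (¬ IsZero (cokernel ι) → ShStab.IsSemistable k X L (cokernel ι) d) := by
  have hE := hss.1
  have hd : topologicalKrullDim (CohB1.support E) ≤ (d : ℕ) :=
    le_of_eq (hss.2.2.1 E (𝟙 E) inferInstance hE hss.2.1)
  letI := cLattice hE
  letI := cBounded hE
  have hsemi := (semistable_cFac_iff (k := k) hA hE hd (bot_le (a := (⊤ : Subobject E)) :
    ((⊥ : CSub E)).1 ≤ ((⊤ : CSub E)).1)).mp (isSemistable_congr (cFacBotTop hE).symm hss)
  let c : CSub E := ⟨Subobject.mk ι, QCohLib.isCoh_of_iso (Subobject.underlyingIso ι).symm hG⟩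
  have e0 : HPoly k L (c.1 : X.Modules) = HPoly k L G := hPoly_congr hA c.2 (Subobject.underlyingIso ι)
  have hc : dd d ((cVal (k := k) hA hE hd).q ⊥ c) ((cVal (k := k) hA hE hd).q ⊥ ⊤) = 0 := by
    rw [q_bot, q_top, e0]; exact hred
  have eQ : Nonempty (cFac c (⊤ : CSub E) le_top ≅ cokernel ι) := by
    obtain ⟨i⟩ := nonempty_cokernel_arrow hA hE hd c
    exact ⟨i.symm ≪≫ cokernel.mapIso _ _ (Subobject.underlyingIso ι) (Iso.refl E) (by simp [c])⟩
  constructor
  · intro h0
    have hlt : (⊥ : CSub E) < c := by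
      refine lt_of_le_of_ne bot_le fun he => ps_ne_zero (hPoly_ps (k := k) hA hG h0) ?_
      rw [← e0, ← q_bot (k := k) hA hE hd c, ← he, Val.q_self]
    have h := (semistable_cFac_iff (k := k) hA hE hd (bot_le (a := c.1))).mpr (hsemi.of_red_left hc hlt)
    have hz : IsZero (((⊥ : CSub E)).1 : X.Modules) :=
      (Limits.isZero_zero _).of_iso Subobject.botCoeIsoZero
    have e1 : cFac (⊥ : CSub E) c (bot_le (a := c.1)) ≅ G :=
      cokernelIsoOfEq (hz.eq_of_src _ (0 : (((⊥ : CSub E)).1 : X.Modules) ⟶ (c.1 : X.Modules))) ≪≫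
        cokernelZeroIsoTarget ≪≫ Subobject.underlyingIso ι
    exact isSemistable_congr e1 h
  · intro h0
    obtain ⟨e⟩ := eQ
    have hlt : c < (⊤ : CSub E) := by
      refine lt_of_le_of_ne le_top fun he => h0 ?_
      haveI : IsIso ι := (Subobject.isIso_iff_mk_eq_top ι).mpr (congrArg Subtype.val he)
      exact isZero_cokernel_of_epi ι
    exact isSemistable_congr e ((semistable_cFac_iff (k := k) hA hE hd _).mpr (hsemi.of_red_right hc hlt))

omit [IsProper (X ↘ Spec (CommRingCat.of k))] in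
/-- The empty filtration of a zero module. -/
theorem exists_jh_of_isZero {G : X.Modules} (hG : IsZero G) :
    ∃ t : LTSeries (Subobject G), ShStab.IsJHFiltration k X L G d t := by
  refine ⟨RelSeries.singleton _ ⊥, rfl, ?_, fun i => Fin.elim0 i⟩
  change (⊥ : Subobject G) = ⊤
  refine le_antisymm bot_le (Subobject.le_of_comm 0 ?_)
  rw [Limits.zero_comp]
  exact (hG.eq_of_tgt _ _)

end StabLib
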