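import Groth.Agent.StabLib.Sub
import Groth.Prelude.Def_ShStab

/-!
# Semistability and the lattice of coherent submodules
-/

set_option autoImplicit false
universe u

open CategoryTheory CategoryTheory.Limits AlgebraicGeometry TopologicalSpace Opposite
open DevissLib HilbPolyLib

noncomputable section

namespace StabLib

variable {X : Scheme.{u}} {k : Type u} [Field k] [X.Over (Spec (CommRingCat.of k))]
  {L : X.Modules}

theorem isPure_congr {d : ℕ} {E E' : X.Modules} (e : E ≅ E') (h : ShStab.IsPure X E d) :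
    ShStab.IsPure X E' d := fun F ι hι hF hF0 => h F (ι ≫ e.inv) inferInstance hF hF0

section Proper

variable [IsProper (X ↘ Spec (CommRingCat.of k))] (hA : CohB1.IsAmple L)

include hA in
theorem redLE_hPoly_iff {d : ℕ} {F G : X.Modules} (hF : Coh.IsCoh F) (hG : Coh.IsCoh G) :
    (∀ pF pG : Polynomial ℚ, ShStab.IsHilbPoly k X L F pF → ShStab.IsHilbPoly k X L G pG →
      StabCat.RedLE d pF pG) ↔ Nn (dd d (HPoly k L F) (HPoly k L G)) := by
  refine ⟨fun h => (redLE_iff d).mp (h _ _ (hPoly_spec hA hF) (hPoly_spec hA hG)), fun h pF pG hp hq => ?_⟩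
  rw [redLE_iff, ← hPoly_eq hA hF hp, ← hPoly_eq hA hG hq]
  exact h

include hA in
theorem redLT_hPoly_iff {d : ℕ} {F G : X.Modules} (hF : Coh.IsCoh F) (hG : Coh.IsCoh G) :
    (∀ pF pG : Polynomial ℚ, ShStab.IsHilbPoly k X L F pF → ShStab.IsHilbPoly k X L G pG →
      StabCat.RedLT d pF pG) ↔ Ps (dd d (HPoly k L F) (HPoly k L G)) := by
  refine ⟨fun h => (redLT_iff d).mp (h _ _ (hPoly_spec hA hF) (hPoly_spec hA hG)), fun h pF pG hp hq => ?_⟩
  rw [redLT_iff, ← hPoly_eq hA hF hp, ← hPoly_eq hA hG hq]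
  exact h

theorem support_sub_top (k : Type u) [Field k] [X.Over (Spec (CommRingCat.of k))]
    [IsProper (X ↘ Spec (CommRingCat.of k))] {d : ℕ} {E : X.Modules} (hE : Coh.IsCoh E)
    (hp : ShStab.IsPure X E d) : topologicalKrullDim (CohB1.support E) ≤ (d : ℕ) := by
  by_cases h0 : IsZero E
  · haveI := CurvLib.isNoetherian k (X := X)
    rw [support_of_isZero h0]
    haveI : IsEmpty (IrreducibleCloseds (∅ : Set X)) := ⟨fun Z => Z.isIrreducible.1.choose.2⟩
    exact (Order.krullDim_eq_bot (α := IrreducibleCloseds (∅ : Set X))).le.trans bot_le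
  · exact (hp E (𝟙 E) inferInstance hE h0).le

variable {E : X.Modules} [IsNoetherian X] (hE : Coh.IsCoh E) {d : ℕ}
  (hd : topologicalKrullDim (CohB1.support E) ≤ (d : ℕ))

/-- The factor of two coherent submodules. -/
abbrev cFac (a b : CSub E) (h : a.1 ≤ b.1) : X.Modules := cokernel (Subobject.ofLE a.1 b.1 h)

theorem isCoh_cFac {a b : CSub E} (h : a.1 ≤ b.1) : Coh.IsCoh (cFac a b h) :=
  QCohLib.isCoh_cokernel _ a.2.1 b.2

include hd in
theorem dim_cFac {a b : CSub E} (h : a.1 ≤ b.1) :
    topologicalKrullDim (CohB1.support (cFac a b h)) ≤ (d : ℕ) :=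
  (dim_mono ((support_epi (cokernel.π (Subobject.ofLE a.1 b.1 h))).trans (support_mono b.1.arrow))).trans hd

include hA in
theorem hPoly_cFac {a b : CSub E} (h : a.1 ≤ b.1) :
    letI := cLattice hE
    letI := cBounded hE
    HPoly k L (cFac a b h) = (cVal (k := k) hA hE hd).q a b := by
  letI := cLattice hE
  letI := cBounded hE
  have := hPoly_coker (k := k) hA (Subobject.ofLE a.1 b.1 h) a.2 b.2
  exact (eq_sub_of_add_eq' this.symm)

include k hA hE hd in
theorem le_iff_lt_of_ps {a b : CSub E} (h : a.1 ≤ b.1) :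
    letI := cLattice hE
    a < b ↔ ¬ IsZero (cFac a b h) := by
  letI := cLattice hE
  letI := cBounded hE
  refine ⟨fun hlt hz => ?_, fun h0 => lt_of_le_of_ne h fun he => h0 ?_⟩
  · have := (cVal (k := k) hA hE hd).lt hlt
    rw [← Val.q, ← hPoly_cFac hA hE hd h, hPoly_zero hA hz] at this
    exact ps_ne_zero this rfl
  · subst he
    haveI : IsIso (Subobject.ofLE a.1 a.1 h) := by rw [Subobject.ofLE_refl]; infer_instance
    exact isZero_cokernel_of_epi _

include hA hE hd in
/-- A submodule of a factor comes from an intermediate submodule. -/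
theorem exists_between {a b : CSub E} (h : a.1 ≤ b.1) {G : X.Modules} (ι : G ⟶ cFac a b h) [Mono ι]
    (hG : Coh.IsCoh G) :
    letI := cLattice hE
    letI := cBounded hE
    ∃ c : CSub E, a ≤ c ∧ c ≤ b ∧ HPoly k L G = (cVal (k := k) hA hE hd).q a c ∧
      (¬ IsZero G → a < c) ∧ (¬ IsIso ι → c < b) := by
  letI := cLattice hE
  letI := cBounded hE
  let π := cokernel.π (Subobject.ofLE a.1 b.1 h)
  let ψ := π ≫ cokernel.π ι
  have hQ := isCoh_cFac (a := a) (b := b) h
  have hC := QCohLib.isCoh_cokernel ι hG.1 hQ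
  have hK := QCohLib.isCoh_kernel ψ b.2 hC.1
  let c : CSub E := ⟨Subobject.mk (kernel.ι ψ ≫ b.1.arrow),
    QCohLib.isCoh_of_iso (Subobject.underlyingIso _).symm hK⟩
  have hcb : c ≤ b := Subobject.mk_le_of_comm (kernel.ι ψ) rfl
  have hac : a ≤ c := Subobject.le_mk_of_comm (kernel.lift ψ (Subobject.ofLE a.1 b.1 h)
    (by simp [ψ, π, cokernel.condition_assoc])) (by rw [kernel.lift_ι_assoc, Subobject.ofLE_arrow])
  have e1 := hPoly_ker (k := k) hA ψ b.2 hC
  have e2 := hPoly_coker (k := k) hA ι hG hQ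
  have e3 := hPoly_congr (k := k) hA c.2 (Subobject.underlyingIso (kernel.ι ψ ≫ b.1.arrow))
  have eG : HPoly k L G = (cVal (k := k) hA hE hd).q a c := by
    rw [hPoly_cFac hA hE hd h] at e2
    simp only [Val.q] at e2 ⊢
    change _ = HPoly k L (c.1 : X.Modules) - HPoly k L (a.1 : X.Modules)
    change HPoly k L (b.1 : X.Modules) - HPoly k L (a.1 : X.Modules) = _ at e2
    rw [e3]
    linear_combination -e2 + e1
  refine ⟨c, hac, hcb, eG, fun h0 => lt_of_le_of_ne hac fun he => ?_, fun hi => lt_of_le_of_ne hcb fun he => ?_⟩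
  · rw [← he, Val.q_self] at eG
    exact ps_ne_zero (hPoly_ps hA hG h0) eG
  · rw [he, ← hPoly_cFac hA hE hd h, hPoly_coker (k := k) hA ι hG hQ, left_eq_add] at eG
    apply hi
    have hz : IsZero (cokernel ι) := by
      by_contra hz
      exact ps_ne_zero (hPoly_ps hA hC hz) eG
    haveI : Epi ι := Preadditive.epi_of_cancel_zero _ fun g hg => by
      rw [← cokernel.π_desc _ g hg, hz.eq_of_src (cokernel.desc _ g hg) 0, comp_zero]
    exact isIso_of_mono_of_epi ι

/-- The inclusion of factors. -/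
def cFacMap {a b c : CSub E} (h₁ : a.1 ≤ c.1) (h₂ : c.1 ≤ b.1) :
    cFac a c h₁ ⟶ cFac a b (h₁.trans h₂) :=
  cokernel.desc _ (Subobject.ofLE c.1 b.1 h₂ ≫ cokernel.π _)
    (by rw [← Category.assoc, Subobject.ofLE_comp_ofLE, cokernel.condition])

theorem mono_cFacMap {a b c : CSub E} (h₁ : a.1 ≤ c.1) (h₂ : c.1 ≤ b.1) : Mono (cFacMap h₁ h₂) := by
  let S : ShortComplex X.Modules := ShortComplex.mk (Subobject.ofLE a.1 c.1 h₁)
    (Subobject.ofLE c.1 b.1 h₂ ≫ cokernel.π (Subobject.ofLE a.1 b.1 (h₁.trans h₂)))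
    (by rw [← Category.assoc, Subobject.ofLE_comp_ofLE, cokernel.condition])
  have hS : S.Exact := ShortComplex.exact_of_f_is_kernel _
    (KernelFork.IsLimit.ofι _ S.zero
      (fun g hg => Abelian.monoLift (Subobject.ofLE a.1 b.1 (h₁.trans h₂)) (g ≫ Subobject.ofLE c.1 b.1 h₂)
        (by rw [Category.assoc]; exact hg))
      (fun g hg => by
        rw [← cancel_mono (Subobject.ofLE c.1 b.1 h₂), Category.assoc, Subobject.ofLE_comp_ofLE,
          Abelian.monoLift_comp])
      (fun g hg m hm => by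
        rw [← cancel_mono (Subobject.ofLE a.1 b.1 (h₁.trans h₂)), Abelian.monoLift_comp, ← hm, Category.assoc,
          Subobject.ofLE_comp_ofLE]))
  exact S.exact_iff_mono_cokernel_desc.mp hS

theorem semistable_cFac_iff {a b : CSub E} (h : a.1 ≤ b.1) :
    letI := cLattice hE
    letI := cBounded hE
    ShStab.IsSemistable k X L (cFac a b h) d ↔ (cVal (k := k) hA hE hd).Semi a b := by
  letI := cLattice hE
  letI := cBounded hE
  have hQ := isCoh_cFac (a := a) (b := b) h
  constructor
  · rintro ⟨-, h0, hp, hss⟩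
    refine ⟨(le_iff_lt_of_ps (k := k) hA hE hd h).mpr h0, fun c hac hcb => ?_, fun c hac hcb => ?_⟩
    · have hac' : a.1 ≤ c.1 := hac.le
      have := hp _ (cFacMap hac' hcb) (mono_cFacMap hac' hcb) (isCoh_cFac hac')
        ((le_iff_lt_of_ps (k := k) hA hE hd hac').mp hac)
      rw [← hPoly_alpha_pos_iff (k := k) hA (isCoh_cFac hac') (dim_cFac hd hac'), hPoly_cFac hA hE hd hac'] at this
      exact this
    · have hac' : a.1 ≤ c.1 := hac.le
      have hcb' : c.1 ≤ b.1 := hcb.le
      have hniso : ¬ IsIso (cFacMap hac' hcb') := fun hi => by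
        have e := hPoly_congr (k := k) hA (isCoh_cFac hac') (asIso (cFacMap hac' hcb'))
        rw [hPoly_cFac hA hE hd hac', hPoly_cFac hA hE hd (hac'.trans hcb')] at e
        exact ps_ne_zero ((cVal (k := k) hA hE hd).lt hcb) (by simp only [Val.q] at e; linear_combination -e)
      have := (redLE_hPoly_iff hA (isCoh_cFac hac') hQ).mp (hss _ (cFacMap hac' hcb')
        (mono_cFacMap hac' hcb') (isCoh_cFac hac') ((le_iff_lt_of_ps (k := k) hA hE hd hac').mp hac) hniso)
      rwa [hPoly_cFac hA hE hd hac', hPoly_cFac hA hE hd h] at this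
  · rintro ⟨hab, hpur, hss⟩
    refine ⟨hQ, (le_iff_lt_of_ps (k := k) hA hE hd h).mp hab, fun G ι hι hG hG0 => ?_, fun G ι hι hG hG0 hiso => ?_⟩
    · obtain ⟨c, hac, hcb, eG, hlt, -⟩ := exists_between (k := k) hA hE hd h ι hG
      refine (hPoly_alpha_pos_iff (k := k) hA hG ((dim_mono (support_mono ι)).trans (dim_cFac hd h))).mp ?_
      rw [eG]
      exact hpur c (hlt hG0) hcb
    · obtain ⟨c, hac, hcb, eG, hlt, hlt'⟩ := exists_between (k := k) hA hE hd h ι hG
      rw [redLE_hPoly_iff hA hG hQ, eG, hPoly_cFac hA hE hd h]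
      exact hss c (hlt hG0) (hlt' hiso)

theorem stable_cFac_iff {a b : CSub E} (h : a.1 ≤ b.1) :
    letI := cLattice hE
    letI := cBounded hE
    ShStab.IsStable k X L (cFac a b h) d ↔ (cVal (k := k) hA hE hd).Stab a b := by
  letI := cLattice hE
  letI := cBounded hE
  have hQ := isCoh_cFac (a := a) (b := b) h
  constructor
  · rintro ⟨-, h0, hp, hss⟩
    refine ⟨(le_iff_lt_of_ps (k := k) hA hE hd h).mpr h0, fun c hac hcb => ?_, fun c hac hcb => ?_⟩
    · have hac' : a.1 ≤ c.1 := hac.le
      have := hp _ (cFacMap hac' hcb) (mono_cFacMap hac' hcb) (isCoh_cFac hac')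
        ((le_iff_lt_of_ps (k := k) hA hE hd hac').mp hac)
      rw [← hPoly_alpha_pos_iff (k := k) hA (isCoh_cFac hac') (dim_cFac hd hac'), hPoly_cFac hA hE hd hac'] at this
      exact this
    · have hac' : a.1 ≤ c.1 := hac.le
      have hcb' : c.1 ≤ b.1 := hcb.le
      have hniso : ¬ IsIso (cFacMap hac' hcb') := fun hi => by
        have e := hPoly_congr (k := k) hA (isCoh_cFac hac') (asIso (cFacMap hac' hcb'))
        rw [hPoly_cFac hA hE hd hac', hPoly_cFac hA hE hd (hac'.trans hcb')] at e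
        exact ps_ne_zero ((cVal (k := k) hA hE hd).lt hcb) (by simp only [Val.q] at e; linear_combination -e)
      have := (redLT_hPoly_iff hA (isCoh_cFac hac') hQ).mp (hss _ (cFacMap hac' hcb')
        (mono_cFacMap hac' hcb') (isCoh_cFac hac') ((le_iff_lt_of_ps (k := k) hA hE hd hac').mp hac) hniso)
      rwa [hPoly_cFac hA hE hd hac', hPoly_cFac hA hE hd h] at this
  · rintro ⟨hab, hpur, hss⟩
    refine ⟨hQ, (le_iff_lt_of_ps (k := k) hA hE hd h).mp hab, fun G ι hι hG hG0 => ?_, fun G ι hι hG hG0 hiso => ?_⟩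
    · obtain ⟨c, hac, hcb, eG, hlt, -⟩ := exists_between (k := k) hA hE hd h ι hG
      refine (hPoly_alpha_pos_iff (k := k) hA hG ((dim_mono (support_mono ι)).trans (dim_cFac hd h))).mp ?_
      rw [eG]
      exact hpur c (hlt hG0) hcb
    · obtain ⟨c, hac, hcb, eG, hlt, hlt'⟩ := exists_between (k := k) hA hE hd h ι hG
      rw [redLT_hPoly_iff hA hG hQ, eG, hPoly_cFac hA hE hd h]
      exact hss c (hlt hG0) (hlt' hiso)

theorem q_bot (a : CSub E) :
    letI := cLattice hE
    letI := cBounded hE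
    (cVal (k := k) hA hE hd).q ⊥ a = HPoly k L (a.1 : X.Modules) := by
  letI := cLattice hE
  letI := cBounded hE
  rw [Val.q, (cVal (k := k) hA hE hd).P_bot, sub_zero]
  rfl

theorem q_top :
    letI := cLattice hE
    letI := cBounded hE
    (cVal (k := k) hA hE hd).q ⊥ ⊤ = HPoly k L E := by
  letI := cLattice hE
  letI := cBounded hE
  rw [q_bot]
  exact hPoly_congr hA (⊤ : CSub E).2 (asIso (⊤ : Subobject E).arrow)

theorem isPure_iff :
    letI := cLattice hE
    letI := cBounded hE
    ShStab.IsPure X E d ↔ (cVal (k := k) hA hE hd).Pure ⊥ := by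
  letI := cLattice hE
  letI := cBounded hE
  refine ⟨fun hp b hb => ?_, fun hP F ι hι hF hF0 => ?_⟩
  · have hb0 : ¬ IsZero (b.1 : X.Modules) := fun hz => by
      have := (cVal (k := k) hA hE hd).lt hb
      rw [← Val.q, q_bot, hPoly_zero hA hz] at this
      exact ps_ne_zero this rfl
    rw [Val.al, q_bot, hPoly_alpha_pos_iff (k := k) hA b.2 ((dim_mono (support_mono b.1.arrow)).trans hd)]
    exact hp _ b.1.arrow inferInstance b.2 hb0
  · let b : CSub E := ⟨Subobject.mk ι, QCohLib.isCoh_of_iso (Subobject.underlyingIso ι).symm hF⟩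
    have e : HPoly k L (b.1 : X.Modules) = HPoly k L F := hPoly_congr hA b.2 (Subobject.underlyingIso ι)
    have hlt : ⊥ < b := by
      refine lt_of_le_of_ne bot_le fun he => ?_
      have h1 := q_bot (k := k) hA hE hd b
      rw [← he, Val.q_self, he, e] at h1
      exact ps_ne_zero (hPoly_ps hA hF hF0) h1.symm
    refine (hPoly_alpha_pos_iff (k := k) hA hF ((dim_mono (support_mono ι)).trans hd)).mp ?_
    rw [← e, ← q_bot (k := k) hA hE hd b]
    exact hP b hlt

/-- The factor between the bottom and the top is the module. -/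
def cFacBotTop :
    letI := cLattice hE
    letI := cBounded hE
    cFac (⊥ : CSub E) ⊤ (bot_le (a := (⊤ : Subobject E))) ≅ E :=
  letI := cLattice hE
  letI := cBounded hE
  haveI : IsIso (⊤ : Subobject E).arrow := inferInstance
  cokernelIsoOfEq ((((isZero_zero X.Modules).of_iso Subobject.botCoeIsoZero).eq_of_src
      (Subobject.ofLE ⊥ ⊤ bot_le) 0)) ≪≫ cokernelZeroIsoTarget ≪≫ asIso (⊤ : Subobject E).arrow

/-- A chain in coherent submodules, forgetting coherence. -/
def toSub (t : @LTSeries (CSub E) (@Subtype.preorder _ _ _)) : LTSeries (Subobject E) :=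
  LTSeries.map t Subtype.val fun _ _ h => h

include hE in
omit [X.Over (Spec (CommRingCat.of k))] [IsProper (X ↘ Spec (CommRingCat.of k))] in
theorem exists_lift (s : LTSeries (Subobject E)) (h1 : s.last = ⊤)
    (hf : ∀ i : Fin s.length, Coh.IsCoh (StabCat.factor s i)) :
    ∃ t : @LTSeries (CSub E) (@Subtype.preorder _ _ _), toSub t = s := by
  have key : ∀ (j : ℕ) (i : Fin (s.length + 1)), i.val + j = s.length → Coh.IsCoh ((s i : Subobject E) : X.Modules) := by
    intro j
    induction j with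
    | zero =>
      intro i hi
      rw [show s i = ⊤ from (congrArg s.toFun (Fin.ext (by simp; omega) : i = Fin.last _)).trans h1]
      exact isCoh_top hE
    | succ j ih =>
      intro i hi
      let i' : Fin s.length := ⟨i.val, by omega⟩
      have hi' : i = i'.castSucc := rfl
      rw [hi']
      have hsucc := ih i'.succ (by simp [i']; omega)
      let f := Subobject.ofLE (s i'.castSucc) (s i'.succ) (le_of_lt (s.step i'))
      have e : kernel (cokernel.π f) ≅ ((s i'.castSucc : Subobject E) : X.Modules) :=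
        IsLimit.conePointUniqueUpToIso (kernelIsKernel _) (Abelian.monoIsKernelOfCokernel _ (cokernelIsCokernel f))
      exact QCohLib.isCoh_of_iso e (QCohLib.isCoh_kernel _ hsucc (hf i').1)
  refine ⟨⟨s.length, fun i => ⟨s i, key (s.length - i.val) i (by omega)⟩, fun i => s.step i⟩, rfl⟩

end Proper

end StabLib

end
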