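import Groth.Agent.StabLib.MuLattice
import Groth.Agent.StabLib.Filt

/-!
# The slope Harder-Narasimhan filtration
-/

set_option autoImplicit false
universe u

open CategoryTheory CategoryTheory.Limits AlgebraicGeometry TopologicalSpace Opposite
open DevissLib HilbPolyLib

noncomputable section

namespace StabLib

variable {X : Scheme.{u}} {k : Type u} [Field k] [X.Over (Spec (CommRingCat.of k))]
  [IsProper (X ↘ Spec (CommRingCat.of k))] {L : X.Modules} (hA : CohB1.IsAmple L) {d : ℕ}
  {E : X.Modules} [IsNoetherian X] (hE : Coh.IsCoh E)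
  (hd : topologicalKrullDim (CohB1.support E) ≤ (d : ℕ))

include hA in
theorem muSemi_iff {a b : CSub E} (h : a.1 ≤ b.1) (hd1 : 1 ≤ d) :
    letI := cLattice hE
    letI := cBounded hE
    (ShStab.IsPure X (cFac a b h) d ∧ ShStab.IsMuSemistable k X L (cFac a b h) d) ↔
      (cVal (k := k) hA hE hd).MuSemi a b := by
  letI := cLattice hE
  letI := cBounded hE
  have hQ := isCoh_cFac (a := a) (b := b) h
  constructor
  · rintro ⟨hp, hmu⟩
    refine ⟨(le_iff_lt_of_ps (k := k) hA hE hd h).mpr hmu.2.1, fun c hac hcb => ?_, fun c hac hcb => ?_⟩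
    · have hac' : a.1 ≤ c.1 := hac.le
      have := hp _ (cFacMap hac' hcb) (mono_cFacMap hac' hcb) (isCoh_cFac hac')
        ((le_iff_lt_of_ps (k := k) hA hE hd hac').mp hac)
      rw [← hPoly_alpha_pos_iff (k := k) hA (isCoh_cFac hac') (dim_cFac hd hac'),
        hPoly_cFac hA hE hd hac'] at this
      exact this
    · have hac' : a.1 ≤ c.1 := hac.le
      haveI := mono_cFacMap hac' hcb
      have hpos := alpha_pos_of_pure (k := k) hA hp (cFacMap hac' hcb) (isCoh_cFac hac')
        ((le_iff_lt_of_ps (k := k) hA hE hd hac').mp hac)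
      have := mu_sub hA hmu (cFacMap hac' hcb) (isCoh_cFac hac') hpos
      simp only [degA, rkA, hPoly_cFac hA hE hd] at this
      exact this
  · rintro ⟨hab, hpur, hss⟩
    have hp : ShStab.IsPure X (cFac a b h) d := fun G ι hι hG hG0 => by
      obtain ⟨c, hac, hcb, eG, hlt, -⟩ := exists_between (k := k) hA hE hd h ι hG
      refine (hPoly_alpha_pos_iff (k := k) hA hG ((dim_mono (support_mono ι)).trans (dim_cFac hd h))).mp ?_
      rw [eG]
      exact hpur c (hlt hG0) hcb
    have h0 := (le_iff_lt_of_ps (k := k) hA hE hd h).mp hab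
    refine ⟨hp, hQ, h0, hp _ (𝟙 _) inferInstance hQ h0, fun F ι hι hF => ?_,
      fun G ι hι hG pF pE hpF hpE h1 h2 => ?_⟩
    · by_cases hz : IsZero F
      · rw [DevissLib.support_of_isZero hz]
        haveI : IsEmpty (TopologicalSpace.IrreducibleCloseds (∅ : Set X)) :=
          ⟨fun Z => Z.isIrreducible.1.choose.2⟩
        rw [show topologicalKrullDim (∅ : Set X) = ⊥ from Order.krullDim_eq_bot, WithBot.bot_add]
        exact WithBot.bot_ne_natCast d
      · rw [hp F ι hι hF hz]
        intro he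
        have : d + 1 = d := by exact_mod_cast he
        omega
    · obtain ⟨hG0, -⟩ := ne_of_alpha_lt hA hQ ι hG hpF hpE h1 h2
      obtain ⟨c, hac, hcb, eG, hlt, -⟩ := exists_between (k := k) hA hE hd h ι hG
      rw [← hPoly_eq hA hG hpF, eG] at h1 h2 ⊢
      rw [← hPoly_eq hA hQ hpE, hPoly_cFac hA hE hd h] at h2 ⊢
      rw [StabCat.hatSlope, StabCat.hatSlope, div_le_div_iff₀ h1 (h1.trans h2)]
      exact hss c (hlt hG0) hcb

include hA hE hd

theorem muHNc_iff (hd1 : 1 ≤ d) (t : @LTSeries (CSub E) (@Subtype.preorder _ _ _)) :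
    letI := cLattice hE
    letI := cBounded hE
    ((toSub t).head = ⊥ ∧ (toSub t).last = ⊤ ∧
      (∀ i : Fin (toSub t).length, ShStab.IsPure X (StabCat.factor (toSub t) i) d ∧
        ShStab.IsMuSemistable k X L (StabCat.factor (toSub t) i) d) ∧
      ∀ (i j : Fin (toSub t).length), i.val + 1 = j.val →
        ∀ (p q : Polynomial ℚ), ShStab.IsHilbPoly k X L (StabCat.factor (toSub t) i) p →
          ShStab.IsHilbPoly k X L (StabCat.factor (toSub t) j) q →
          StabCat.hatSlope d q < StabCat.hatSlope d p) ↔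
      (cVal (k := k) hA hE hd).MuHNc ⊥ t := by
  letI := cLattice hE
  letI := cBounded hE
  have hle : ∀ i : Fin t.length, (t i.castSucc).1 ≤ (t i.succ).1 := fun i => le_of_lt (t.step i)
  constructor
  · rintro ⟨h1, h2, h3, h4⟩
    have hsemi : ∀ i : Fin t.length, (cVal (k := k) hA hE hd).MuSemi (t i.castSucc) (t i.succ) :=
      fun i => (muSemi_iff hA hE hd (hle i) hd1).mp (h3 i)
    refine ⟨Subtype.ext h1, Subtype.ext h2, hsemi, fun i j hij => ?_⟩
    have := h4 i j hij _ _ (hPoly_spec hA (isCoh_cFac (hle i))) (hPoly_spec hA (isCoh_cFac (hle j)))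
    change StabCat.hatSlope d (HPoly k L (cFac _ _ (hle j))) <
      StabCat.hatSlope d (HPoly k L (cFac _ _ (hle i))) at this
    rw [hPoly_cFac hA hE hd, hPoly_cFac hA hE hd, StabCat.hatSlope, StabCat.hatSlope,
      div_lt_div_iff₀ (show 0 < StabCat.alpha d ((cVal (k := k) hA hE hd).q (t j.castSucc) (t j.succ)) from Val.MuSemi.al_pos _ (hsemi j))
        (show 0 < StabCat.alpha d ((cVal (k := k) hA hE hd).q (t i.castSucc) (t i.succ)) from Val.MuSemi.al_pos _ (hsemi i))] at this
    exact this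
  · rintro ⟨h1, h2, h3, h4⟩
    refine ⟨congrArg Subtype.val h1, congrArg Subtype.val h2,
      fun i => (muSemi_iff hA hE hd (hle i) hd1).mpr (h3 i), fun (i j : Fin t.length) hij p q hp hq => ?_⟩
    rw [← hPoly_eq hA (isCoh_cFac (hle i)) hp, ← hPoly_eq hA (isCoh_cFac (hle j)) hq,
      hPoly_cFac hA hE hd, hPoly_cFac hA hE hd, StabCat.hatSlope, StabCat.hatSlope,
      div_lt_div_iff₀ (show 0 < StabCat.alpha d ((cVal (k := k) hA hE hd).q (t j.castSucc) (t j.succ)) from Val.MuSemi.al_pos _ (h3 j))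
        (show 0 < StabCat.alpha d ((cVal (k := k) hA hE hd).q (t i.castSucc) (t i.succ)) from Val.MuSemi.al_pos _ (h3 i))]
    exact h4 i j hij

theorem existsUnique_muHN (hd1 : 1 ≤ d) (hp : ShStab.IsPure X E d) :
    ∃! s : LTSeries (Subobject E),
      s.head = ⊥ ∧ s.last = ⊤ ∧
      (∀ i : Fin s.length,
        ShStab.IsPure X (StabCat.factor s i) d ∧ ShStab.IsMuSemistable k X L (StabCat.factor s i) d) ∧
      ∀ (i j : Fin s.length), i.val + 1 = j.val →
        ∀ (p q : Polynomial ℚ), ShStab.IsHilbPoly k X L (StabCat.factor s i) p →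
          ShStab.IsHilbPoly k X L (StabCat.factor s j) q →
          StabCat.hatSlope d q < StabCat.hatSlope d p := by
  letI := cLattice hE
  letI := cBounded hE
  haveI := cWf hE
  obtain ⟨t, ht⟩ := (cVal (k := k) hA hE hd).exists_muHN ⊥ ((isPure_iff hA hE hd).mp hp)
  refine ⟨toSub t, (muHNc_iff hA hE hd hd1 t).mpr ht, fun s hs => ?_⟩
  obtain ⟨t', rfl⟩ := exists_lift hE s hs.2.1 fun i => (hs.2.2.1 i).2.1
  rw [((muHNc_iff hA hE hd hd1 t').mp hs).unique ht]

end StabLib

end
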