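import Groth.Agent.StabLib.SectFree
import Groth.Agent.StabLib.Simple
import Groth.Agent.FlatFunShLib.Basic
import Mathlib.RingTheory.Filtration

/-!
# Morphisms vanishing on all infinitesimal neighbourhoods of a fibre
-/

set_option autoImplicit false
set_option linter.style.haveILetI false
set_option backward.isDefEq.respectTransparency false
set_option maxHeartbeats 1600000
universe u v

open CategoryTheory CategoryTheory.Limits AlgebraicGeometry TopologicalSpace Opposite
open DevissLib QCohLib
open scoped TensorProduct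

noncomputable section

namespace StabLib

variable {X : Scheme.{u}}

/-- A map zero on all stalks is zero. -/
theorem hom_eq_zero_of_stalk {M N : X.Modules} (f : M ⟶ N) (h : ∀ x a, ((St x).map f).hom a = 0) : f = 0 := by
  apply Scheme.Modules.hom_ext
  intro V
  refine ConcreteCategory.hom_ext _ _ fun t => ?_
  refine TopCat.Presheaf.section_ext ((toAbF X).obj N : TopCat.Sheaf AddCommGrpCat X.toTopCat) V _ _
    fun x hx => ?_
  show gm N x hx (f.app V t) = gm N x hx 0
  rw [← gm_app f x hx t, h x, gm_zero]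

theorem stalk_smulHom (M : X.Modules) (r : Γ(X, ⊤)) (x : X) (a : (St x).obj M) :
    ((St x).map (smulHom M r)).hom a = X.presheaf.germ ⊤ x trivial r • a := by
  obtain ⟨U, hx, s, rfl⟩ := exists_gm_eq M x a
  rw [gm_app, smulHom_app]
  refine (gm_smul M x hx _ s).trans ?_
  rw [TopCat.Presheaf.germ_res_apply]

variable {A : Type v} [CommRing A] (α : A →+* Γ(X, ⊤))

/-- The local ring at a point as an algebra over a ring of global functions. -/
abbrev gα (x : X) : A →+* X.presheaf.stalk x := (X.presheaf.germ ⊤ x trivial).hom.comp α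

/-- The sum of the multiplications by a finite family. -/
def mulBy {n : ℕ} (r : Fin n → A) (M : X.Modules) : (⨁ fun _ : Fin n => M) ⟶ M :=
  ∑ i, biproduct.π (fun _ : Fin n => M) i ≫ smulHom M (α (r i))

theorem ι_mulBy {n : ℕ} (r : Fin n → A) (M : X.Modules) (j : Fin n) :
    biproduct.ι (fun _ : Fin n => M) j ≫ mulBy α r M = smulHom M (α (r j)) := by
  classical
  rw [mulBy, Preadditive.comp_sum, Finset.sum_eq_single j]
  · rw [biproduct.ι_π_self_assoc]
  · intro b _ hb
    rw [biproduct.ι_π_ne_assoc _ hb.symm, Limits.zero_comp]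
  · simp

theorem range_mulBy {n : ℕ} (r : Fin n → A) (M : X.Modules) (x : X) :
    LinearMap.range ((St x).map (mulBy α r M)).hom =
      (Ideal.span (Set.range r)).map (gα α x) • (⊤ : Submodule _ ((St x).obj M)) := by
  rw [Ideal.map_span, ← Set.range_comp]
  refine le_antisymm ?_ (Submodule.smul_le.2 fun c hc v _ => ?_)
  · rintro _ ⟨w, rfl⟩
    rw [mulBy, Functor.map_sum, ModuleCat.hom_sum, LinearMap.sum_apply]
    refine Submodule.sum_mem _ fun i _ => ?_
    rw [Functor.map_comp, ModuleCat.hom_comp, LinearMap.comp_apply, stalk_smulHom]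
    exact Submodule.smul_mem_smul (Ideal.subset_span ⟨i, rfl⟩) trivial
  · induction hc using Submodule.span_induction with
    | mem c hc =>
      obtain ⟨i, rfl⟩ := hc
      refine ⟨((St x).map (biproduct.ι (fun _ : Fin n => M) i)).hom v, ?_⟩
      rw [← LinearMap.comp_apply, ← ModuleCat.hom_comp, ← Functor.map_comp, ι_mulBy, stalk_smulHom]
      rfl
    | zero => rw [zero_smul]; exact zero_mem _
    | add p q _ _ hp hq => rw [add_smul]; exact add_mem hp hq
    | smul a p _ hp => rw [smul_assoc]; exact Submodule.smul_mem _ a hp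

theorem ker_modQ {n : ℕ} (r : Fin n → A) (M : X.Modules) (x : X) :
    LinearMap.ker ((St x).map (cokernel.π (mulBy α r M))).hom =
      (Ideal.span (Set.range r)).map (gα α x) • (⊤ : Submodule _ ((St x).obj M)) :=
  (CurvParLib.range_eq_ker (ShortComplex.exact_cokernel (mulBy α r M)) x).symm.trans (range_mulBy α r M x)

theorem map_smul_top_le {O : Type*} [CommRing O] {M N : Type*} [AddCommGroup M] [Module O M] [AddCommGroup N]
    [Module O N] (f : M →ₗ[O] N) (I : Ideal O) {v : M} (hv : v ∈ I • (⊤ : Submodule O M)) :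
    f v ∈ I • (⊤ : Submodule O N) := by
  have h : (I • (⊤ : Submodule O M)).map f ≤ I • ⊤ := by
    rw [Submodule.map_smul'']; exact Submodule.smul_mono le_rfl le_top
  exact h ⟨v, hv, rfl⟩

theorem mem_smul_top_of_flat {A M : Type*} [CommRing A] [AddCommGroup M] [Module A M] [Module.Flat A M]
    {J m : Ideal A} (ε : A) (hεm : ∀ a, a * ε ∈ J ↔ a ∈ m) (u : M) (h : ε • u ∈ J • (⊤ : Submodule A M)) :
    u ∈ m • (⊤ : Submodule A M) := by
  let i : A ⧸ m →ₗ[A] A ⧸ J := Submodule.mapQ m J (LinearMap.toSpanSingleton A A ε)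
    fun a ha => (hεm a).2 ha
  have hi : Function.Injective i := by
    rw [injective_iff_map_eq_zero]
    intro z hz
    obtain ⟨a, rfl⟩ := Submodule.Quotient.mk_surjective _ z
    exact (Submodule.Quotient.mk_eq_zero _).2 ((hεm a).1 ((Submodule.Quotient.mk_eq_zero J).1 hz))
  have hinj := Module.Flat.rTensor_preserves_injective_linearMap (M := M) i hi
  have hmk : ∀ (I : Ideal A) (a : A), TensorProduct.quotTensorEquivQuotSMul M I (Ideal.Quotient.mk I a ⊗ₜ[A] u) =
      Submodule.Quotient.mk (a • u) := fun I a => TensorProduct.quotTensorEquivQuotSMul_mk_tmul _ _ _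
  have h0 : (Ideal.Quotient.mk J ε) ⊗ₜ[A] u = 0 := by
    apply (TensorProduct.quotTensorEquivQuotSMul M J).injective
    rw [hmk, map_zero]
    exact (Submodule.Quotient.mk_eq_zero _).2 h
  have h1 : (Ideal.Quotient.mk m 1) ⊗ₜ[A] u = 0 := by
    apply hinj
    rw [LinearMap.rTensor_tmul, map_zero, ← h0]
    congr 1
    exact congrArg (Submodule.Quotient.mk (p := J)) (one_mul ε)
  have h2 := hmk m 1
  rw [h1, map_zero, one_smul] at h2
  exact (Submodule.Quotient.mk_eq_zero _).1 h2.symm

/-- Flatness over a ring of global functions, read in a stalk. -/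
theorem mem_map_smul_of_flat {O M : Type*} [CommRing O] [AddCommGroup M] [Module O M] (g : A →+* O)
    (hfl : letI := Module.compHom M g; Module.Flat A M) {J m : Ideal A} (ε : A)
    (hεm : ∀ a, a * ε ∈ J ↔ a ∈ m) (u : M) (h : g ε • u ∈ J.map g • (⊤ : Submodule O M)) :
    u ∈ m.map g • (⊤ : Submodule O M) := by
  letI : Algebra A O := g.toAlgebra
  letI : Module A M := Module.compHom M g
  haveI : IsScalarTower A O M := IsScalarTower.of_algebraMap_smul fun _ _ => rfl
  haveI : Module.Flat A M := hfl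
  have e : ∀ I : Ideal A, (I.map (algebraMap A O) • (⊤ : Submodule O M)).restrictScalars A =
      I • (⊤ : Submodule A M) := fun I => by
    rw [Ideal.smul_restrictScalars, Submodule.restrictScalars_top]
  have h' : ε • u ∈ J • (⊤ : Submodule A M) := by rw [← e J]; exact h
  have h2 := mem_smul_top_of_flat ε hεm u h'
  rw [← e m] at h2
  exact h2

theorem coord_mem {O M ι : Type*} [CommRing O] [AddCommGroup M] [Module O M] (b : Module.Basis ι O M)
    (I : Ideal O) {v : M} (hv : v ∈ I • (⊤ : Submodule O M)) (i : ι) : b.repr v i ∈ I := by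
  have h := map_smul_top_le (b.coord i) I hv
  rwa [smul_eq_mul, Ideal.mul_top] at h

theorem mem_smul_top_of_coord {O M ι : Type*} [CommRing O] [AddCommGroup M] [Module O M]
    (b : Module.Basis ι O M) (I : Ideal O) {v : M} (h : ∀ i, b.repr v i ∈ I) : v ∈ I • (⊤ : Submodule O M) := by
  rw [← b.linearCombination_repr v, Finsupp.linearCombination_apply]
  exact Submodule.sum_mem _ fun i _ => Submodule.smul_mem_smul (h i) trivial

/-- The vanishing in the fibre is preserved by pull back. -/
theorem zeroAt_pullback {Y : Scheme.{u}} (h : Y ⟶ X) {M N : X.Modules} (g : M ⟶ N) (z : Y)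
    (hg : ZeroAt (h z) g) : ZeroAt z ((Scheme.Modules.pullback h).map g) := by
  rintro _ ⟨w, rfl⟩
  let R := X.presheaf.stalk (h z)
  let R' := Y.presheaf.stalk z
  letI : Algebra R R' := (h.stalkMap z).hom.toAlgebra
  have hlin : ∀ v : R' ⊗[R] ((St (h z)).obj M),
      ((ModuleCat.extendScalars (h.stalkMap z).hom).map ((DerSch.stalkFunctor X (h z)).map g)).hom v ∈
        IsLocalRing.maximalIdeal R' • (⊤ : Submodule R' (R' ⊗[R] ((St (h z)).obj N))) := by
    intro v
    induction v using TensorProduct.induction_on with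
    | zero => rw [map_zero]; exact zero_mem _
    | add p q hp hq => rw [map_add]; exact add_mem hp hq
    | tmul s e =>
      change s ⊗ₜ[R] ((St (h z)).map g).hom e ∈ _
      have hge := hg ⟨e, rfl⟩
      generalize ((St (h z)).map g).hom e = q at hge ⊢
      refine Submodule.smul_induction_on hge (fun a ha n _ => ?_) fun p q hp hq => ?_
      · rw [TensorProduct.tmul_smul, TensorProduct.smul_tmul', Algebra.smul_def, ← smul_eq_mul,
          ← TensorProduct.smul_tmul']
        exact Submodule.smul_mem_smul (map_nonunit (h.stalkMap z).hom a ha) trivial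
      · rw [TensorProduct.tmul_add]; exact add_mem hp hq
  have nat := (KFlatLib.stalkPullIso h z).hom.naturality g
  change (DerSch.stalkFunctor Y z).map ((Scheme.Modules.pullback h).map g) ≫ _ = _ at nat
  let e := ((KFlatLib.stalkPullIso h z).app N).toLinearEquiv
  have h1 := congr($(nat).hom w)
  have h2 := map_smul_top_le e.symm.toLinearMap _
    (hlin (((KFlatLib.stalkPullIso h z).app M).toLinearEquiv w))
  exact (congrArg (fun q => q ∈ _) ((congrArg e.symm h1).symm.trans (e.symm_apply_apply _))).mp h2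

/-- A map with zero pullback has zero stalk when the local map is surjective and the kernel kills the target. -/
theorem stalk_of_pullback_eq_zero {Y : Scheme.{u}} (h : Y ⟶ X) (z : Y) (hs : Function.Surjective (h.stalkMap z).hom)
    {M N : X.Modules} (g : M ⟶ N) (hg : (Scheme.Modules.pullback h).map g = 0) (e : (St (h z)).obj M) :
    ((St (h z)).map g).hom e ∈ RingHom.ker (h.stalkMap z).hom • (⊤ : Submodule (X.presheaf.stalk (h z)) ((St (h z)).obj N)) := by
  let R := X.presheaf.stalk (h z)
  let R' := Y.presheaf.stalk z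
  letI : Algebra R R' := (h.stalkMap z).hom.toAlgebra
  have nat := (KFlatLib.stalkPullIso h z).hom.naturality g
  change (DerSch.stalkFunctor Y z).map ((Scheme.Modules.pullback h).map g) ≫ _ = _ at nat
  rw [hg, Functor.map_zero, Limits.zero_comp] at nat
  have hz : (ModuleCat.extendScalars (h.stalkMap z).hom).map ((DerSch.stalkFunctor X (h z)).map g) = 0 :=
    zero_of_epi_comp _ nat.symm
  have h1 : (1 : R') ⊗ₜ[R] (((St (h z)).map g).hom e) = 0 :=
    congr($(hz).hom ((1 : R') ⊗ₜ[R] e))
  exact (CohCmpLib.one_tmul_eq_zero_iff hs _).mp h1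

theorem pullback_eq_zero {Y : Scheme.{u}} (h : Y ⟶ X) {M N : X.Modules} (g : M ⟶ N)
    (hg : ∀ z v, ((St (h z)).map g).hom v ∈
      RingHom.ker (h.stalkMap z).hom • (⊤ : Submodule (X.presheaf.stalk (h z)) ((St (h z)).obj N))) :
    (Scheme.Modules.pullback h).map g = 0 := by
  refine hom_eq_zero_of_stalk _ fun z w => ?_
  let R := X.presheaf.stalk (h z)
  let R' := Y.presheaf.stalk z
  letI : Algebra R R' := (h.stalkMap z).hom.toAlgebra
  have h0 : ∀ v : R' ⊗[R] ((St (h z)).obj M),
      ((ModuleCat.extendScalars (h.stalkMap z).hom).map ((DerSch.stalkFunctor X (h z)).map g)).hom v = 0 := by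
    intro v
    induction v using TensorProduct.induction_on with
    | zero => rw [map_zero]
    | add p q hp hq => rw [map_add, hp, hq, add_zero]
    | tmul s e =>
      change s ⊗ₜ[R] ((St (h z)).map g).hom e = 0
      have hge := hg z e
      generalize ((St (h z)).map g).hom e = q at hge ⊢
      refine Submodule.smul_induction_on hge (fun a ha n _ => ?_) fun p q hp hq => ?_
      · rw [TensorProduct.tmul_smul, TensorProduct.smul_tmul', Algebra.smul_def,
          show algebraMap R R' a = 0 from ha, zero_mul, TensorProduct.zero_tmul]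
      · rw [TensorProduct.tmul_add, hp, hq, add_zero]
  have nat := (KFlatLib.stalkPullIso h z).hom.naturality g
  change (DerSch.stalkFunctor Y z).map ((Scheme.Modules.pullback h).map g) ≫ _ = _ at nat
  let e := ((KFlatLib.stalkPullIso h z).app N).toLinearEquiv
  apply e.injective
  rw [map_zero]
  exact (congr($(nat).hom w)).trans (h0 _)

variable {Y : Scheme.{u}} (h : Y ⟶ X) [IsPreimmersion h] {E F : X.Modules}

/-- A map between sheaves, flat over a ring of functions, vanishes modulo all powers of a maximal ideal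
if maps of the fibres vanish as soon as they vanish at a point. -/
theorem range_le_pow [IsNoetherianRing A] {m : Ideal A} [m.IsMaximal]
    (hker : ∀ z, RingHom.ker (h.stalkMap z).hom = m.map (gα α (h z)))
    (hoff : ∀ x, x ∉ Set.range h → m.map (gα α x) = ⊤)
    (hfl : ∀ x ∈ Set.range h, letI := Module.compHom ((St x).obj F) (gα α x); Module.Flat A ((St x).obj F))
    (z₀ : Y) {x₀ : X} (hx₀ : h z₀ = x₀) [Module.Free (X.presheaf.stalk x₀) ((St x₀).obj F)]
    {R : Type*} [CommRing R] (σ : X.presheaf.stalk x₀ →+* R)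
    (hτ : ∀ (J : Ideal A) ε, σ (gα α x₀ ε) ∈ J.map (σ.comp (gα α x₀)) → ∃ s ∉ m, s * ε ∈ J)
    (φ : E ⟶ F) (hσ : LinearMap.range ((St x₀).map φ).hom ≤ RingHom.ker σ • (⊤ : Submodule (X.presheaf.stalk x₀) ((St x₀).obj F)))
    (hfib : ∀ ψ : (Scheme.Modules.pullback h).obj E ⟶ (Scheme.Modules.pullback h).obj F, ZeroAt z₀ ψ → ψ = 0)
    (k : ℕ) (x : X) :
    LinearMap.range ((St x).map φ).hom ≤ (m ^ k).map (gα α x) • (⊤ : Submodule (X.presheaf.stalk x) ((St x).obj F)) := by
  classical
  subst hx₀
  let Z : Ideal A → Prop := fun J =>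
    ∀ x, LinearMap.range ((St x).map φ).hom ≤ (Ideal.map (gα α x) J) • (⊤ : Submodule (X.presheaf.stalk x) ((St x).obj F))
  suffices hZ : Z (m ^ k) from hZ x
  by_contra hnZ
  obtain ⟨J, ⟨hJk, hnJ⟩, hJmax⟩ := set_has_maximal_iff_noetherian.mpr (inferInstance : IsNoetherian A A)
    {J : Ideal A | m ^ k ≤ J ∧ ¬ Z J} ⟨_, le_rfl, hnZ⟩
  have hJtop : J ≠ ⊤ := by
    rintro rfl
    exact hnJ fun x => by rw [Ideal.map_top, Submodule.top_smul]; exact le_top
  -- an element killed by `m` modulo `J`
  have hex : ∃ n, m ^ n ≤ J := ⟨k, hJk⟩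
  have hn0 : Nat.find hex ≠ 0 := fun h0 => by
    have := Nat.find_spec hex
    rw [h0, pow_zero, Ideal.one_eq_top, top_le_iff] at this
    exact hJtop this
  obtain ⟨j, hj⟩ := Nat.exists_eq_succ_of_ne_zero hn0
  obtain ⟨ε, hεj, hεJ⟩ := SetLike.not_le_iff_exists.mp (Nat.find_min hex (show j < Nat.find hex by omega))
  have hεm : ∀ a, a * ε ∈ J ↔ a ∈ m := fun a => by
    refine ⟨fun ha => ?_, fun ha => Nat.find_spec hex ?_⟩
    · have hle : m ≤ J.colon {ε} := fun b hb => Submodule.mem_colon_singleton.mpr (Nat.find_spec hex (by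
        rw [hj, pow_succ', smul_eq_mul]; exact Ideal.mul_mem_mul hb hεj))
      have hne : J.colon {ε} ≠ ⊤ := fun ht => hεJ (by
        simpa using Submodule.mem_colon_singleton.mp (ht ▸ Submodule.mem_top : (1 : A) ∈ J.colon {ε}))
      rw [Ideal.IsMaximal.eq_of_le inferInstance hne hle]
      exact Submodule.mem_colon_singleton.mpr ha
    · rw [hj, pow_succ']; exact Ideal.mul_mem_mul ha hεj
  have hJ' : Z (J ⊔ Ideal.span {ε}) := by
    by_contra hn
    refine hJmax _ ⟨hJk.trans le_sup_left, hn⟩ (lt_of_le_of_ne le_sup_left fun he => hεJ ?_)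
    rw [he]; exact le_sup_right (a := J) (Ideal.mem_span_singleton_self ε)
  obtain ⟨nJ, rJ, hrJ⟩ := Submodule.fg_iff_exists_fin_generating_family.mp (IsNoetherian.noetherian J)
  obtain ⟨nm, rm, hrm⟩ := Submodule.fg_iff_exists_fin_generating_family.mp (IsNoetherian.noetherian m)
  let πJ := cokernel.π (mulBy α rJ F)
  let πm := cokernel.π (mulBy α rm F)
  have kJ : ∀ x v, ((St x).map πJ).hom v = 0 ↔ v ∈ (Ideal.map (gα α x) J) • (⊤ : Submodule (X.presheaf.stalk x) ((St x).obj F)) :=
    fun x v => by rw [← hrJ, Ideal.submodule_span_eq, ← ker_modQ α rJ F x, LinearMap.mem_ker]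
  have km : ∀ x v, ((St x).map πm).hom v = 0 ↔ v ∈ m.map (gα α x) • (⊤ : Submodule (X.presheaf.stalk x) ((St x).obj F)) :=
    fun x v => by rw [← hrm, Ideal.submodule_span_eq, ← ker_modQ α rm F x, LinearMap.mem_ker]
  -- off the fibre the quotients vanish
  have offm : ∀ x, x ∉ Set.range h → ∀ v, ((St x).map πm).hom v = 0 := fun x hx v => by
    rw [km, hoff x hx, Submodule.top_smul]; trivial
  have offJ : ∀ x, x ∉ Set.range h → ∀ v, ((St x).map πJ).hom v = 0 := fun x hx v => by
    rw [kJ]
    have : (Ideal.map (gα α x) J) = ⊤ := top_le_iff.mp (le_trans (le_of_eq (by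
      rw [Ideal.map_pow, hoff x hx, ← Ideal.one_eq_top, one_pow])) (Ideal.map_mono hJk))
    rw [this, Submodule.top_smul]; trivial
  have hw : mulBy α rm F ≫ smulHom F (α ε) ≫ πJ = 0 := by
    refine hom_eq_zero_of_stalk _ fun x v => ?_
    rw [Functor.map_comp, Functor.map_comp, ModuleCat.hom_comp, ModuleCat.hom_comp, LinearMap.comp_apply,
      LinearMap.comp_apply, stalk_smulHom]
    refine (kJ x _).mpr ?_
    have hv : ((St x).map (mulBy α rm F)).hom v ∈ m.map (gα α x) • (⊤ : Submodule (X.presheaf.stalk x) ((St x).obj F)) := by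
      rw [← hrm, Ideal.submodule_span_eq, ← range_mulBy]; exact ⟨v, rfl⟩
    change gα α x ε • _ ∈ _
    refine Submodule.smul_induction_on hv (fun c hc n _ => ?_) fun p q hp hq => ?_
    · rw [smul_smul]
      refine Submodule.smul_mem_smul ?_ trivial
      have : Ideal.span {gα α x ε} * m.map (gα α x) ≤ (Ideal.map (gα α x) J) := by
        rw [← Set.image_singleton, ← Ideal.map_span, ← Ideal.map_mul]
        refine Ideal.map_mono (Ideal.span_singleton_mul_le_iff.mpr fun a ha => ?_)
        rw [mul_comm]; exact (hεm a).mpr ha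
      exact this (Ideal.mul_mem_mul (Ideal.mem_span_singleton_self _) hc)
    · rw [smul_add]; exact add_mem hp hq
  let ι := cokernel.desc (mulBy α rm F) (smulHom F (α ε) ≫ πJ) hw
  have hι : ∀ x u, ((St x).map ι).hom (((St x).map πm).hom u) = ((St x).map πJ).hom (gα α x ε • u) := by
    intro x u
    have he : πm ≫ ι = smulHom F (α ε) ≫ πJ := cokernel.π_desc _ _ _
    rw [← LinearMap.comp_apply, ← ModuleCat.hom_comp, ← Functor.map_comp, he, Functor.map_comp,
      ModuleCat.hom_comp, LinearMap.comp_apply, stalk_smulHom]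
    rfl
  haveI : Mono ι := by
    refine Preadditive.mono_of_kernel_zero (hom_eq_zero_of_stalk _ fun x v => ?_)
    have h0 : ((St x).map ι).hom (((St x).map (kernel.ι ι)).hom v) = 0 := by
      rw [← LinearMap.comp_apply, ← ModuleCat.hom_comp, ← Functor.map_comp, kernel.condition, Functor.map_zero]
      rfl
    obtain ⟨u, hu⟩ := CurvParLib.stalk_surjective πm x (((St x).map (kernel.ι ι)).hom v)
    rw [← hu] at h0 ⊢
    by_cases hx : x ∈ Set.range h
    · rw [hι, kJ] at h0
      exact (km x u).mpr (mem_map_smul_of_flat (gα α x) (hfl x hx) ε hεm u h0)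
    · exact offm x hx u
  -- lift `φ` modulo `J` through `ι`
  have hlift : (φ ≫ πJ) ≫ cokernel.π ι = 0 := by
    refine hom_eq_zero_of_stalk _ fun x e => ?_
    rw [Functor.map_comp, Functor.map_comp, ModuleCat.hom_comp, ModuleCat.hom_comp, LinearMap.comp_apply,
      LinearMap.comp_apply]
    have he := hJ' x ⟨e, rfl⟩
    rw [Ideal.map_sup, Submodule.sup_smul, Ideal.map_span, Set.image_singleton,
      Submodule.ideal_span_singleton_smul] at he
    obtain ⟨a, ha, b, hb, hab⟩ := Submodule.mem_sup.mp he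
    obtain ⟨u, -, rfl⟩ := Submodule.mem_smul_pointwise_iff_exists _ _ _ |>.mp hb
    rw [← hab, map_add, (kJ x a).mpr ha, zero_add, ← hι, ← LinearMap.comp_apply, ← ModuleCat.hom_comp,
      ← Functor.map_comp, cokernel.condition, Functor.map_zero]
    rfl
  let g := Abelian.monoLift ι (φ ≫ πJ) hlift
  have hg : ∀ x e u, ((St x).map g).hom e = ((St x).map πm).hom u →
      gα α x ε • u - ((St x).map φ).hom e ∈ (Ideal.map (gα α x) J) • (⊤ : Submodule (X.presheaf.stalk x) ((St x).obj F)) := by
    intro x e u hu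
    rw [← kJ, map_sub, ← hι, ← hu, ← LinearMap.comp_apply, ← ModuleCat.hom_comp, ← Functor.map_comp,
      Abelian.monoLift_comp, Functor.map_comp, ModuleCat.hom_comp, LinearMap.comp_apply, sub_self]
  let H := Scheme.Modules.pullback h
  have h0 : H.map (mulBy α rm F) = 0 := pullback_eq_zero h _ fun z v => by
    rw [hker z, ← hrm, Ideal.submodule_span_eq, ← range_mulBy]
    exact ⟨v, rfl⟩
  haveI : IsIso (H.map πm) := by
    have aux : ∀ {P Q : Y.Modules} (f : P ⟶ Q), f = 0 → IsIso (cokernel.π f) := by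
      rintro P Q f rfl; infer_instance
    haveI : IsIso (cokernel.π (H.map (mulBy α rm F))) := aux _ h0
    have hc : cokernel.π (H.map (mulBy α rm F)) ≫ cokernelComparison (mulBy α rm F) H = H.map πm :=
      π_comp_cokernelComparison _ _
    rw [← hc]; infer_instance
  let ψ := H.map g ≫ inv (H.map πm)
  have hψ : ZeroAt z₀ ψ := by
    refine (zeroAt_pullback h g z₀ ?_).comp_right _
    rintro _ ⟨e, rfl⟩
    obtain ⟨u, hu⟩ := CurvParLib.stalk_surjective πm (h z₀) (((St (h z₀)).map g).hom e)
    rw [← hu]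
    refine map_smul_top_le _ _ ?_
    let b := Module.Free.chooseBasis (X.presheaf.stalk (h z₀)) ((St (h z₀)).obj F)
    refine mem_smul_top_of_coord b _ fun i => ?_
    by_contra hnm
    have hunit : IsUnit (b.repr u i) := not_not.mp hnm
    have hs : gα α (h z₀) ε • u ∈ ((Ideal.map (gα α (h z₀)) J) ⊔ RingHom.ker σ) • (⊤ : Submodule (X.presheaf.stalk (h z₀)) ((St (h z₀)).obj F)) := by
      have h2 := Submodule.add_mem _
        (Submodule.smul_mono (le_sup_left (b := RingHom.ker σ)) le_rfl (hg _ e u hu.symm))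
        (Submodule.smul_mono (le_sup_right (a := (Ideal.map (gα α (h z₀)) J))) le_rfl (hσ ⟨e, rfl⟩))
      rwa [sub_add_cancel] at h2
    have hc := coord_mem b _ hs i
    rw [map_smul, Finsupp.smul_apply, smul_eq_mul] at hc
    have hc2 : σ (gα α (h z₀) ε * b.repr u i) ∈ (Ideal.map (σ.comp (gα α (h z₀))) J) := by
      have := Ideal.mem_map_of_mem σ hc
      rwa [Ideal.map_sup, Ideal.map_map, (Ideal.map_eq_bot_iff_le_ker σ).mpr le_rfl, sup_bot_eq] at this
    rw [map_mul, Ideal.mul_unit_mem_iff_mem _ (hunit.map σ)] at hc2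
    obtain ⟨s, hsm, hs'⟩ := hτ J ε hc2
    exact hsm ((hεm s).mp hs')
  have hψ0 := hfib ψ hψ
  have hHg : H.map g = 0 := by
    have := congrArg (fun t => t ≫ H.map πm) hψ0
    simpa [ψ] using this
  have hg0 : g = 0 := by
    refine hom_eq_zero_of_stalk _ fun x e => ?_
    obtain ⟨u, hu⟩ := CurvParLib.stalk_surjective πm x (((St x).map g).hom e)
    by_cases hx : x ∈ Set.range h
    · obtain ⟨z, rfl⟩ := hx
      have hge := stalk_of_pullback_eq_zero h z (h.stalkMap_surjective z) g hHg e
      rw [hker z] at hge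
      refine (Submodule.mem_bot _).mp (?_ : _ ∈ (⊥ : Submodule (X.presheaf.stalk (h z)) ((St (h z)).obj (cokernel (mulBy α rm F)))))
      refine Submodule.smul_le.mpr (fun c hc w _ => ?_) hge
      obtain ⟨w', rfl⟩ := CurvParLib.stalk_surjective πm (h z) w
      rw [Submodule.mem_bot, ← map_smul]
      exact (km (h z) _).mpr (Submodule.smul_mem_smul hc trivial)
    · rw [← hu]; exact offm x hx u
  refine hnJ fun x => ?_
  rintro _ ⟨e, rfl⟩
  have h1 : φ ≫ πJ = 0 := by
    rw [← Abelian.monoLift_comp ι (φ ≫ πJ) hlift]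
    show g ≫ ι = 0
    rw [hg0, Limits.zero_comp]
  exact (kJ x _).mp (by
    rw [← LinearMap.comp_apply, ← ModuleCat.hom_comp, ← Functor.map_comp, h1, Functor.map_zero]; rfl)

/-- Krull: a stalk map into all powers is zero. -/
theorem stalk_eq_zero_of_pow [IsLocallyNoetherian X] (hF : Coh.IsCoh F) {m : Ideal A} (x : X)
    (hne : m.map (gα α x) ≠ ⊤) (φ : E ⟶ F)
    (hpow : ∀ k, LinearMap.range ((St x).map φ).hom ≤ (m ^ k).map (gα α x) • (⊤ : Submodule (X.presheaf.stalk x) ((St x).obj F)))
    (e : (St x).obj E) : ((St x).map φ).hom e = 0 := by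
  haveI := DevissLib.isNoetherian_stalk hF x
  have hb := Ideal.iInf_pow_smul_eq_bot_of_isLocalRing (M := ((St x).obj F)) (m.map (gα α x)) hne
  refine (Submodule.mem_bot (X.presheaf.stalk x)).mp (hb ▸ ?_)
  refine Submodule.mem_iInf _ |>.mpr fun k => ?_
  rw [← Ideal.map_pow]
  exact hpow k ⟨e, rfl⟩

end StabLib
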