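import Groth.Agent.StabLib.JH
import Groth.Agent.StabLib.FibreZero
import Groth.Agent.ParHilbLib.Semi
import Groth.Agent.S4652
import Groth.Agent.CycK0Lib.Sigma
import Mathlib.CategoryTheory.Abelian.CommSq

/-!
# Jordan-Hölder factors of subobjects and quotients
-/

set_option autoImplicit false
set_option linter.style.haveILetI false
set_option maxHeartbeats 1600000
universe u v

open CategoryTheory CategoryTheory.Limits AlgebraicGeometry TopologicalSpace Opposite Polynomial
open DevissLib QCohLib HilbPolyLib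

noncomputable section

namespace StabLib

namespace Val

variable {Λ : Type v} [Lattice Λ] [BoundedOrder Λ] {d : ℕ} {V : Val Λ d}

/-- A stable interval between elements of the reduced polynomial of the whole is a step of any chain. -/
theorem JHc.exists_step (hE : V.Semi ⊥ ⊤) {s : LTSeries Λ} (hs : V.JHc ⊥ s) {a b : Λ}
    (ha : dd d (V.q ⊥ a) (V.q ⊥ ⊤) = 0) (hb : dd d (V.q ⊥ b) (V.q ⊥ ⊤) = 0) (hab : V.Stab a b)
    (R : Λ → Λ → Λ → Λ → Prop) (hsymm : ∀ a b c e, R a b c e → R c e a b)
    (htrans : ∀ a b c e f g, R a b c e → R c e f g → R a b f g)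
    (hrel : ∀ x y : Λ, R x (x ⊔ y) (x ⊓ y) y) :
    ∃ i : Fin s.length, R a b (s i.castSucc) (s i.succ) := by
  letI := V.redLattice hE
  have hred := fun i => hs.red i
  obtain ⟨i, hi, hi'⟩ : ∃ i : Fin s.length, ¬ b ≤ a ⊔ s i.castSucc ∧ b ≤ a ⊔ s i.succ := by
    by_contra! hne
    have : ∀ j : Fin (s.length + 1), ¬ b ≤ a ⊔ s j := by
      intro j
      induction j using Fin.induction with
      | zero => rw [show s 0 = ⊥ from hs.1, sup_bot_eq]; exact hab.1.not_ge
      | succ i ih => exact hne i ih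
    refine this (Fin.last _) ?_
    rw [show s (Fin.last _) = ⊤ from hs.2.1, sup_top_eq]
    exact le_top
  set c := a ⊔ s i.castSucc with hc
  set c' := a ⊔ s i.succ with hc'
  have hcr := (V.red_sup_inf hE ha (hred i.castSucc)).1
  have hcbr := (V.red_sup_inf hE hcr hb).1
  have hss : s i.castSucc ≤ s i.succ := (s.step i).le
  have hcov := V.covBy_red hE (a := ⟨a, ha⟩) (b := ⟨b, hb⟩) hab
  have hcovs := V.covBy_red hE (a := ⟨_, hred i.castSucc⟩) (b := ⟨_, hred i.succ⟩) (hs.2.2 i).1
  have e1 : c ⊓ b = a := by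
    rcases hcov.eq_or_eq (c := ⟨c ⊓ b, (V.red_sup_inf hE hcr hb).2⟩)
      (show a ≤ c ⊓ b from le_inf le_sup_left hab.1.le) (show c ⊓ b ≤ b from inf_le_right) with h | h
    · exact congrArg Subtype.val h
    · exact absurd (inf_eq_right.mp (congrArg Subtype.val h)) hi
  have e2 : c ⊓ s i.succ = s i.castSucc := by
    rcases hcovs.eq_or_eq (c := ⟨c ⊓ s i.succ, (V.red_sup_inf hE hcr (hred i.succ)).2⟩)
      (show s i.castSucc ≤ c ⊓ s i.succ from le_inf le_sup_right hss)
      (show c ⊓ s i.succ ≤ s i.succ from inf_le_right) with h | h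
    · exact congrArg Subtype.val h
    · exact absurd (hi'.trans (sup_le le_sup_left (inf_eq_right.mp (congrArg Subtype.val h)))) hi
  have e3 : c ⊔ s i.succ = c' := by rw [hc, sup_assoc, sup_eq_right.mpr hss]
  have hle : c ⊔ b ≤ c' := sup_le (sup_le le_sup_left (hss.trans le_sup_right)) hi'
  have e4 : c ⊔ b = c' := by
    rcases hcovs.eq_or_eq (c := ⟨(c ⊔ b) ⊓ s i.succ, (V.red_sup_inf hE hcbr (hred i.succ)).2⟩)
      (show s i.castSucc ≤ (c ⊔ b) ⊓ s i.succ from le_inf (le_sup_right.trans le_sup_left) hss)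
      (show (c ⊔ b) ⊓ s i.succ ≤ s i.succ from inf_le_right) with h | h
    · exfalso
      have hx : (c ⊔ b) ⊓ s i.succ = s i.castSucc := congrArg Subtype.val h
      have e5 : (c ⊔ b) ⊔ s i.succ = c' := le_antisymm (sup_le hle le_sup_right)
        (sup_le ((le_sup_left.trans le_sup_left).trans le_sup_left) le_sup_right)
      have q1 : V.q (s i.castSucc) (s i.succ) = V.q (c ⊔ b) c' := by
        have := V.q_inf_sup (s i.succ) (c ⊔ b)
        rwa [show s i.succ ⊓ (c ⊔ b) = s i.castSucc by rw [inf_comm, hx],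
          show s i.succ ⊔ (c ⊔ b) = c' by rw [sup_comm, e5]] at this
      have q2 : V.q (s i.castSucc) (s i.succ) = V.q c c' := by
        have := V.q_inf_sup (s i.succ) c
        rwa [show s i.succ ⊓ c = s i.castSucc by rw [inf_comm, e2],
          show s i.succ ⊔ c = c' by rw [sup_comm, e3]] at this
      have hlt : c < c ⊔ b := lt_of_le_of_ne le_sup_left fun he => hi (he ▸ le_sup_right)
      refine ps_ne_zero (V.lt hlt) ?_
      simp only [q] at q1 q2 ⊢
      linear_combination q1 - q2
    · exact le_antisymm hle (sup_le (le_sup_left.trans le_sup_left) (inf_eq_right.mp (congrArg Subtype.val h)))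
  refine ⟨i, ?_⟩
  have r1 := hrel c b
  rw [e1, e4] at r1
  have r2 := hrel c (s i.succ)
  rw [e2, e3] at r2
  exact htrans _ _ _ _ _ _ (hsymm _ _ _ _ r1) r2

end Val

variable {X : Scheme.{u}}

theorem isZero_coker_ofLE {M : X.Modules} (a b : Subobject M) (h : a ≤ b) (hz : IsZero M) :
    IsZero (cokernel (Subobject.ofLE a b h)) :=
  IsZero.of_epi (cokernel.π _) (IsZero.of_mono b.arrow hz)

theorem isStable_congr {k : Type u} [Field k] [X.Over (Spec (CommRingCat.of k))]
    [IsProper (X ↘ Spec (CommRingCat.of k))] {L : X.Modules} (hA : CohB1.IsAmple L) {d : ℕ}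
    {E E' : X.Modules} (e : E ≅ E') (h : ShStab.IsStable k X L E d) : ShStab.IsStable k X L E' d := by
  have hc := QCohLib.isCoh_of_iso e h.1
  refine ⟨hc, fun hz => h.2.1 (hz.of_iso e), isPure_congr e h.2.2.1, fun G ι hι hG hG0 hiso => ?_⟩
  have hniso : ¬ IsIso (ι ≫ e.inv) := fun hi => hiso (IsIso.of_isIso_comp_right ι e.inv)
  have := (redLT_hPoly_iff (k := k) hA hG h.1).mp (h.2.2.2 G (ι ≫ e.inv) (mono_comp _ _) hG hG0 hniso)
  rw [redLT_hPoly_iff (k := k) hA hG hc, ← hPoly_congr (k := k) hA h.1 e]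
  exact this

variable {k : Type u} [Field k] [X.Over (Spec (CommRingCat.of k))]
  [IsProper (X ↘ Spec (CommRingCat.of k))] {L : X.Modules} (hA : CohB1.IsAmple L) {d : ℕ}
  {E : X.Modules} [IsNoetherian X] (hE : Coh.IsCoh E) (hd : topologicalKrullDim (CohB1.support E) ≤ (d : ℕ))

include hA hE hd in
/-- A stable subquotient with the reduced polynomial of the whole is one of the factors. -/
theorem exists_factor_iso (hss : ShStab.IsSemistable k X L E d) {s : LTSeries (Subobject E)}
    (hs : ShStab.IsJHFiltration k X L E d s) {a b : CSub E} (h : a.1 ≤ b.1)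
    (ha : dd d (HPoly k L (a.1 : X.Modules)) (HPoly k L E) = 0)
    (hH : ShStab.IsStable k X L (cFac a b h) d)
    (hHE : dd d (HPoly k L (cFac a b h)) (HPoly k L E) = 0) :
    ∃ i, Nonempty (StabCat.factor s i ≅ cFac a b h) := by
  letI := cLattice hE
  letI := cBounded hE
  have hsemi := (semistable_cFac_iff (k := k) hA hE hd (bot_le (a := (⊤ : Subobject E)) :
    ((⊥ : CSub E)).1 ≤ ((⊤ : CSub E)).1)).mp (isSemistable_congr (cFacBotTop hE).symm hss)
  obtain ⟨v, rfl⟩ := exists_lift hE s hs.2.1 fun i => (hs.2.2 i).1.1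
  have hv : (cVal (k := k) hA hE hd).JHc ⊥ v := by
    refine ⟨Subtype.ext hs.1, Subtype.ext hs.2.1, fun i => ?_⟩
    have hle : (v i.castSucc).1 ≤ (v i.succ).1 := le_of_lt (v.step i)
    refine ⟨(stable_cFac_iff hA hE hd hle).mp (hs.2.2 i).1, ?_⟩
    have h2 := (hs.2.2 i).2 _ _ (hPoly_spec hA (isCoh_cFac hle)) (hPoly_spec hA hE)
    rw [redEq_iff] at h2
    change dd d (HPoly k L (cFac _ _ hle)) _ = 0 at h2
    rw [hPoly_cFac hA hE hd hle, ← q_top (k := k) hA hE hd] at h2
    exact h2
  set V := cVal (k := k) hA hE hd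
  have ha' : dd d (V.q ⊥ a) (V.q ⊥ ⊤) = 0 := by rw [q_bot, q_top]; exact ha
  have hb' : dd d (V.q ⊥ b) (V.q ⊥ ⊤) = 0 := by
    rw [← V.q_add ⊥ a b, dd_add_left, ha', zero_add, q_top, ← hPoly_cFac hA hE hd h]
    exact hHE
  obtain ⟨i, h1, h2, ⟨e⟩⟩ := hv.exists_step hsemi ha' hb' ((stable_cFac_iff hA hE hd h).mp hH)
    (fun a b c e => ∃ (h : a.1 ≤ b.1) (h' : c.1 ≤ e.1), Nonempty (cFac a b h ≅ cFac c e h'))
    (fun _ _ _ _ ⟨h, h', ⟨e⟩⟩ => ⟨h', h, ⟨e.symm⟩⟩)
    (fun _ _ _ _ _ _ ⟨h, _, ⟨e⟩⟩ ⟨_, h'', ⟨e'⟩⟩ => ⟨h, h'', ⟨e ≪≫ e'⟩⟩)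
    (fun x y => ⟨le_sup_left (a := x.1), inf_le_right (b := y.1), nonempty_second_iso (k := k) hA hE hd x y⟩)
  exact ⟨i, ⟨e.symm⟩⟩

omit [X.Over (Spec (CommRingCat.of k))] [IsProper (X ↘ Spec (CommRingCat.of k))] in
/-- A coherent sum of finitely many modules with projective stalks at a point is locally free near it. -/
theorem locFree_near_grObj {G : X.Modules} (t : LTSeries (Subobject G))
    (ht : ∀ i, Coh.IsCoh (StabCat.factor t i)) {x : X}
    (h : ∀ i, Module.Projective (X.presheaf.stalk x) ((St x).obj (StabCat.factor t i))) :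
    ∃ U : X.Opens, x ∈ U ∧ FlatMod.IsFinLocFree ((StabCat.grObj t).restrict U.ι) := by
  let e : StabCat.grObj t ≅ ∐ fun j : ULift.{u} (Fin t.length) => StabCat.factor t j.down :=
    Sigma.whiskerEquiv (f := fun j => StabCat.factor t j)
      (g := fun j : ULift.{u} (Fin t.length) => StabCat.factor t j.down) Equiv.ulift.symm fun _ => Iso.refl _
  have hc : Coh.IsCoh (StabCat.grObj t) :=
    QCohLib.isCoh_of_iso e.symm (CycK0Lib.isCoh_sigma (locallyFinite_of_finite _) fun j => ht j.down)
  have hfl : FlatMod.IsFlatAt (StabCat.grObj t) x := by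
    haveI := h
    haveI : ∀ j, Module.Flat (X.presheaf.stalk x) ((St x).obj (StabCat.factor t j)) := fun j => inferInstance
    exact Module.Flat.of_linearEquiv (PreservesCoproduct.iso (St x) (fun j => StabCat.factor t j) ≪≫
      ModuleCat.coprodIsoDirectSum fun j => (St x).obj (StabCat.factor t j)).toLinearEquiv
  obtain ⟨U, hxU, n, ⟨φ⟩⟩ := Groth.Agent.S4652.freeNear_of_fp (QCohLib.isFP_of_isCoh _ hc) x hfl
  refine ⟨U, hxU, fun y => ⟨⊤, n, trivial, ⟨?_⟩⟩⟩
  exact (Scheme.Modules.restrictFunctorIsoPullback _).app _ ≪≫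
    (Scheme.Modules.pullback (⊤ : (U : Scheme.{u}).Opens).ι).mapIso
      ((Scheme.Modules.restrictFunctorIsoPullback U.ι).app _ ≪≫ φ) ≪≫ KFlatLib.pullFreeIso _ n

include hA hE hd in
/-- The JH filtrations of a subobject and quotient with the same reduced polynomial. -/
theorem exists_jh_sub_quot (hss : ShStab.IsSemistable k X L E d) {s : LTSeries (Subobject E)}
    (hs : ShStab.IsJHFiltration k X L E d s) {x : X}
    [Module.Projective (X.presheaf.stalk x) ((St x).obj (StabCat.grObj s))]
    {G : X.Modules} (ι : G ⟶ E) [Mono ι] (hG : Coh.IsCoh G)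
    (hred : dd d (HPoly k L G) (HPoly k L E) = 0) :
    (∀ t : LTSeries (Subobject G), ShStab.IsJHFiltration k X L G d t →
      ∀ i, Module.Projective (X.presheaf.stalk x) ((St x).obj (StabCat.factor t i))) ∧
    (∀ t : LTSeries (Subobject (cokernel ι)), ShStab.IsJHFiltration k X L (cokernel ι) d t →
      ∀ i, Module.Projective (X.presheaf.stalk x) ((St x).obj (StabCat.factor t i))) := by
  have hαE : 0 < StabCat.alpha d (HPoly k L E) := alpha_pos_of_pure hA hss.2.2.1 (𝟙 E) hE hss.2.1
  have htr : ∀ {P Q R : ℚ[X]}, dd d P Q = 0 → dd d Q R = 0 → 0 < StabCat.alpha d Q → dd d P R = 0 := by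
    intro P Q R h1 h2 hQ
    have := smul_dd_trans d P Q R
    rw [h1, h2, smul_zero, smul_zero, add_zero] at this
    exact (smul_eq_zero.mp this).resolve_left hQ.ne'
  have hproj : ∀ {a b : CSub E} (h : a.1 ≤ b.1),
      dd d (HPoly k L (a.1 : X.Modules)) (HPoly k L E) = 0 → ShStab.IsStable k X L (cFac a b h) d →
      dd d (HPoly k L (cFac a b h)) (HPoly k L E) = 0 →
      Module.Projective (X.presheaf.stalk x) ((St x).obj (cFac a b h)) := fun h ha hH hHE => by
    obtain ⟨i, ⟨e⟩⟩ := exists_factor_iso hA hE hd hss hs h ha hH hHE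
    haveI := projective_stalk_factor s (x := x) i
    exact Module.Projective.of_equiv ((St x).mapIso e).toLinearEquiv
  constructor
  · intro t ht i
    obtain ⟨v, rfl⟩ := exists_lift hG t ht.2.1 fun i => (ht.2.2 i).1.1
    let A : Fin (v.length + 1) → CSub E := fun j => ⟨Subobject.mk ((v j).1.arrow ≫ ι),
      QCohLib.isCoh_of_iso (Subobject.underlyingIso _).symm (v j).2⟩
    have hle : ∀ j : Fin v.length, (A j.castSucc).1 ≤ (A j.succ).1 := fun j =>
      Subobject.mk_le_mk_of_comm (Subobject.ofLE _ _ (v.step j).le)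
        (by rw [Subobject.ofLE_arrow_assoc])
    have e : ∀ j : Fin v.length, StabCat.factor (toSub v) j ≅ cFac (A j.castSucc) (A j.succ) (hle j) := fun j =>
      cokernel.mapIso _ _ (Subobject.underlyingIso ((v j.castSucc).1.arrow ≫ ι)).symm
        (Subobject.underlyingIso ((v j.succ).1.arrow ≫ ι)).symm (by
          rw [← cancel_mono (Subobject.mk ((v j.succ).1.arrow ≫ ι)).arrow, Category.assoc, Category.assoc]
          refine ((congrArg _ (Subobject.underlyingIso_arrow ((v j.succ).1.arrow ≫ ι))).trans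
            (Subobject.ofLE_arrow_assoc _ _)).trans ?_
          exact ((congrArg _ (Subobject.ofLE_arrow _)).trans (Subobject.underlyingIso_arrow _)).symm)
    have hgr : ∀ j : Fin v.length, dd d (HPoly k L (cFac (A j.castSucc) (A j.succ) (hle j))) (HPoly k L E) = 0 := by
      intro j
      rw [← hPoly_congr (k := k) hA (ht.2.2 j).1.1 (e j)]
      have hst := (ht.2.2 j).1
      refine htr ((redEq_iff d).mp ((ht.2.2 j).2 _ _ (hPoly_spec hA hst.1) (hPoly_spec hA hG))) hred ?_
      refine lt_of_le_of_ne (alpha_nonneg d (hPoly_deg hA hG ((dim_mono (support_mono ι)).trans hd))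
        (hPoly_nn hA hG)) fun h0 => ?_
      have h1 := hred
      rw [dd_of_alpha_zero d h0.symm, neg_eq_zero, smul_eq_zero] at h1
      have h2 := h1.resolve_left hαE.ne'
      have hz : IsZero G := by
        by_contra hz
        exact ps_ne_zero (hPoly_ps (k := k) hA hG hz) h2
      exact hst.2.1 (isZero_coker_ofLE _ _ _ hz)
    have hA0 : ∀ j : Fin (v.length + 1), dd d (HPoly k L ((A j).1 : X.Modules)) (HPoly k L E) = 0 := by
      intro j
      induction j using Fin.induction with
      | zero =>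
        have hz : IsZero ((v 0).1 : X.Modules) := by
          rw [show (v 0).1 = ⊥ from ht.1]
          exact (Limits.isZero_zero _).of_iso Subobject.botCoeIsoZero
        rw [hPoly_zero hA (hz.of_iso (Subobject.underlyingIso _)), dd_zero_left]
      | succ j ih =>
        have e1 := hPoly_coker (k := k) hA (Subobject.ofLE _ _ (hle j)) (A j.castSucc).2 (A j.succ).2
        rw [e1, dd_add_left, ih, zero_add]
        exact hgr j
    haveI := hproj (hle i) (hA0 _) (isStable_congr hA (e i) (ht.2.2 i).1) (hgr i)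
    exact Module.Projective.of_equiv ((St x).mapIso (e i).symm).toLinearEquiv
  · intro t ht i
    have hQ := QCohLib.isCoh_cokernel ι hG.1 hE
    obtain ⟨v, rfl⟩ := exists_lift hQ t ht.2.1 fun i => (ht.2.2 i).1.1
    let π := cokernel.π ι
    let A : Fin (v.length + 1) → CSub E := fun j => ⟨(Subobject.pullback π).obj (v j).1,
      QCohLib.isCoh_of_iso (ParHilbLib.pullbackKernel π (v j).1)
        (QCohLib.isCoh_kernel _ hE (QCohLib.isCoh_cokernel (v j).1.arrow (v j).2.1 hQ).1)⟩
    have hepi : ∀ j, Epi (Subobject.pullbackπ π (v j).1) := fun j =>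
      Abelian.epi_fst_of_isLimit _ _ (Subobject.isPullback π (v j).1).isLimit
    have hle : ∀ j : Fin v.length, (A j.castSucc).1 ≤ (A j.succ).1 := fun j =>
      (Subobject.pullback π).monotone (v.step j).le
    have sq : ∀ j : Fin v.length, IsPullback (Subobject.ofLE _ _ (hle j))
        (Subobject.pullbackπ π (v j.castSucc).1) (Subobject.pullbackπ π (v j.succ).1)
        (Subobject.ofLE (v j.castSucc).1 (v j.succ).1 (v.step j).le) := fun j => by
      refine (IsPullback.of_bot (v₁₂ := Subobject.ofLE (v j.castSucc).1 (v j.succ).1 (v.step j).le) ?_ ?_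
        (Subobject.isPullback π (v j.succ).1)).flip
      · rw [Subobject.ofLE_arrow, Subobject.ofLE_arrow]
        exact Subobject.isPullback π (v j.castSucc).1
      · rw [← cancel_mono (v j.succ).1.arrow, Category.assoc, Category.assoc, Subobject.ofLE_arrow,
          (Subobject.isPullback π (v j.succ).1).w, ← Category.assoc, Subobject.ofLE_arrow]
        exact (Subobject.isPullback π (v j.castSucc).1).w
    have hiso : ∀ j : Fin v.length, Nonempty (cFac (A j.castSucc) (A j.succ) (hle j) ≅ StabCat.factor (toSub v) j) := by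
      intro j
      let m := cokernel.map _ _ _ _ (sq j).w
      haveI : Mono m := Abelian.mono_cokernel_map_of_isPullback (sq j)
      haveI : Epi m := by
        haveI := hepi j.succ
        haveI : Epi (cokernel.π _ ≫ m) := by
          rw [cokernel.π_desc]; infer_instance
        exact epi_of_epi (cokernel.π _) m
      have hm : IsIso m := isIso_of_mono_of_epi m
      exact ⟨@asIso _ _ _ _ m hm⟩
    have hQE : dd d (HPoly k L (cokernel ι)) (HPoly k L E) = 0 := by
      have e1 := hPoly_coker (k := k) hA ι hG hE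
      have h := dd_self d (HPoly k L E)
      nth_rw 1 [e1] at h
      rwa [dd_add_left, hred, zero_add] at h
    have hαQ : ∀ j : Fin v.length, 0 < StabCat.alpha d (HPoly k L (cokernel ι)) := fun j => by
      refine lt_of_le_of_ne (alpha_nonneg d (hPoly_deg hA hQ ((dim_mono (support_epi π)).trans hd))
        (hPoly_nn hA hQ)) fun h0 => ?_
      have h1 := hQE
      rw [dd_of_alpha_zero d h0.symm, neg_eq_zero, smul_eq_zero] at h1
      have h2 := h1.resolve_left hαE.ne'
      have hz : IsZero (cokernel ι) := by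
        by_contra hz
        exact ps_ne_zero (hPoly_ps (k := k) hA hQ hz) h2
      exact (ht.2.2 j).1.2.1 (isZero_coker_ofLE _ _ _ hz)
    have hgr : ∀ j : Fin v.length, dd d (HPoly k L (cFac (A j.castSucc) (A j.succ) (hle j))) (HPoly k L E) = 0 := by
      intro j
      rw [hPoly_congr (k := k) hA (isCoh_cFac (hle j)) (hiso j).some]
      exact htr ((redEq_iff d).mp ((ht.2.2 j).2 _ _ (hPoly_spec hA (ht.2.2 j).1.1) (hPoly_spec hA hQ))) hQE (hαQ j)
    have hA0 : ∀ j : Fin (v.length + 1), dd d (HPoly k L ((A j).1 : X.Modules)) (HPoly k L E) = 0 := by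
      intro j
      induction j using Fin.induction with
      | zero =>
        let a := (A 0).1
        have he : a = Subobject.mk ι := by
          change (Subobject.pullback π).obj (v 0).1 = _
          rw [show (v 0).1 = ⊥ from ht.1]
          refine le_antisymm (Subobject.le_mk_of_comm (Abelian.monoLift ι _ ?_) (Abelian.monoLift_comp _ _ _))
            (Subobject.mk_le_of_comm ((Subobject.isPullback π ⊥).lift 0 ι ?_) (IsPullback.lift_snd _ _ _ _))
          · rw [← (Subobject.isPullback π ⊥).w, Subobject.bot_arrow, Limits.comp_zero]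
          · rw [Limits.zero_comp, cokernel.condition]
        have e2 : HPoly k L (a : X.Modules) = HPoly k L G := by
          rw [he]
          exact (hPoly_congr (k := k) hA hG (Subobject.underlyingIso ι).symm).symm
        change dd d (HPoly k L (a : X.Modules)) _ = 0
        rw [e2, hred]
      | succ j ih =>
        have e1 := hPoly_coker (k := k) hA (Subobject.ofLE _ _ (hle j)) (A j.castSucc).2 (A j.succ).2
        rw [e1, dd_add_left, ih, zero_add]
        exact hgr j
    haveI := hproj (hle i) (hA0 _) (isStable_congr hA (hiso i).some.symm (ht.2.2 i).1) (hgr i)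
    exact Module.Projective.of_equiv ((St x).mapIso (hiso i).some).toLinearEquiv

end StabLib
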