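import Groth.Agent.StabLib.Poly
import Mathlib.Order.RelSeries
import Mathlib.Order.WellFounded
import Mathlib.Data.Rat.Floor

/-!
# Harder-Narasimhan and Jordan-Hölder chains for a polynomial valuation on a lattice
-/

set_option autoImplicit false

open Polynomial

noncomputable section

namespace StabLib

universe v

variable {Λ : Type v} [Lattice Λ] [BoundedOrder Λ]

/-- A polynomial valuation on a bounded lattice. -/
structure Val (Λ : Type v) [Lattice Λ] [BoundedOrder Λ] (d : ℕ) where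
  /-- the polynomial of an element -/
  P : Λ → ℚ[X]
  P_bot : P ⊥ = 0
  modular : ∀ a b, P (a ⊔ b) + P (a ⊓ b) = P a + P b
  lt : ∀ {a b}, a < b → Ps (P b - P a)
  deg : ∀ a, (P a).natDegree ≤ d
  int : ∀ a, ∃ n : ℤ, StabCat.alpha d (P a) = n

/-- Prepending a smaller element to a strictly increasing chain. -/
def consS (t : LTSeries Λ) (a : Λ) (h : a < t.head) : LTSeries Λ where
  length := t.length + 1
  toFun := Fin.cons a t.toFun
  step i := by
    induction i using Fin.cases with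
    | zero => exact h
    | succ j => exact t.step j

theorem consS_head (t : LTSeries Λ) (a : Λ) (h : a < t.head) : (consS t a h).head = a := rfl

theorem consS_last (t : LTSeries Λ) (a : Λ) (h : a < t.head) : (consS t a h).last = t.last :=
  congrArg (Fin.cons a t.toFun : Fin (t.length + 2) → Λ) (Fin.succ_last _).symm |>.trans
    (Fin.cons_succ _ _ _)

theorem consS_forall (t : LTSeries Λ) (a : Λ) (h : a < t.head) {R : Λ → Λ → Prop} (h0 : R a t.head)
    (h1 : ∀ j : Fin t.length, R (t j.castSucc) (t j.succ)) (i : Fin (consS t a h).length) :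
    R ((consS t a h) i.castSucc) ((consS t a h) i.succ) := by
  change Fin (t.length + 1) at i
  induction i using Fin.cases with
  | zero => exact h0
  | succ j => exact h1 j

theorem consS_forall₂ (t : LTSeries Λ) (a : Λ) (h : a < t.head) {R : Λ → Λ → Λ → Λ → Prop}
    (h0 : ∀ j : Fin t.length, j.val = 0 → R a t.head (t j.castSucc) (t j.succ))
    (h1 : ∀ i j : Fin t.length, i.val + 1 = j.val → R (t i.castSucc) (t i.succ) (t j.castSucc) (t j.succ))
    (i j : Fin (consS t a h).length) (hij : i.val + 1 = j.val) :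
    R ((consS t a h) i.castSucc) ((consS t a h) i.succ) ((consS t a h) j.castSucc) ((consS t a h) j.succ) := by
  change Fin (t.length + 1) at i j
  induction j using Fin.cases with
  | zero => exact absurd hij (Nat.succ_ne_zero _)
  | succ j =>
    induction i using Fin.cases with
    | zero => exact h0 j (Nat.succ.inj hij).symm
    | succ i => exact h1 i j (Nat.succ.inj hij)

namespace Val

variable {d : ℕ} (V : Val Λ d)

/-- The polynomial of an interval. -/
def q (a b : Λ) : ℚ[X] := V.P b - V.P a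

/-- The multiplicity of an interval. -/
def al (a b : Λ) : ℚ := StabCat.alpha d (V.q a b)

theorem q_add (a b c : Λ) : V.q a b + V.q b c = V.q a c := by simp [q]

theorem q_self (a : Λ) : V.q a a = 0 := sub_self _

theorem al_eq (a b : Λ) : V.al a b = StabCat.alpha d (V.P b) - StabCat.alpha d (V.P a) := alpha_sub d _ _

theorem al_add (a b c : Λ) : V.al a b + V.al b c = V.al a c := by simp only [al_eq]; ring

theorem nn_q {a b : Λ} (h : a ≤ b) : Nn (V.q a b) := by
  rcases eq_or_lt_of_le h with rfl | h'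
  · rw [q_self]; exact nn_zero
  · exact (V.lt h').nn

theorem al_nonneg {a b : Λ} (h : a ≤ b) : 0 ≤ V.al a b :=
  StabLib.alpha_nonneg d ((natDegree_sub_le _ _).trans (max_le (V.deg b) (V.deg a))) (V.nn_q h)

theorem q_inf_sup (a b : Λ) : V.q (a ⊓ b) a = V.q b (a ⊔ b) := by
  have := V.modular a b
  simp only [q]
  linear_combination -this

/-- All intervals starting at `a` have positive multiplicity. -/
def Pure (a : Λ) : Prop := ∀ b, a < b → 0 < V.al a b

/-- The interval is pure and semistable. -/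
def Semi (a b : Λ) : Prop :=
  a < b ∧ (∀ c, a < c → c ≤ b → 0 < V.al a c) ∧
    ∀ c, a < c → c < b → Nn (dd d (V.q a c) (V.q a b))

/-- The interval is pure and stable. -/
def Stab (a b : Λ) : Prop :=
  a < b ∧ (∀ c, a < c → c ≤ b → 0 < V.al a c) ∧
    ∀ c, a < c → c < b → Ps (dd d (V.q a c) (V.q a b))

theorem Stab.semi {a b : Λ} (h : V.Stab a b) : V.Semi a b :=
  ⟨h.1, h.2.1, fun c h1 h2 => (h.2.2 c h1 h2).nn⟩

theorem Semi.al_pos {a b : Λ} (h : V.Semi a b) : 0 < V.al a b := h.2.1 b h.1 le_rfl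

theorem Semi.nn_dd {a b : Λ} (h : V.Semi a b) {c : Λ} (h1 : a ≤ c) (h2 : c ≤ b) :
    Nn (dd d (V.q a c) (V.q a b)) := by
  rcases eq_or_lt_of_le h1 with rfl | h1'
  · rw [q_self, dd_zero_left]; exact nn_zero
  rcases eq_or_lt_of_le h2 with rfl | h2'
  · rw [dd_self]; exact nn_zero
  exact h.2.2 c h1' h2'

/-- `f` is the maximal destabilising element over `a`. -/
def MaxD (a f : Λ) : Prop :=
  a < f ∧ ∀ c, a < c → Nn (dd d (V.q a c) (V.q a f)) ∧ (dd d (V.q a c) (V.q a f) = 0 → c ≤ f)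

section Exists

variable [WellFoundedGT Λ]

theorem exists_good {a : Λ} (ha : V.Pure a) (b : Λ) :
    ∀ c, a < c → c ≤ b → ∃ g, c ≤ g ∧ g ≤ b ∧ Nn (dd d (V.q a c) (V.q a g)) ∧
      ∀ h, g < h → h ≤ b → Ps (dd d (V.q a h) (V.q a g)) := by
  intro c
  induction c using WellFoundedGT.induction with
  | _ c IH =>
  intro hac hcb
  by_cases hgood : ∀ h, c < h → h ≤ b → Ps (dd d (V.q a h) (V.q a c))
  · exact ⟨c, le_rfl, hcb, by rw [dd_self]; exact nn_zero, hgood⟩
  push Not at hgood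
  obtain ⟨h, hch, hhb, hh⟩ := hgood
  obtain ⟨g, hg, hgb, hhg, hgood'⟩ := IH h hch (hac.trans hch) hhb
  refine ⟨g, hch.le.trans hg, hgb, ?_, hgood'⟩
  refine dd_trans d (ha c hac).le (ha h (hac.trans hch)) (ha g ((hac.trans hch).trans_le hg)).le ?_ hhg
  rw [dd_swap, nn_neg_iff]
  exact hh

theorem exists_maxD {a : Λ} (ha : V.Pure a) (hlt : a < ⊤) : ∃ f, V.MaxD a f := by
  let S : Set Λ := {g | a < g ∧ ∀ h, g < h → Ps (dd d (V.q a h) (V.q a g))}
  let N : Λ → ℕ := fun g => ⌊V.al a g⌋.toNat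
  have hint : ∀ g, ∃ n : ℤ, V.al a g = n := fun g => by
    obtain ⟨m, hm⟩ := V.int g
    obtain ⟨m', hm'⟩ := V.int a
    exact ⟨m - m', by rw [al_eq, hm, hm']; push_cast; rfl⟩
  have hN : ∀ g h, a ≤ g → a ≤ h → V.al a g < V.al a h → N g < N h := fun g h hg hh hgh => by
    obtain ⟨m, hm⟩ := hint g
    obtain ⟨m', hm'⟩ := hint h
    have h1 : 0 ≤ m := by exact_mod_cast hm ▸ V.al_nonneg hg
    have h2 : m < m' := by exact_mod_cast hm ▸ hm' ▸ hgh
    simp only [N, hm, hm', Int.floor_intCast]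
    omega
  have hS : S.Nonempty := by
    obtain ⟨g, hg, -, -, hgood⟩ := V.exists_good ha ⊤ ⊤ hlt le_rfl
    exact ⟨g, hlt.trans_le hg, fun h hh => hgood h hh le_top⟩
  obtain ⟨f, ⟨haf, hgood⟩, hmin⟩ := (InvImage.wf N wellFounded_lt).has_min S hS
  have haf' := ha f haf
  -- a larger reduced polynomial can be found below `f`
  have hred : ∀ c, a < c → ¬ c ≤ f → Nn (dd d (V.q a f) (V.q a c)) →
      a < c ⊓ f ∧ Ps (dd d (V.q a f) (V.q a (c ⊓ f))) := by
    intro c hac hcf hc
    have hu : f < c ⊔ f := lt_of_le_of_ne le_sup_right fun h => hcf (h ▸ le_sup_left)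
    have key : dd d (V.q a f) (V.q a (c ⊓ f)) =
        dd d (V.q a f) (V.q a c) + dd d (V.q a (c ⊔ f)) (V.q a f) := by
      have hw : V.q a (c ⊓ f) = V.q a c + V.q a f - V.q a (c ⊔ f) := by
        have := V.modular c f
        simp only [q]
        linear_combination this
      rw [hw, dd_sub_right, dd_add_right, dd_self, dd_swap d (V.q a f) (V.q a (c ⊔ f))]
      abel
    have hps : Ps (dd d (V.q a f) (V.q a (c ⊓ f))) := key ▸ hc.add_ps (hgood _ hu)
    refine ⟨lt_of_le_of_ne (le_inf hac.le haf.le) fun h => ?_, hps⟩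
    rw [← h, q_self, dd_zero_right] at hps
    exact ps_ne_zero hps rfl
  have key : ∀ c, a < c → Nn (dd d (V.q a c) (V.q a f)) := by
    intro c hac
    by_contra hc
    have hc' : Ps (dd d (V.q a f) (V.q a c)) := by rw [dd_swap, ps_neg_iff]; exact hc
    obtain ⟨G₀, haG₀, hG₀f, hG₀⟩ : ∃ g, a < g ∧ g ≤ f ∧ Ps (dd d (V.q a f) (V.q a g)) := by
      by_cases hcf : c ≤ f
      · exact ⟨c, hac, hcf, hc'⟩
      · exact ⟨_, (hred c hac hcf hc'.nn).1, inf_le_right, (hred c hac hcf hc'.nn).2⟩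
    obtain ⟨G, hG₀G, hGf, hG₀G', hGgood⟩ := V.exists_good ha f G₀ haG₀ hG₀f
    have haG : a < G := haG₀.trans_le hG₀G
    have hG : Ps (dd d (V.q a f) (V.q a G)) :=
      dd_trans_lt_le d haf'.le (ha G₀ haG₀) (ha G haG) hG₀ hG₀G'
    have hGf' : G < f := lt_of_le_of_ne hGf fun h => by
      rw [h, dd_self] at hG
      exact ps_ne_zero hG rfl
    have hαG : V.al a G < V.al a f := by
      rw [← V.al_add a G f, lt_add_iff_pos_right]
      refine lt_of_le_of_ne (V.al_nonneg hGf) fun h => ?_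
      rw [← V.q_add a G f, dd_add_left, dd_self, zero_add,
        dd_of_alpha_zero d h.symm, ps_neg_iff] at hG
      exact hG ((V.nn_q hGf).smul (ha G haG).le)
    obtain ⟨G', hGG', -, hGG'', hG'good⟩ := V.exists_good ha ⊤ G haG le_top
    have haG' : a < G' := haG.trans_le hGG'
    have hG'f : ¬ G' ≤ f := by
      intro hle
      rcases eq_or_lt_of_le hGG' with heq | hlt'
      · exact hmin G ⟨haG, fun h hh => heq ▸ hG'good h (heq ▸ hh) le_top⟩ (hN G f haG.le haf.le hαG)
      · have := hGgood G' hlt' hle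
        rw [dd_swap, ps_neg_iff] at this
        exact this hGG''
    have hu : f < f ⊔ G' := lt_of_le_of_ne le_sup_left fun h => hG'f (h ▸ le_sup_right)
    have hQ : Ps (dd d (V.q f (f ⊔ G')) (V.q a f)) := by
      have := hgood _ hu
      rwa [← V.q_add a f (f ⊔ G'), dd_add_left, dd_self, zero_add] at this
    have hfG' : Ps (dd d (V.q a f) (V.q a G')) :=
      dd_trans_lt_le d haf'.le (ha G haG) (ha G' haG') hG hGG''
    have hαQ : 0 < V.al f (f ⊔ G') := by
      refine lt_of_le_of_ne (V.al_nonneg hu.le) fun h => ?_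
      rw [dd_of_alpha_zero d h.symm, ps_neg_iff] at hQ
      exact hQ ((V.nn_q hu.le).smul haf'.le)
    have hQG' : Ps (dd d (V.q f (f ⊔ G')) (V.q a G')) :=
      dd_trans_lt_le d hαQ.le haf' (ha G' haG') hQ hfG'.nn
    have hw : Ps (dd d (V.q a G') (V.q a (G' ⊓ f))) := by
      have e : V.q a (G' ⊓ f) = V.q a G' - V.q f (f ⊔ G') := by
        rw [sup_comm, ← V.q_inf_sup, ← V.q_add a (G' ⊓ f) G']
        abel
      rwa [e, dd_sub_right, dd_self, zero_sub, ← dd_swap]
    have hGw : G ≤ G' ⊓ f := le_inf hGG' hGf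
    have hGw' : Ps (dd d (V.q a G) (V.q a (G' ⊓ f))) :=
      dd_trans_le_lt d (ha G haG) (ha G' haG') (V.al_nonneg (haG.le.trans hGw)) hGG'' hw
    rcases eq_or_lt_of_le hGw with heq | hlt'
    · rw [← heq, dd_self] at hGw'
      exact ps_ne_zero hGw' rfl
    · have := hGgood _ hlt' inf_le_right
      rw [dd_swap, ps_neg_iff] at this
      exact this hGw'.nn
  refine ⟨f, haf, fun c hac => ⟨key c hac, fun h0 => ?_⟩⟩
  by_contra hcf
  obtain ⟨haw, hps⟩ := hred c hac hcf (by rw [dd_swap, h0, neg_zero]; exact nn_zero)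
  rw [dd_swap, ps_neg_iff] at hps
  exact hps (key _ haw)

end Exists

variable {V}

theorem MaxD.semi {a f : Λ} (ha : V.Pure a) (h : V.MaxD a f) : V.Semi a f :=
  ⟨h.1, fun c hc _ => ha c hc, fun c hc _ => (h.2 c hc).1⟩

theorem MaxD.pure {a f : Λ} (ha : V.Pure a) (h : V.MaxD a f) : V.Pure f := by
  intro b hb
  refine lt_of_le_of_ne (V.al_nonneg hb.le) fun h0 => ?_
  have h1 := (h.2 b (h.1.trans hb)).1
  rw [← V.q_add a f b, dd_add_left, dd_self, zero_add, dd_of_alpha_zero d h0.symm, nn_neg_iff] at h1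
  exact h1 ((V.lt hb).smul (ha f h.1))

theorem MaxD.unique {a f g : Λ} (hf : V.MaxD a f) (hg : V.MaxD a g) : f = g := by
  have h1 := (hf.2 g hg.1).1
  have h2 := (hg.2 f hf.1).1
  rw [dd_swap] at h2
  have h0 := h1.eq_zero_of_neg h2
  exact le_antisymm ((hg.2 f hf.1).2 (by rw [dd_swap, h0, neg_zero])) ((hf.2 g hg.1).2 h0)

variable (V)

/-- The polynomial of a step of a chain. -/
def stp (s : LTSeries Λ) (i : Fin s.length) : ℚ[X] := V.q (s i.castSucc) (s i.succ)

/-- A Harder-Narasimhan chain from `a` to `⊤`. -/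
def HNc (a : Λ) (s : LTSeries Λ) : Prop :=
  s.head = a ∧ s.last = ⊤ ∧ (∀ i : Fin s.length, V.Semi (s i.castSucc) (s i.succ)) ∧
    ∀ i j : Fin s.length, i.val + 1 = j.val → Ps (dd d (V.stp s j) (V.stp s i))

theorem exists_hn [WellFoundedGT Λ] : ∀ a : Λ, V.Pure a → ∃ s, V.HNc a s := by
  intro a
  induction a using WellFoundedGT.induction with
  | _ a IH =>
  intro ha
  rcases eq_or_lt_of_le (le_top (a := a)) with htop | hlt
  · exact ⟨RelSeries.singleton _ a, rfl, htop, fun i => Fin.elim0 i, fun i => Fin.elim0 i⟩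
  obtain ⟨f, hf⟩ := V.exists_maxD ha hlt
  obtain ⟨t, ht1, ht2, ht3, ht4⟩ := IH f hf.1 (hf.pure ha)
  have haf : a < t.head := ht1 ▸ hf.1
  refine ⟨consS t a haf, consS_head _ _ _, (consS_last _ _ _).trans ht2,
    consS_forall t a haf (R := fun x y => V.Semi x y) (ht1.symm ▸ hf.semi ha) ht3, fun i j hij =>
    consS_forall₂ t a haf (R := fun x y x' y' => Ps (dd d (V.q x' y') (V.q x y))) (fun j hj => ?_) ht4 i j hij⟩
  have e1 : t j.castSucc = f := (congrArg t.toFun (Fin.ext hj)).trans ht1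
  rw [e1, ht1]
  have hlt' : f < t j.succ := e1 ▸ t.step j
  obtain ⟨hnn, heq⟩ := hf.2 (t j.succ) (hf.1.trans hlt')
  have hps := ps_of_nn_ne hnn fun h => absurd (heq h) (not_le_of_gt hlt')
  rwa [← V.q_add a f, dd_add_left, dd_self, zero_add] at hps

variable {V}

theorem HNc.alpha_stp {a : Λ} {s : LTSeries Λ} (h : V.HNc a s) (i : Fin s.length) :
    0 < StabCat.alpha d (V.stp s i) := Semi.al_pos V (h.2.2.1 i)

theorem HNc.ps_of_lt {a : Λ} {s : LTSeries Λ} (h : V.HNc a s) (i : Fin s.length) :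
    ∀ (k : ℕ) (hk : k < s.length), i.val < k → Ps (dd d (V.stp s ⟨k, hk⟩) (V.stp s i)) := by
  intro k
  induction k with
  | zero => intro _ hi; omega
  | succ k IH =>
    intro hk hi
    have h1 := h.2.2.2 ⟨k, by omega⟩ ⟨k + 1, hk⟩ rfl
    rcases Nat.lt_or_ge i.val k with hik | hik
    · exact dd_trans_lt_le d (h.alpha_stp _).le (h.alpha_stp _) (h.alpha_stp _) h1 (IH (by omega) hik).nn
    · rw [show i = ⟨k, by omega⟩ from Fin.ext (show i.val = k by omega)]
      exact h1

/-- The first step beats everything above it. -/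
theorem HNc.first {a : Λ} {s : LTSeries Λ} (h : V.HNc a s) (i : Fin s.length) (c : Λ)
    (hc : s i.castSucc ≤ c) :
    Nn (dd d (V.q (s i.castSucc) c) (V.stp s i)) ∧
      (dd d (V.q (s i.castSucc) c) (V.stp s i) = 0 → c ≤ s i.succ) := by
  suffices key : ∀ (k : ℕ) (hk : k < s.length + 1), i.val < k → ∀ c : Λ, s i.castSucc ≤ c → c ≤ s ⟨k, hk⟩ →
      Nn (dd d (V.q (s i.castSucc) c) (V.stp s i)) ∧
        (dd d (V.q (s i.castSucc) c) (V.stp s i) = 0 → c ≤ s i.succ) from
    key s.length (Nat.lt_succ_self _) i.isLt c hc (le_top.trans h.2.1.ge)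
  intro k
  induction k with
  | zero => intro _ hi; omega
  | succ k IH =>
    intro hk hi c hc hck
    rcases Nat.lt_or_ge i.val k with hik | hik
    swap
    · have hik' : (⟨k + 1, hk⟩ : Fin (s.length + 1)) = i.succ := Fin.ext (show k + 1 = i.val + 1 by omega)
      rw [hik'] at hck
      exact ⟨Semi.nn_dd V (h.2.2.1 _) hc hck, fun _ => hck⟩
    let k' : Fin s.length := ⟨k, by omega⟩
    by_cases hle : c ≤ s k'.castSucc
    · exact IH (by omega) hik c hc hle
    have hik' : s i.castSucc ≤ s k'.castSucc := s.monotone (show i.val ≤ k by omega)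
    have hlt : s k'.castSucc < c ⊔ s k'.castSucc := lt_of_le_of_ne le_sup_right fun e => hle (e ▸ le_sup_left)
    have hub : c ⊔ s k'.castSucc ≤ s k'.succ := sup_le hck (s.monotone k'.castSucc_le_succ)
    obtain ⟨hn, -⟩ := IH (by omega) hik (c ⊓ s k'.castSucc) (le_inf hc hik') inf_le_right
    have hps : Ps (dd d (V.q (s k'.castSucc) (c ⊔ s k'.castSucc)) (V.stp s i)) :=
      dd_trans_le_lt d ((h.2.2.1 k').2.1 _ hlt hub) (h.alpha_stp k') (h.alpha_stp i).le
        (Semi.nn_dd V (h.2.2.1 k') hlt.le hub) (h.ps_of_lt i k _ hik)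
    have htot : Ps (dd d (V.q (s i.castSucc) c) (V.stp s i)) := by
      rw [← V.q_add _ (c ⊓ s k'.castSucc) c, dd_add_left, V.q_inf_sup]
      exact hn.add_ps hps
    exact ⟨htot.nn, fun h0 => absurd h0 (ps_ne_zero htot)⟩

theorem HNc.maxD {a : Λ} {s : LTSeries Λ} (h : V.HNc a s) (i : Fin s.length) :
    V.MaxD (s i.castSucc) (s i.succ) :=
  ⟨(h.2.2.1 i).1, fun c hc => h.first i c hc.le⟩

theorem HNc.unique {a : Λ} {s t : LTSeries Λ} (hs : V.HNc a s) (ht : V.HNc a t) : s = t := by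
  have key : ∀ (u v : LTSeries Λ), V.HNc a u → V.HNc a v → ∀ (k : ℕ) (hk : k < u.length + 1),
      ∃ hk' : k < v.length + 1, u ⟨k, hk⟩ = v ⟨k, hk'⟩ := by
    intro u v hu hv k
    induction k with
    | zero => exact fun _ => ⟨Nat.succ_pos _, hu.1.trans hv.1.symm⟩
    | succ k IH =>
      intro hk
      obtain ⟨hk', he⟩ := IH (by omega)
      have hkv : k < v.length := by
        by_contra hcon
        have h1 : u ⟨k, by omega⟩ < u ⟨k + 1, hk⟩ := u.step ⟨k, by omega⟩
        rw [he, show (⟨k, hk'⟩ : Fin (v.length + 1)) = Fin.last _ from Fin.ext (by simp; omega)] at h1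
        rw [show v (Fin.last _) = ⊤ from hv.2.1] at h1
        exact absurd h1 not_top_lt
      refine ⟨by omega, ?_⟩
      have h1 := hu.maxD ⟨k, by omega⟩
      have h2 := hv.maxD ⟨k, hkv⟩
      exact MaxD.unique h1 (show V.MaxD (u ⟨k, by omega⟩) _ from he ▸ h2)
  have hlen : s.length = t.length := by
    obtain ⟨h1, -⟩ := key s t hs ht s.length (Nat.lt_succ_self _)
    obtain ⟨h2, -⟩ := key t s ht hs t.length (Nat.lt_succ_self _)
    omega
  refine RelSeries.ext hlen (funext fun i => ?_)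
  obtain ⟨_, h⟩ := key s t hs ht i.val i.isLt
  exact h

/-- The last step is the least quotient. -/
theorem HNc.last_le {a : Λ} {s : LTSeries Λ} (h : V.HNc a s) (i : Fin s.length)
    (hi : i.val + 1 = s.length) {c : Λ} (hc : a ≤ c) : Nn (dd d (V.stp s i) (V.q c ⊤)) := by
  suffices key : ∀ (k : ℕ) (hk : k < s.length + 1), Nn (dd d (V.stp s i) (V.q c (c ⊔ s ⟨k, hk⟩))) by
    have := key s.length (Nat.lt_succ_self _)
    rwa [show s ⟨s.length, Nat.lt_succ_self _⟩ = ⊤ from h.2.1, sup_top_eq] at this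
  intro k
  induction k with
  | zero =>
    intro hk
    rw [show s ⟨0, hk⟩ = a from h.1, sup_eq_left.mpr hc, q_self, dd_zero_right]
    exact nn_zero
  | succ k IH =>
    intro hk
    let k' : Fin s.length := ⟨k, by omega⟩
    rw [← V.q_add c (c ⊔ s k'.castSucc), dd_add_right]
    refine (IH (by omega)).add ?_
    let x := s k'.succ ⊓ (c ⊔ s k'.castSucc)
    have e : V.q (c ⊔ s k'.castSucc) (c ⊔ s k'.succ) = V.q x (s k'.succ) := by
      rw [V.q_inf_sup, ← sup_assoc, sup_comm (s k'.succ) c, sup_assoc,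
        sup_eq_left.mpr (s.monotone k'.castSucc_le_succ)]
    have hx1 : s k'.castSucc ≤ x := le_inf (s.monotone k'.castSucc_le_succ) le_sup_right
    have hnn : Nn (dd d (V.stp s k') (V.q x (s k'.succ))) := by
      have e2 : V.q x (s k'.succ) = V.stp s k' - V.q (s k'.castSucc) x := by simp [stp, q]
      rw [e2, dd_sub_right, dd_self, zero_sub, ← dd_swap]
      exact Semi.nn_dd V (h.2.2.1 k') hx1 inf_le_left
    change Nn (dd d (V.stp s i) (V.q (c ⊔ s k'.castSucc) (c ⊔ s k'.succ)))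
    rw [e]
    refine dd_trans d (h.alpha_stp i).le (h.alpha_stp k') (V.al_nonneg inf_le_left) ?_ hnn
    rcases Nat.lt_or_ge k i.val with hki | hki
    · exact (h.ps_of_lt k' i.val i.isLt hki).nn
    · have : i = k' := Fin.ext (show i.val = k by omega)
      rw [this, dd_self]
      exact nn_zero

variable (V)

/-- A Jordan-Hölder chain from `a` to `⊤`. -/
def JHc (a : Λ) (s : LTSeries Λ) : Prop :=
  s.head = a ∧ s.last = ⊤ ∧ ∀ i : Fin s.length,
    V.Stab (s i.castSucc) (s i.succ) ∧ dd d (V.stp s i) (V.q ⊥ ⊤) = 0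

theorem exists_jh [WellFoundedGT Λ] (hE : V.Semi ⊥ ⊤) :
    ∀ a : Λ, dd d (V.q ⊥ a) (V.q ⊥ ⊤) = 0 → ∃ s, V.JHc a s := by
  have hp : ∀ x, Nn (dd d (V.q ⊥ x) (V.q ⊥ ⊤)) := fun x => Semi.nn_dd V hE bot_le le_top
  have hTop := Semi.al_pos V hE
  intro a
  induction a using WellFoundedGT.induction with
  | _ a IH =>
  intro ha
  rcases eq_or_lt_of_le (le_top (a := a)) with htop | hlt
  · exact ⟨RelSeries.singleton _ a, rfl, htop, fun i => Fin.elim0 i⟩
  have hpure : ∀ x, a < x → 0 < V.al a x := by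
    intro x hx
    refine lt_of_le_of_ne (V.al_nonneg hx.le) fun h0 => ?_
    have := hp x
    rw [← V.q_add ⊥ a x, dd_add_left, ha, zero_add, dd_of_alpha_zero d h0.symm, nn_neg_iff] at this
    exact this ((V.lt hx).smul hTop)
  let N : Λ → ℕ := fun g => ⌊V.al a g⌋.toNat
  obtain ⟨c, ⟨hac, hc⟩, hmin⟩ := (InvImage.wf N wellFounded_lt).has_min
    {c | a < c ∧ dd d (V.q ⊥ c) (V.q ⊥ ⊤) = 0} ⟨⊤, hlt, dd_self _ _⟩
  have hqc : dd d (V.q a c) (V.q ⊥ ⊤) = 0 := by
    rwa [← V.q_add ⊥ a c, dd_add_left, ha, zero_add] at hc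
  have hst : V.Stab a c := by
    refine ⟨hac, fun x hx _ => hpure x hx, fun x hax hxc => ?_⟩
    have hx : Ps (dd d (V.q ⊥ x) (V.q ⊥ ⊤)) := by
      refine ps_of_nn_ne (hp x) fun h0 => hmin x ⟨hax, h0⟩ ?_
      obtain ⟨m, hm⟩ := V.int x
      obtain ⟨m', hm'⟩ := V.int a
      obtain ⟨m'', hm''⟩ := V.int c
      have e1 : V.al a x = ((m - m' : ℤ) : ℚ) := by rw [al_eq, hm, hm']; push_cast; rfl
      have e2 : V.al a c = ((m'' - m' : ℤ) : ℚ) := by rw [al_eq, hm'', hm']; push_cast; rfl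
      have h1 : 0 ≤ m - m' := by exact_mod_cast e1 ▸ V.al_nonneg hax.le
      have h2 : V.al a x < V.al a c := by
        rw [← V.al_add a x c, lt_add_iff_pos_right]
        refine lt_of_le_of_ne (V.al_nonneg hxc.le) fun h3 => ?_
        have h4 := hc
        rw [← V.q_add ⊥ x c, dd_add_left, h0, zero_add, dd_of_alpha_zero d h3.symm, neg_eq_zero] at h4
        exact ps_ne_zero ((V.lt hxc).smul hTop) h4
      have h5 : m - m' < m'' - m' := by exact_mod_cast e1 ▸ e2 ▸ h2
      simp only [N, InvImage, e1, e2, Int.floor_intCast]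
      omega
    rw [← V.q_add ⊥ a x, dd_add_left, ha, zero_add] at hx
    rw [← ps_smul_iff hTop, al, smul_dd_trans, dd_swap d (V.q a c) (V.q ⊥ ⊤), hqc, neg_zero, smul_zero,
      zero_add]
    exact hx.smul (hpure c hac)
  obtain ⟨t, ht1, ht2, ht3⟩ := IH c hac hc
  have haf : a < t.head := ht1 ▸ hac
  exact ⟨consS t a haf, consS_head _ _ _, (consS_last _ _ _).trans ht2,
    consS_forall t a haf (R := fun x y => V.Stab x y ∧ dd d (V.q x y) (V.q ⊥ ⊤) = 0)
      (ht1.symm ▸ ⟨hst, hqc⟩) ht3⟩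

end Val

end StabLib

end
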