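import Groth.Prelude.Def_StabCat
import Mathlib.Analysis.Polynomial.Basic
import Mathlib.Tactic.LinearCombination

/-!
# The eventual order on polynomials and reduced comparisons
-/

set_option autoImplicit false

open Polynomial Filter

noncomputable section

namespace StabLib

/-- Eventually nonnegative. -/
def Nn (R : ℚ[X]) : Prop := 0 ≤ R.leadingCoeff

/-- Eventually positive. -/
def Ps (R : ℚ[X]) : Prop := 0 < R.leadingCoeff

theorem eventually_pos {R : ℚ[X]} (h : Ps R) : ∀ᶠ m : ℕ in atTop, 0 < R.eval (m : ℚ) := by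
  rcases Nat.eq_zero_or_pos R.natDegree with hd | hd
  · obtain ⟨c, rfl⟩ : ∃ c, R = C c := ⟨_, eq_C_of_natDegree_eq_zero hd⟩
    refine Eventually.of_forall fun m => ?_
    rw [eval_C]
    simpa [Ps] using h
  · exact ((R.tendsto_atTop_of_leadingCoeff_nonneg (natDegree_pos_iff_degree_pos.mp hd) h.le).comp
      tendsto_natCast_atTop_atTop).eventually_gt_atTop 0

theorem eventually_nonneg {R : ℚ[X]} (h : Nn R) : ∀ᶠ m : ℕ in atTop, 0 ≤ R.eval (m : ℚ) := by
  rcases eq_or_lt_of_le h with h0 | h0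
  · rw [leadingCoeff_eq_zero.mp h0.symm]
    simp
  · exact (eventually_pos (R := R) h0).mono fun _ => le_of_lt

theorem nn_of_eventually {R : ℚ[X]} (h : ∀ᶠ m : ℕ in atTop, 0 ≤ R.eval (m : ℚ)) : Nn R := by
  by_contra hn
  have h' : Ps (-R) := by simp only [Ps, leadingCoeff_neg]; simp only [Nn, not_le] at hn; linarith
  obtain ⟨m, hm, hm'⟩ := (h.and (eventually_pos h')).exists
  rw [eval_neg] at hm'
  linarith

theorem ps_of_eventually {R : ℚ[X]} (h : ∀ᶠ m : ℕ in atTop, 0 < R.eval (m : ℚ)) : Ps R := by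
  refine lt_of_le_of_ne (nn_of_eventually (h.mono fun _ => le_of_lt)) fun h0 => ?_
  obtain ⟨m, hm⟩ := h.exists
  rw [leadingCoeff_eq_zero.mp h0.symm, eval_zero] at hm
  exact lt_irrefl _ hm

theorem Ps.nn {R : ℚ[X]} (h : Ps R) : Nn R := le_of_lt (show (0 : ℚ) < _ from h)

theorem nn_zero : Nn (0 : ℚ[X]) := by simp [Nn]

theorem ps_ne_zero {R : ℚ[X]} (h : Ps R) : R ≠ 0 := fun h0 => by simp [Ps, h0] at h

theorem Nn.add {R S : ℚ[X]} (h : Nn R) (h' : Nn S) : Nn (R + S) :=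
  nn_of_eventually (by filter_upwards [eventually_nonneg h, eventually_nonneg h'] with m a b; rw [eval_add]; linarith)

theorem Ps.add_nn {R S : ℚ[X]} (h : Ps R) (h' : Nn S) : Ps (R + S) :=
  ps_of_eventually (by filter_upwards [eventually_pos h, eventually_nonneg h'] with m a b; rw [eval_add]; linarith)

theorem Nn.add_ps {R S : ℚ[X]} (h : Nn R) (h' : Ps S) : Ps (R + S) := add_comm S R ▸ h'.add_nn h

theorem Nn.smul {R : ℚ[X]} {c : ℚ} (hc : 0 ≤ c) (h : Nn R) : Nn (c • R) := by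
  simp only [Nn, smul_eq_C_mul, leadingCoeff_mul, leadingCoeff_C]
  exact mul_nonneg hc h

theorem Ps.smul {R : ℚ[X]} {c : ℚ} (hc : 0 < c) (h : Ps R) : Ps (c • R) := by
  simp only [Ps, smul_eq_C_mul, leadingCoeff_mul, leadingCoeff_C]
  exact mul_pos hc h

theorem nn_smul_iff {R : ℚ[X]} {c : ℚ} (hc : 0 < c) : Nn (c • R) ↔ Nn R := by
  refine ⟨fun h => ?_, Nn.smul hc.le⟩
  have := h.smul (inv_nonneg.mpr hc.le)
  rwa [smul_smul, inv_mul_cancel₀ hc.ne', one_smul] at this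

theorem ps_smul_iff {R : ℚ[X]} {c : ℚ} (hc : 0 < c) : Ps (c • R) ↔ Ps R := by
  refine ⟨fun h => ?_, Ps.smul hc⟩
  have := h.smul (inv_pos.mpr hc)
  rwa [smul_smul, inv_mul_cancel₀ hc.ne', one_smul] at this

theorem nn_neg_iff {R : ℚ[X]} : Nn (-R) ↔ ¬ Ps R := by
  simp [Nn, Ps, leadingCoeff_neg]

theorem ps_neg_iff {R : ℚ[X]} : Ps (-R) ↔ ¬ Nn R := by
  simp [Nn, Ps, leadingCoeff_neg]

theorem Nn.eq_zero_of_neg {R : ℚ[X]} (h : Nn R) (h' : Nn (-R)) : R = 0 :=
  leadingCoeff_eq_zero.mp (le_antisymm (by simpa [Nn, leadingCoeff_neg] using h') h)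

theorem Nn.ps_or_eq_zero {R : ℚ[X]} (h : Nn R) : Ps R ∨ R = 0 :=
  (eq_or_lt_of_le h).symm.imp id fun h0 => leadingCoeff_eq_zero.mp h0.symm

theorem ps_of_nn_ne {R : ℚ[X]} (h : Nn R) (h' : R ≠ 0) : Ps R := h.ps_or_eq_zero.resolve_right h'

theorem coeff_nonneg {R : ℚ[X]} {d : ℕ} (hR : R.natDegree ≤ d) (h : Nn R) : 0 ≤ R.coeff d := by
  rcases eq_or_lt_of_le hR with h0 | h0
  · subst h0; exact h
  · exact (coeff_eq_zero_of_natDegree_lt h0).ge

theorem polyLE_iff {P Q : ℚ[X]} : StabCat.PolyLE P Q ↔ Nn (Q - P) := by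
  refine ⟨fun ⟨N, hN⟩ => nn_of_eventually ?_, fun h => ?_⟩
  · filter_upwards [eventually_ge_atTop N] with m hm
    rw [eval_sub]; linarith [hN m hm]
  · obtain ⟨N, hN⟩ := eventually_atTop.mp (eventually_nonneg h)
    exact ⟨N, fun m hm => by have := hN m hm; rw [eval_sub] at this; linarith⟩

theorem polyLT_iff {P Q : ℚ[X]} : StabCat.PolyLT P Q ↔ Ps (Q - P) := by
  refine ⟨fun ⟨N, hN⟩ => ps_of_eventually ?_, fun h => ?_⟩
  · filter_upwards [eventually_ge_atTop N] with m hm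
    rw [eval_sub]; linarith [hN m hm]
  · obtain ⟨N, hN⟩ := eventually_atTop.mp (eventually_pos h)
    exact ⟨N, fun m hm => by have := hN m hm; rw [eval_sub] at this; linarith⟩

variable (d : ℕ)

/-- The defect `α(P)·Q − α(Q)·P` of a reduced comparison. -/
def dd (P Q : ℚ[X]) : ℚ[X] := StabCat.alpha d P • Q - StabCat.alpha d Q • P

theorem redLE_iff {P Q : ℚ[X]} : StabCat.RedLE d P Q ↔ Nn (dd d P Q) := polyLE_iff

theorem redLT_iff {P Q : ℚ[X]} : StabCat.RedLT d P Q ↔ Ps (dd d P Q) := polyLT_iff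

theorem redEq_iff {P Q : ℚ[X]} : StabCat.RedEq d P Q ↔ dd d P Q = 0 :=
  sub_eq_zero.symm.trans ((neg_eq_zero.symm).trans (by rw [neg_sub]; rfl))

theorem alpha_add (P Q : ℚ[X]) : StabCat.alpha d (P + Q) = StabCat.alpha d P + StabCat.alpha d Q := by
  simp [StabCat.alpha, mul_add]

theorem alpha_sub (P Q : ℚ[X]) : StabCat.alpha d (P - Q) = StabCat.alpha d P - StabCat.alpha d Q := by
  simp [StabCat.alpha, mul_sub]

theorem alpha_zero : StabCat.alpha d 0 = 0 := by simp [StabCat.alpha]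

theorem alpha_nonneg {P : ℚ[X]} (hP : P.natDegree ≤ d) (h : Nn P) : 0 ≤ StabCat.alpha d P :=
  mul_nonneg (Nat.cast_nonneg _) (coeff_nonneg hP h)

theorem dd_swap (P Q : ℚ[X]) : dd d Q P = -dd d P Q := by simp [dd]

theorem dd_self (P : ℚ[X]) : dd d P P = 0 := sub_self _

theorem dd_zero_left (Q : ℚ[X]) : dd d 0 Q = 0 := by simp [dd, alpha_zero]

theorem dd_zero_right (P : ℚ[X]) : dd d P 0 = 0 := by simp [dd, alpha_zero]

theorem dd_add_left (P P' Q : ℚ[X]) : dd d (P + P') Q = dd d P Q + dd d P' Q := by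
  simp only [dd, alpha_add, add_smul, smul_add]; abel

theorem dd_add_right (P Q Q' : ℚ[X]) : dd d P (Q + Q') = dd d P Q + dd d P Q' := by
  simp only [dd, alpha_add, add_smul, smul_add]; abel

theorem dd_sub_left (P P' Q : ℚ[X]) : dd d (P - P') Q = dd d P Q - dd d P' Q := by
  simp only [dd, alpha_sub, sub_smul, smul_sub]; abel

theorem dd_sub_right (P Q Q' : ℚ[X]) : dd d P (Q - Q') = dd d P Q - dd d P Q' := by
  simp only [dd, alpha_sub, sub_smul, smul_sub]; abel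

theorem smul_dd_trans (A B C : ℚ[X]) :
    StabCat.alpha d B • dd d A C = StabCat.alpha d A • dd d B C + StabCat.alpha d C • dd d A B := by
  simp only [dd, smul_sub, smul_smul]
  rw [mul_comm (StabCat.alpha d B) (StabCat.alpha d A), mul_comm (StabCat.alpha d B) (StabCat.alpha d C),
    mul_comm (StabCat.alpha d A) (StabCat.alpha d C)]
  abel

theorem dd_of_alpha_zero {P Q : ℚ[X]} (h : StabCat.alpha d P = 0) :
    dd d P Q = -(StabCat.alpha d Q • P) := by simp [dd, h]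

theorem dd_trans {A B C : ℚ[X]} (hA : 0 ≤ StabCat.alpha d A) (hB : 0 < StabCat.alpha d B)
    (hC : 0 ≤ StabCat.alpha d C) (h₁ : Nn (dd d A B)) (h₂ : Nn (dd d B C)) : Nn (dd d A C) := by
  rw [← nn_smul_iff hB, smul_dd_trans]
  exact (h₂.smul hA).add (h₁.smul hC)

theorem dd_trans_lt_le {A B C : ℚ[X]} (hA : 0 ≤ StabCat.alpha d A) (hB : 0 < StabCat.alpha d B)
    (hC : 0 < StabCat.alpha d C) (h₁ : Ps (dd d A B)) (h₂ : Nn (dd d B C)) : Ps (dd d A C) := by
  rw [← ps_smul_iff hB, smul_dd_trans]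
  exact (h₂.smul hA).add_ps (h₁.smul hC)

theorem dd_trans_le_lt {A B C : ℚ[X]} (hA : 0 < StabCat.alpha d A) (hB : 0 < StabCat.alpha d B)
    (hC : 0 ≤ StabCat.alpha d C) (h₁ : Nn (dd d A B)) (h₂ : Ps (dd d B C)) : Ps (dd d A C) := by
  rw [← ps_smul_iff hB, smul_dd_trans]
  exact (h₂.smul hA).add_nn (h₁.smul hC)

end StabLib

end
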