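import Groth.Agent.StabLib.Lattice
import Groth.Agent.HilbPolyLib.Pos
import Groth.Agent.QCohLib.Coherent
import Mathlib.CategoryTheory.Subobject.Limits
import Mathlib.Algebra.Group.ForwardDiff

/-!
# The valuation on coherent submodules
-/

set_option autoImplicit false
universe u

open CategoryTheory CategoryTheory.Limits AlgebraicGeometry TopologicalSpace Opposite
open DevissLib HilbPolyLib

noncomputable section

namespace StabLib

variable {X : Scheme.{u}} {k : Type u} [Field k] [X.Over (Spec (CommRingCat.of k))]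
  [IsProper (X ↘ Spec (CommRingCat.of k))] {L : X.Modules} (hA : CohB1.IsAmple L)

/-- Integer-valued polynomials have integral multiplicity. -/
theorem alpha_int {d : ℕ} {P : Polynomial ℚ} (hP : P.natDegree ≤ d)
    (hint : ∀ m : ℕ, ∃ z : ℤ, P.eval (m : ℚ) = z) : ∃ n : ℤ, StabCat.alpha d P = n := by
  have key : ∀ (j : ℕ) (Q : Polynomial ℚ), Q.natDegree ≤ j → (∀ m : ℕ, ∃ z : ℤ, Q.eval (m : ℚ) = z) →
      ∃ n : ℤ, StabCat.alpha j Q = n := by
    intro j
    induction j with
    | zero =>
      intro Q hQ hQi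
      obtain ⟨z, hz⟩ := hQi 0
      refine ⟨z, ?_⟩
      rw [← hz, Polynomial.eq_C_of_natDegree_le_zero hQ]
      simp [StabCat.alpha]
    | succ j ih =>
      intro Q hQ hQi
      let R := Q.comp (Polynomial.X + Polynomial.C 1) - Q
      have hRi : ∀ m : ℕ, ∃ z : ℤ, R.eval (m : ℚ) = z := fun m => by
        obtain ⟨z, hz⟩ := hQi (m + 1)
        obtain ⟨z', hz'⟩ := hQi m
        exact ⟨z - z', by simp [R, Polynomial.eval_sub, hz', ← hz]⟩
      have hco : ∀ i, j ≤ i → R.coeff i = (i + 1 : ℚ) * Q.coeff (i + 1) := fun i hi => by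
        have h1 : R.coeff i = (Polynomial.taylor 1 Q).coeff i - Q.coeff i := by
          simp [R, Polynomial.taylor_apply]
        rw [h1, Polynomial.taylor_coeff, Polynomial.eval_eq_sum_range' (n := 2) (show (Polynomial.hasseDeriv i Q).natDegree < 2 from
          lt_of_le_of_lt (Polynomial.natDegree_hasseDeriv_le _ _) (by omega))]
        simp [Finset.sum_range_succ, Polynomial.hasseDeriv_coeff, add_comm 1 i]
      have hRdeg : R.natDegree ≤ j := Polynomial.natDegree_le_iff_coeff_eq_zero.mpr fun i hi => by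
        rw [hco i hi.le, Polynomial.coeff_eq_zero_of_natDegree_lt (by omega : Q.natDegree < i + 1), mul_zero]
      obtain ⟨n, hn⟩ := ih R hRdeg hRi
      refine ⟨n, ?_⟩
      rw [← hn, StabCat.alpha, StabCat.alpha, hco j le_rfl, Nat.factorial_succ]
      push_cast
      ring
  exact key d P hP hint

variable (k) in
/-- The Hilbert polynomial. -/
def HPoly (L F : X.Modules) : Polynomial ℚ :=
  Classical.epsilon fun P => ShStab.IsHilbPoly k X L F P

include hA in
theorem hPoly_spec {F : X.Modules} (hF : Coh.IsCoh F) : ShStab.IsHilbPoly k X L F (HPoly k L F) :=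
  Classical.epsilon_spec (exists_isHilbPoly' hA.1 hF)

include hA in
theorem hPoly_eq {F : X.Modules} (hF : Coh.IsCoh F) {P : Polynomial ℚ}
    (hP : ShStab.IsHilbPoly k X L F P) : HPoly k L F = P :=
  isHilbPoly_unique (hPoly_spec hA hF) hP

include hA in
theorem hPoly_congr {F G : X.Modules} (hF : Coh.IsCoh F) (e : F ≅ G) : HPoly k L F = HPoly k L G :=
  (hPoly_eq hA (QCohLib.isCoh_of_iso e hF) (isHilbPoly_congr e (hPoly_spec hA hF))).symm

include hA in
theorem hPoly_add {S : ShortComplex X.Modules} (hS : S.ShortExact) (h₁ : Coh.IsCoh S.X₁)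
    (h₂ : Coh.IsCoh S.X₂) (h₃ : Coh.IsCoh S.X₃) :
    HPoly k L S.X₂ = HPoly k L S.X₁ + HPoly k L S.X₃ :=
  hPoly_eq hA h₂ (isHilbPoly_add hA.1 hS h₁ h₂ h₃ (hPoly_spec hA h₁) (hPoly_spec hA h₃))

include hA in
theorem hPoly_zero {F : X.Modules} (hF : IsZero F) : HPoly k L F = 0 :=
  isHilbPoly_eq_zero_of_isZero hA.1 hF (hPoly_spec hA (isCoh_of_isZero hF))

include hA in
theorem hPoly_coker {A B : X.Modules} (f : A ⟶ B) [Mono f] (h₁ : Coh.IsCoh A) (h₂ : Coh.IsCoh B) :
    HPoly k L B = HPoly k L A + HPoly k L (cokernel f) := by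
  let S : ShortComplex X.Modules := ShortComplex.mk f (cokernel.π f) (cokernel.condition f)
  have hS : S.ShortExact :=
    { exact := ShortComplex.exact_of_g_is_cokernel _ (cokernelIsCokernel f)
      mono_f := inferInstanceAs (Mono f)
      epi_g := inferInstanceAs (Epi (cokernel.π f)) }
  exact hPoly_add (S := S) hA hS h₁ h₂ (QCohLib.isCoh_cokernel f h₁.1 h₂)

include hA in
theorem hPoly_ker {A B : X.Modules} (f : A ⟶ B) [Epi f] (h₁ : Coh.IsCoh A) (h₂ : Coh.IsCoh B) :
    HPoly k L A = HPoly k L (kernel f) + HPoly k L B := by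
  haveI := CurvLib.isNoetherian k (X := X)
  let S : ShortComplex X.Modules := ShortComplex.mk (kernel.ι f) f (kernel.condition f)
  have hS : S.ShortExact :=
    { exact := ShortComplex.exact_of_f_is_kernel _ (kernelIsKernel f)
      mono_f := inferInstanceAs (Mono (kernel.ι f))
      epi_g := inferInstanceAs (Epi f) }
  exact hPoly_add (S := S) hA hS (QCohLib.isCoh_kernel f h₁ h₂.1) h₁ h₂

theorem dim_mono {S T : Set X} (h : S ⊆ T) : topologicalKrullDim S ≤ topologicalKrullDim T :=
  Topology.IsInducing.topologicalKrullDim_le (f := Set.inclusion h)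
    (Topology.IsEmbedding.inclusion _).isInducing

include hA in
theorem hPoly_deg {F : X.Modules} (hF : Coh.IsCoh F) {d : ℕ}
    (hd : topologicalKrullDim (CohB1.support F) ≤ (d : ℕ)) : (HPoly k L F).natDegree ≤ d :=
  natDegree_le hA hF (hPoly_spec hA hF) hd

include hA in
theorem hPoly_nn {F : X.Modules} (hF : Coh.IsCoh F) : Nn (HPoly k L F) := by
  obtain ⟨N, hN⟩ := HilbPolyLib.eventually_nonneg hA hF (hPoly_spec (k := k) hA hF)
  exact nn_of_eventually (Filter.eventually_atTop.mpr ⟨N, hN⟩)

theorem exists_dim_eq {F : X.Modules} (k : Type u) [Field k] [X.Over (Spec (CommRingCat.of k))]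
    [IsProper (X ↘ Spec (CommRingCat.of k))] (h0 : ¬ IsZero F) :
    ∃ e : ℕ, topologicalKrullDim (CohB1.support F) = (e : ℕ) := by
  obtain ⟨D, hD⟩ := exists_dim_lt k (X := X)
  obtain ⟨x, hx⟩ : (CohB1.support F).Nonempty := Set.nonempty_iff_ne_empty.mpr fun h =>
    h0 (isZero_of_support_empty h)
  haveI : Nonempty (IrreducibleCloseds (CohB1.support F)) :=
    ⟨⟨closure {⟨x, hx⟩}, isIrreducible_singleton.closure, isClosed_closure⟩⟩
  have h1 : (0 : WithBot ℕ∞) ≤ topologicalKrullDim (CohB1.support F) := Order.krullDim_nonneg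
  have h2 := (topologicalKrullDim_subspace_le X (CohB1.support F)).trans_lt hD
  revert h1 h2
  generalize topologicalKrullDim (CohB1.support F) = a
  intro h1 h2
  induction a with
  | bot => simp at h1
  | coe a =>
    induction a with
    | top =>
      exfalso
      have : ((⊤ : ℕ∞) : WithBot ℕ∞) < ((D : ℕ∞) : WithBot ℕ∞) := h2
      exact not_top_lt (WithBot.coe_lt_coe.mp this)
    | coe n => exact ⟨n, rfl⟩

include hA in
theorem hPoly_ps {F : X.Modules} (hF : Coh.IsCoh F) (h0 : ¬ IsZero F) : Ps (HPoly k L F) := by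
  refine ps_of_nn_ne (hPoly_nn hA hF) fun h => ?_
  obtain ⟨e, he⟩ := exists_dim_eq k h0
  have := alpha_pos hA hF (hPoly_spec (k := k) hA hF) he
  rw [h, alpha_zero] at this
  exact lt_irrefl _ this

include hA in
theorem hPoly_alpha_pos_iff {F : X.Modules} (hF : Coh.IsCoh F) {d : ℕ}
    (hd : topologicalKrullDim (CohB1.support F) ≤ (d : ℕ)) :
    0 < StabCat.alpha d (HPoly k L F) ↔ topologicalKrullDim (CohB1.support F) = (d : ℕ) := by
  refine ⟨fun h => ?_, fun h => alpha_pos hA hF (hPoly_spec hA hF) h⟩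
  refine le_antisymm hd (not_lt.mp fun hlt => ?_)
  obtain ⟨P, hP, hP'⟩ := exists_isHilbPoly (k := k) hA.1 hF hlt
  rw [hPoly_eq hA hF hP', StabCat.alpha, Polynomial.coeff_eq_zero_of_degree_lt hP, mul_zero] at h
  exact lt_irrefl _ h

/-- Coherent subobjects. -/
abbrev CSub (E : X.Modules) : Type (u + 1) := {S : Subobject E // Coh.IsCoh (S : X.Modules)}

variable {E : X.Modules}

section Noetherian

variable [IsNoetherian X] (hE : Coh.IsCoh E)

include hE

theorem isCoh_inf {a b : Subobject E} (ha : Coh.IsCoh (a : X.Modules)) (hb : Coh.IsCoh (b : X.Modules)) :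
    Coh.IsCoh ((a ⊓ b : Subobject E) : X.Modules) := by
  have h := QCohLib.isCoh_kernel (a.arrow ≫ cokernel.π b.arrow) ha
    (QCohLib.isCoh_cokernel b.arrow hb.1 hE).1
  have e : Subobject.mk (kernel.ι (a.arrow ≫ cokernel.π b.arrow) ≫ a.arrow) = a ⊓ b := by
    refine le_antisymm ?_ ?_
    · refine le_inf (Subobject.mk_le_of_comm (kernel.ι _) rfl) ?_
      exact Subobject.mk_le_of_comm (Abelian.monoLift b.arrow
        (kernel.ι (a.arrow ≫ cokernel.π b.arrow) ≫ a.arrow) (by rw [Category.assoc, kernel.condition]))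
        (Abelian.monoLift_comp _ _ _)
    · refine Subobject.le_mk_of_comm (kernel.lift _ (Subobject.ofLE _ a inf_le_left) ?_) ?_
      · rw [Subobject.ofLE_arrow_assoc, ← Subobject.ofLE_arrow (inf_le_right : a ⊓ b ≤ b), Category.assoc,
          cokernel.condition, comp_zero]
      · rw [kernel.lift_ι_assoc, Subobject.ofLE_arrow]
  rw [← e]
  exact QCohLib.isCoh_of_iso (Subobject.underlyingIso _).symm h

omit hE in
theorem imageSubobject_desc (a b : Subobject E) :
    imageSubobject (biprod.desc a.arrow b.arrow) = a ⊔ b := by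
  refine le_antisymm ?_ (sup_le ?_ ?_)
  · refine imageSubobject_le _ (biprod.desc (Subobject.ofLE a _ le_sup_left) (Subobject.ofLE b _ le_sup_right)) ?_
    apply biprod.hom_ext' <;> simp
  · exact Subobject.le_of_comm (biprod.inl ≫ factorThruImageSubobject (biprod.desc a.arrow b.arrow))
      (by rw [Category.assoc, imageSubobject_arrow_comp, biprod.inl_desc])
  · exact Subobject.le_of_comm (biprod.inr ≫ factorThruImageSubobject (biprod.desc a.arrow b.arrow))
      (by rw [Category.assoc, imageSubobject_arrow_comp, biprod.inr_desc])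

omit hE in
/-- The sum of two subobjects as an image. -/
def supIso (a b : Subobject E) :
    Abelian.image (biprod.desc a.arrow b.arrow) ≅ ((a ⊔ b : Subobject E) : X.Modules) :=
  Abelian.imageIsoImage _ ≪≫ (imageSubobjectIso _).symm ≪≫ Subobject.isoOfEq _ _ (imageSubobject_desc a b)

theorem isCoh_sup {a b : Subobject E} (ha : Coh.IsCoh (a : X.Modules)) (hb : Coh.IsCoh (b : X.Modules)) :
    Coh.IsCoh ((a ⊔ b : Subobject E) : X.Modules) :=
  QCohLib.isCoh_of_iso (supIso a b) (isCoh_image _ (DevissLib.isCoh_biprod ha hb) hE)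

omit hE in
/-- The kernel of `a ⊞ b ⟶ E` is the intersection. -/
def kerDescIso (a b : Subobject E) :
    kernel (biprod.desc a.arrow b.arrow) ≅ ((a ⊓ b : Subobject E) : X.Modules) := by
  let φ := biprod.desc a.arrow b.arrow
  let p : kernel φ ⟶ (a : X.Modules) := kernel.ι φ ≫ biprod.fst
  have hp : p ≫ a.arrow = (-(kernel.ι φ ≫ biprod.snd)) ≫ b.arrow := by
    rw [eq_comm, Preadditive.neg_comp, neg_eq_iff_add_eq_zero, Category.assoc, Category.assoc,
      ← Preadditive.comp_add, add_comm (biprod.snd ≫ b.arrow), ← biprod.desc_eq, kernel.condition]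
  have hfac : (a ⊓ b).Factors (p ≫ a.arrow) :=
    (Subobject.inf_factors _).mpr ⟨Subobject.factors_comp_arrow p, hp.symm ▸ Subobject.factors_comp_arrow _⟩
  let t : ((a ⊓ b : Subobject E) : X.Modules) ⟶ ((a : X.Modules) ⊞ (b : X.Modules)) :=
    biprod.lift (Subobject.ofLE _ a inf_le_left) (-Subobject.ofLE _ b inf_le_right)
  have ht : t ≫ φ = 0 := by
    simp [t, φ, biprod.lift_desc, Preadditive.neg_comp]
  refine ⟨(a ⊓ b).factorThru _ hfac, kernel.lift φ t ht, ?_, ?_⟩
  · apply (cancel_mono (kernel.ι φ)).mp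
    rw [Category.assoc, kernel.lift_ι, Category.id_comp]
    apply biprod.hom_ext
    · rw [Category.assoc, biprod.lift_fst, ← cancel_mono a.arrow, Category.assoc, Subobject.ofLE_arrow,
        Subobject.factorThru_arrow]
    · rw [Category.assoc, biprod.lift_snd, ← cancel_mono b.arrow, Category.assoc, Preadditive.neg_comp,
        Subobject.ofLE_arrow, Preadditive.comp_neg, Subobject.factorThru_arrow, hp, Preadditive.neg_comp,
        neg_neg]
  · apply (cancel_mono (a ⊓ b).arrow).mp
    rw [Category.assoc, Subobject.factorThru_arrow, Category.id_comp]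
    simp only [p]
    rw [← Category.assoc, ← Category.assoc, kernel.lift_ι, biprod.lift_fst, Subobject.ofLE_arrow]

/-- The lattice of coherent subobjects. -/
@[reducible] def cLattice : Lattice (CSub E) :=
  Subtype.lattice (fun _ _ ha hb => isCoh_sup hE ha hb) (fun _ _ ha hb => isCoh_inf hE ha hb)

theorem isCoh_bot : Coh.IsCoh ((⊥ : Subobject E) : X.Modules) :=
  isCoh_of_isZero ((isZero_zero _).of_iso Subobject.botCoeIsoZero)

theorem isCoh_top : Coh.IsCoh ((⊤ : Subobject E) : X.Modules) :=
  QCohLib.isCoh_of_iso (asIso (⊤ : Subobject E).arrow).symm hE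

/-- The bounds. -/
@[reducible] def cBounded :
    letI := cLattice hE
    BoundedOrder (CSub E) :=
  letI := cLattice hE
  { top := ⟨⊤, isCoh_top hE⟩
    bot := ⟨⊥, isCoh_bot hE⟩
    le_top := fun a => (le_top : a.1 ≤ ⊤)
    bot_le := fun a => (bot_le : ⊥ ≤ a.1) }

theorem cWf :
    letI := cLattice hE
    WellFoundedGT (CSub E) := by
  letI := cLattice hE
  rw [wellFoundedGT_iff_monotone_chain_condition]
  intro F
  obtain ⟨n, hn⟩ := QCohLib.acc_subobjects E hE ⟨fun m => (F m).1, fun _ _ h => F.monotone h⟩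
    (fun m => (F m).2.1)
  exact ⟨n, fun m hm => Subtype.ext (hn m hm).symm⟩

end Noetherian

/-- The valuation by Hilbert polynomials. -/
def cVal [IsNoetherian X] (hE : Coh.IsCoh E) {d : ℕ}
    (hd : topologicalKrullDim (CohB1.support E) ≤ (d : ℕ)) :
    letI := cLattice hE
    letI := cBounded hE
    Val (CSub E) d :=
  letI := cLattice hE
  letI := cBounded hE
  have hsub : ∀ a : CSub E, topologicalKrullDim (CohB1.support (a.1 : X.Modules)) ≤ (d : ℕ) := fun a =>
    (dim_mono (support_mono a.1.arrow)).trans hd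
  { P := fun a => HPoly k L (a.1 : X.Modules)
    P_bot := hPoly_zero hA ((isZero_zero _).of_iso Subobject.botCoeIsoZero)
    modular := fun a b => by
      change HPoly k L ((a.1 ⊔ b.1 : Subobject E) : X.Modules) +
        HPoly k L ((a.1 ⊓ b.1 : Subobject E) : X.Modules) = _
      let φ := biprod.desc a.1.arrow b.1.arrow
      have hab := DevissLib.isCoh_biprod a.2 b.2
      have hI := isCoh_image φ hab hE
      have hK := QCohLib.isCoh_kernel φ hab hE.1
      have h1 := hPoly_add (k := k) (S := kerImSeq φ) hA (kerImSeq_shortExact φ) hK hab hI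
      have h2 := hPoly_coker (k := k) hA (biprod.inl : (a.1 : X.Modules) ⟶ _ ⊞ (b.1 : X.Modules)) a.2 hab
      have e3 : HPoly k L (cokernel (biprod.inl : (a.1 : X.Modules) ⟶ _ ⊞ (b.1 : X.Modules))) =
          HPoly k L (b.1 : X.Modules) :=
        hPoly_congr hA (QCohLib.isCoh_cokernel _ a.2.1 hab)
          ((cokernelIsCokernel _).coconePointUniqueUpToIso (biprod.isCokernelInlCokernelFork _ _))
      rw [← hPoly_congr hA hI (supIso a.1 b.1), ← hPoly_congr hA hK (kerDescIso a.1 b.1), add_comm]
      refine h1.symm.trans ?_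
      change HPoly k L (_ ⊞ _) = _
      rw [h2, e3]
    lt := fun {a b} hab => by
      have h := hPoly_coker (k := k) hA (Subobject.ofLE a.1 b.1 hab.le) a.2 b.2
      rw [h, add_sub_cancel_left]
      refine hPoly_ps hA (QCohLib.isCoh_cokernel _ a.2.1 b.2) fun hz => hab.not_ge ?_
      haveI : Epi (Subobject.ofLE a.1 b.1 hab.le) :=
        Preadditive.epi_of_cancel_zero _ fun g hg => by
          rw [← cokernel.π_desc _ g hg, hz.eq_of_src (cokernel.desc _ g hg) 0, comp_zero]
      haveI : IsIso (Subobject.ofLE a.1 b.1 hab.le) := isIso_of_mono_of_epi _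
      exact Subobject.le_of_comm (inv (Subobject.ofLE a.1 b.1 hab.le))
        (by rw [IsIso.inv_comp_eq, Subobject.ofLE_arrow])
    deg := fun a => hPoly_deg hA a.2 (hsub a)
    int := fun a => alpha_int (hPoly_deg hA a.2 (hsub a))
      fun m => ⟨Curv2.euler k X (ShStab.twist X L (a.1 : X.Modules) m), (hPoly_spec hA a.2 m).symm⟩ }

end StabLib

end
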